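import Groth.Agent.CohPullLib.ModDescend
import Groth.Agent.FlatSyz5.Colim
import Groth.Agent.LimSm.Model
import Groth.Agent.S2074

/-!
# Proper flat families descend to noetherian bases
-/

set_option backward.isDefEq.respectTransparency false
set_option backward.isDefEq.respectTransparency.types false
set_option linter.style.haveILetI false
set_option maxRecDepth 4000
set_option maxHeartbeats 1000000

universe u

open CategoryTheory CategoryTheory.Limits AlgebraicGeometry TopologicalSpace Opposite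
open scoped TensorProduct

namespace Groth.Agent.CohPullLib

open Groth.Agent.QCoh

theorem flat_of_bijective_algebraMap {A S M : Type u} [CommRing A] [CommRing S] [Algebra A S] [AddCommGroup M]
    [Module A M] [Module S M] [IsScalarTower A S M] (hb : Function.Bijective (algebraMap A S)) [Module.Flat A M] :
    Module.Flat S M := by
  let eS : A ≃ₐ[A] S := AlgEquiv.ofBijective (Algebra.ofId A S) hb
  let e : S ⊗[A] M ≃ₗ[A] M :=
    (TensorProduct.congr eS.symm.toLinearEquiv (LinearEquiv.refl A M)).trans (TensorProduct.lid A M)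
  have h : IsBaseChange S (LinearMap.id : M →ₗ[A] M) := by
    refine IsBaseChange.of_equiv (e.toAddEquiv.toLinearEquiv fun s x => ?_) fun x => ?_
    · obtain ⟨a, rfl⟩ := hb.2 s
      show e (algebraMap A S a • x) = algebraMap A S a • e x
      rw [algebraMap_smul, algebraMap_smul]
      exact e.map_smul a x
    · show eS.symm 1 • x = x
      rw [map_one, one_smul]
  exact Module.Flat.of_linearEquiv h.equiv.symm

section Sections

variable {A : Type u} [CommRing A] {X : Scheme.{u}} (f : X ⟶ Spec (CommRingCat.of A)) {F : X.Modules}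

theorem flat_secModule_of_isFlatOver (hF : Coh.IsQCoh F) (hfl : FlatMod.IsFlatOver f F) {V : X.Opens}
    (hV : IsAffineOpen V) :
    letI := secModule (Coh.toGlobal f) F V
    Module.Flat A Γ(F, V) := by
  letI := secModule (Coh.toGlobal f) F V
  letI : Module Γ(Spec (CommRingCat.of A), ⊤) Γ(F, V) :=
    Module.compHom _ (f.appLE ⊤ V (fun _ _ => trivial)).hom
  have h : Module.Flat Γ(Spec (CommRingCat.of A), ⊤) Γ(F, V) :=
    (flat_appLE_iff f hF hV (isAffineOpen_top _) fun _ _ => trivial).2 fun x _ => hfl x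
  letI : Algebra A Γ(Spec (CommRingCat.of A), ⊤) := (Scheme.ΓSpecIso (CommRingCat.of A)).inv.hom.toAlgebra
  haveI : IsScalarTower A Γ(Spec (CommRingCat.of A), ⊤) Γ(F, V) := .of_algebraMap_smul fun _ _ => rfl
  have hs : Function.Bijective (algebraMap A Γ(Spec (CommRingCat.of A), ⊤)) :=
    ConcreteCategory.bijective_of_isIso (Scheme.ΓSpecIso (CommRingCat.of A)).inv
  haveI : Module.Flat A Γ(Spec (CommRingCat.of A), ⊤) :=
    Module.Flat.of_linearEquiv (LinearEquiv.ofBijective (Algebra.linearMap A _) hs).symm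
  exact Module.Flat.trans A Γ(Spec (CommRingCat.of A), ⊤) Γ(F, V)

theorem isFlatOver_of_flat_secModule (hF : Coh.IsQCoh F) {ι : Type u} (V : ι → X.Opens)
    (hV : ∀ i, IsAffineOpen (V i)) (hcov : ∀ x, ∃ i, x ∈ V i)
    (h : ∀ i, letI := secModule (Coh.toGlobal f) F (V i)
      Module.Flat A Γ(F, V i)) : FlatMod.IsFlatOver f F := by
  intro x
  obtain ⟨i, hi⟩ := hcov x
  letI := secModule (Coh.toGlobal f) F (V i)
  haveI := h i
  letI : Module Γ(Spec (CommRingCat.of A), ⊤) Γ(F, V i) :=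
    Module.compHom _ (f.appLE ⊤ (V i) (fun _ _ => trivial)).hom
  letI : Algebra A Γ(Spec (CommRingCat.of A), ⊤) := (Scheme.ΓSpecIso (CommRingCat.of A)).inv.hom.toAlgebra
  haveI : IsScalarTower A Γ(Spec (CommRingCat.of A), ⊤) Γ(F, V i) := .of_algebraMap_smul fun _ _ => rfl
  haveI : Module.Flat Γ(Spec (CommRingCat.of A), ⊤) Γ(F, V i) :=
    flat_of_bijective_algebraMap (A := A) (ConcreteCategory.bijective_of_isIso (Scheme.ΓSpecIso (CommRingCat.of A)).inv)
  exact (flat_appLE_iff f hF (hV i) (isAffineOpen_top _) fun _ _ => trivial).1 ‹_› x hi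

end Sections

section Stage

variable {A : Type u} [CommRing A]

/-- Finitely generated subrings above a given one. -/
abbrev StageIdx (A₁ : Subalgebra ℤ A) : Type u := {B : Subalgebra ℤ A // B.FG ∧ A₁ ≤ B}

/-- The rings of the stages. -/
abbrev StageRing {A₁ : Subalgebra ℤ A} (i : StageIdx A₁) : Type u := ↥i.1

noncomputable instance stageAlgebra {A₁ : Subalgebra ℤ A} (i : StageIdx A₁) : Algebra ↥A₁ (StageRing i) :=
  (Subalgebra.inclusion i.2.2).toRingHom.toAlgebra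

instance stageTower {A₁ : Subalgebra ℤ A} (i : StageIdx A₁) : IsScalarTower ↥A₁ (StageRing i) A :=
  IsScalarTower.of_algebraMap_eq fun _ => rfl

theorem exists_flat_stage_sub {A₁ : Subalgebra ℤ A} (hA₁ : A₁.FG)
    {B₀ : Type u} [CommRing B₀] [Algebra ↥A₁ B₀] [Algebra.FinitePresentation ↥A₁ B₀]
    (M₀ : Type u) [AddCommGroup M₀] [Module B₀ M₀] [Module ↥A₁ M₀] [IsScalarTower ↥A₁ B₀ M₀]
    [Module.FinitePresentation B₀ M₀] (hflat : Module.Flat A (A ⊗[↥A₁] M₀)) :
    ∃ i : StageIdx A₁, Module.Flat (StageRing i) (StageRing i ⊗[↥A₁] M₀) := by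
  refine FlatSyz5.exists_flat_stage (B₀ := B₀) (fun i : StageIdx A₁ => StageRing i)
    (fun i j h => { toRingHom := (Subalgebra.inclusion (show i.1 ≤ j.1 from h)).toRingHom, commutes' := fun _ => rfl })
    A ⟨⟨fun i j => ⟨⟨i.1 ⊔ j.1, i.2.1.sup j.2.1, i.2.2.trans le_sup_left⟩,
      (le_sup_left : i.1 ≤ i.1 ⊔ j.1), (le_sup_right : j.1 ≤ i.1 ⊔ j.1)⟩⟩,
      ⟨⟨A₁, hA₁, le_rfl⟩⟩, fun i => rfl, fun i j k _ _ => rfl, fun i j _ => rfl, fun a => ?_, fun i x hx => ?_⟩
    M₀ hflat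
  · exact ⟨⟨A₁ ⊔ Algebra.adjoin ℤ {a}, hA₁.sup ⟨{a}, by simp⟩, le_sup_left⟩,
      ⟨a, (le_sup_right : Algebra.adjoin ℤ {a} ≤ A₁ ⊔ Algebra.adjoin ℤ {a})
        (Algebra.subset_adjoin (Set.mem_singleton a))⟩, rfl⟩
  · exact ⟨i, le_rfl, Subtype.ext hx⟩

theorem isNoetherianRing_of_fg {A₁ : Subalgebra ℤ A} (h : A₁.FG) : IsNoetherianRing ↥A₁ :=
  haveI : Algebra.FiniteType ℤ ↥A₁ := (Subalgebra.fg_iff_finiteType A₁).1 h
  Algebra.FiniteType.isNoetherianRing ℤ ↥A₁

end Stage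

/-- Proper flat families of finite presentation come from noetherian bases. -/
theorem exists_noetherian_model {A : Type u} [CommRing A] {X : Scheme.{u}} (f : X ⟶ Spec (CommRingCat.of A))
    [IsProper f] [LocallyOfFinitePresentation f] {F : X.Modules} (hF : Coh.IsQCoh F) (hfp : CohB1.IsFP F)
    (hfl : FlatMod.IsFlatOver f F) :
    ∃ (A₂ : Subalgebra ℤ A) (X₂ : Scheme.{u}) (f₂ : X₂ ⟶ Spec (CommRingCat.of ↥A₂)) (g₂ : X ⟶ X₂) (G : X₂.Modules),
      A₂.FG ∧ IsProper f₂ ∧ IsPullback g₂ f f₂ (Spec.map (CommRingCat.ofHom (algebraMap (↥A₂) A))) ∧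
        Coh.IsCoh G ∧ FlatMod.IsFlatOver f₂ G ∧ Nonempty ((Scheme.Modules.pullback g₂).obj G ≅ F) := by
  classical
  obtain ⟨A₀, hA₀, X₀, f₀, g, hf₀, -, hlfp, -, -, hg⟩ :=
    LimSm.exists_model_over_fg (P := @IsProper) (P' := @IsProper) (Q := @LocallyOfFiniteType)
      (Q' := @LocallyOfFiniteType) MorLib.Ultra.core_isProper MorLib.Ultra.core_isProper
      (fun f _ => inferInstance) (fun f _ => inferInstance) A f ‹_› ‹_›
  haveI := hf₀
  haveI := hlfp
  obtain ⟨A₁, hA₁, X₁, f₁, g₁, G, hf₁, hlfp₁, h₁, hG, hGft, ⟨ψ⟩⟩ := exists_module_descend A₀ hA₀ hg hF hfp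
  haveI := hf₁
  haveI := isNoetherianRing_of_fg hA₁
  haveI : IsLocallyNoetherian X₁ := LocallyOfFiniteType.isLocallyNoetherian f₁
  haveI : CompactSpace X₁ := QuasiCompact.compactSpace_of_compactSpace f₁
  haveI : X₁.IsSeparated := ⟨by
    rw [← Limits.terminal.comp_from f₁]
    infer_instance⟩
  haveI : IsAffineHom g₁ := MorphismProperty.of_isPullback h₁.flip inferInstance
  obtain ⟨κ, _, U, hcov, hU⟩ := exists_affine_cover (X := X₁)
  have hU₁ : ∀ k, IsAffineOpen (U k) := fun k => by simpa using hU (p := 0) (fun _ => k)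
  have hcov' : ∀ x : X₁, ∃ k, x ∈ U k := fun x => Opens.mem_iSup.1 (hcov ▸ trivial)
  have hstage : ∀ k, ∃ i : StageIdx A₁,
      letI := secModule (Coh.toGlobal f₁) G (U k)
      Module.Flat (StageRing i) (StageRing i ⊗[↥A₁] Γ(G, U k)) := by
    intro k
    haveI : IsNoetherianRing Γ(X₁, U k) := IsLocallyNoetherian.component_noetherian ⟨U k, hU₁ k⟩
    let ρ : ↥A₁ →+* Γ(X₁, U k) := (X₁.presheaf.map (homOfLE (le_top : U k ≤ ⊤)).op).hom.comp (Coh.toGlobal f₁)
    letI : Algebra ↥A₁ Γ(X₁, U k) := ρ.toAlgebra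
    letI := secModule (Coh.toGlobal f₁) G (U k)
    haveI : IsScalarTower ↥A₁ Γ(X₁, U k) Γ(G, U k) := .of_algebraMap_smul fun _ _ => rfl
    haveI : Algebra.FiniteType ↥A₁ Γ(X₁, U k) := by
      have h2 : RingHom.FiniteType (f₁.appLE ⊤ (U k) (fun _ _ => trivial)).hom :=
        f₁.finiteType_appLE (isAffineOpen_top _) (hU₁ k) _
      have h3 : RingHom.FiniteType ρ := h2.comp (RingHom.FiniteType.of_surjective _
        (ConcreteCategory.bijective_of_isIso (Scheme.ΓSpecIso (CommRingCat.of ↥A₁)).inv).2)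
      exact h3
    haveI : Algebra.FinitePresentation ↥A₁ Γ(X₁, U k) := Algebra.FinitePresentation.of_finiteType.1 ‹_›
    haveI := QCoh.finite_of_isFT hG hGft (hU₁ k)
    haveI : Module.FinitePresentation Γ(X₁, U k) Γ(G, U k) := Module.finitePresentation_of_finite _ _
    refine exists_flat_stage_sub hA₁ (B₀ := Γ(X₁, U k)) Γ(G, U k) ?_
    let F' := (Scheme.Modules.pullback g₁).obj G
    have hρ := toGlobal_comm f₁ f g₁ h₁.w
    letI := secModule (Coh.toGlobal f) F' (g₁ ⁻¹ᵁ U k)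
    letI := secModule ((Coh.toGlobal f).comp (algebraMap (↥A₁) A)) F' (g₁ ⁻¹ᵁ U k)
    haveI : IsScalarTower ↥A₁ A Γ(F', g₁ ⁻¹ᵁ U k) := .of_algebraMap_smul fun _ _ => rfl
    let η : G ⟶ (Scheme.Modules.pushforward g₁).obj F' :=
      (Scheme.Modules.pullbackPushforwardAdjunction g₁).unit.app G
    have hbc : IsBaseChange A (secLin (Coh.toGlobal f₁) (Coh.toGlobal f) g₁ η hρ (U k) (g₁ ⁻¹ᵁ U k) le_rfl) :=
      isAffineBC_of_isPullback h₁ hG (U k) (hU₁ k)
    haveI : Module.Flat A Γ(F', g₁ ⁻¹ᵁ U k) :=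
      flat_secModule_of_isFlatOver f (isQCoh_pullback g₁ hG)
        (isFlatOver_of_iso (f := f) ψ.symm hF hfl) ((hU₁ k).preimage g₁)
    exact Module.Flat.of_linearEquiv hbc.equiv
  choose i hi using hstage
  have := Fintype.ofFinite κ
  let A₂ : Subalgebra ℤ A := A₁ ⊔ Finset.univ.sup fun k => (i k).1
  have hA₂ : A₂.FG := hA₁.sup (Finset.sup_induction ⟨∅, by simp⟩ (fun a ha b hb => ha.sup hb) fun k _ => (i k).2.1)
  letI : Algebra ↥A₁ ↥A₂ := (Subalgebra.inclusion (le_sup_left : A₁ ≤ A₂)).toRingHom.toAlgebra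
  let X₂ := pullback f₁ (Spec.map (CommRingCat.ofHom (algebraMap (↥A₁) (↥A₂))))
  let q : X₂ ⟶ X₁ := pullback.fst _ _
  let f₂ : X₂ ⟶ Spec (CommRingCat.of ↥A₂) := pullback.snd _ _
  have hq : IsPullback q f₂ f₁ (Spec.map (CommRingCat.ofHom (algebraMap (↥A₁) (↥A₂)))) := IsPullback.of_hasPullback _ _
  haveI : IsAffineHom q := MorphismProperty.of_isPullback hq.flip inferInstance
  have hcomp : Spec.map (CommRingCat.ofHom (algebraMap (↥A₂) A)) ≫
      Spec.map (CommRingCat.ofHom (algebraMap (↥A₁) (↥A₂))) =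
      Spec.map (CommRingCat.ofHom (algebraMap (↥A₁) A)) := by
    rw [← Spec.map_comp]
    rfl
  let g₂ : X ⟶ X₂ := hq.lift g₁ (f ≫ Spec.map (CommRingCat.ofHom (algebraMap (↥A₂) A)))
    (by rw [Category.assoc, hcomp, h₁.w])
  have hg₂q : g₂ ≫ q = g₁ := hq.lift_fst _ _ _
  have h₂ : IsPullback g₂ f f₂ (Spec.map (CommRingCat.ofHom (algebraMap (↥A₂) A))) :=
    IsPullback.of_right (by rw [hcomp, hg₂q]; exact h₁) (hq.lift_snd _ _ _) hq
  let G₂ := (Scheme.Modules.pullback q).obj G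
  refine ⟨A₂, X₂, f₂, g₂, G₂, hA₂, MorphismProperty.of_isPullback hq inferInstance, h₂,
    ⟨isQCoh_pullback q hG, isFT_pullback q hG hGft⟩, ?_, ⟨(Scheme.Modules.pullbackComp g₂ q).app G ≪≫
      (Scheme.Modules.pullbackCongr hg₂q).app G ≪≫ ψ⟩⟩
  refine isFlatOver_of_flat_secModule f₂ (isQCoh_pullback q hG) (fun k => q ⁻¹ᵁ U k) (fun k => (hU₁ k).preimage q)
    (fun x => hcov' (q x)) fun k => ?_
  letI := secModule (Coh.toGlobal f₁) G (U k)
  letI := secModule (Coh.toGlobal f₂) G₂ (q ⁻¹ᵁ U k)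
  letI := secModule ((Coh.toGlobal f₂).comp (algebraMap (↥A₁) (↥A₂))) G₂ (q ⁻¹ᵁ U k)
  haveI : IsScalarTower ↥A₁ ↥A₂ Γ(G₂, q ⁻¹ᵁ U k) := .of_algebraMap_smul fun _ _ => rfl
  letI : Algebra (StageRing (i k)) ↥A₂ :=
    (Subalgebra.inclusion (show (i k).1 ≤ A₂ from
      (Finset.le_sup (f := fun k => (i k).1) (Finset.mem_univ k)).trans le_sup_right)).toRingHom.toAlgebra
  haveI : IsScalarTower ↥A₁ (StageRing (i k)) ↥A₂ := IsScalarTower.of_algebraMap_eq fun _ => rfl
  haveI := hi k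
  haveI : Module.Flat ↥A₂ (↥A₂ ⊗[↥A₁] Γ(G, U k)) :=
    Module.Flat.of_linearEquiv
      (TensorProduct.AlgebraTensorModule.cancelBaseChange ↥A₁ (StageRing (i k)) ↥A₂ ↥A₂ Γ(G, U k)).symm
  let η : G ⟶ (Scheme.Modules.pushforward q).obj G₂ :=
    (Scheme.Modules.pullbackPushforwardAdjunction q).unit.app G
  have hbc : IsBaseChange ↥A₂ (secLin (Coh.toGlobal f₁) (Coh.toGlobal f₂) q η
      (toGlobal_comm f₁ f₂ q hq.w) (U k) (q ⁻¹ᵁ U k) le_rfl) :=
    isAffineBC_of_isPullback hq hG (U k) (hU₁ k)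
  exact Module.Flat.of_linearEquiv hbc.equiv.symm

end Groth.Agent.CohPullLib
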