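import Groth.Prelude.Def_CohPull
import Groth.Agent.BigSiteLib.HofPushBij
import Groth.Agent.QCoh.RpushAbGod
import Groth.Agent.QCoh.Bound

/-!
# The edge map of `CohPull` and its bijectivity for acyclic sheaves
-/

set_option backward.isDefEq.respectTransparency false
set_option backward.isDefEq.respectTransparency.types false

universe u

open CategoryTheory CategoryTheory.Limits AlgebraicGeometry TopologicalSpace Opposite

namespace Groth.Agent.CohPullLib

section top

variable {X Y : TopCat.{u}} (f : X ⟶ Y)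

theorem adjZ_homEquiv_oneTo (G : CohTop.Ab X)
    (ψ : (CohPull.inv f).obj (CohTop.const Y (ULift.{u} ℤ)) ⟶ G) :
    (CohPull.adjZ X).homEquiv _ _ (CohPull.oneTo f ≫ ψ) =
      (CohPull.adjZ Y).homEquiv _ _ ((CohPull.invPushAdj f).homEquiv _ _ ψ) := by
  rw [Adjunction.homEquiv_naturality_right, CohPull.oneTo, Equiv.apply_symm_apply]
  rw [show (CohPull.invPushAdj f).homEquiv _ _ ψ = (CohPull.invPushAdj f).unit.app _ ≫
      (CohTop.push f).map ψ from Adjunction.homEquiv_unit _ _ _ _]
  rw [← Category.id_comp ((CohPull.invPushAdj f).unit.app _ ≫ (CohTop.push f).map ψ),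
    Adjunction.homEquiv_naturality_right]
  rfl

instance isIso_oneTo : IsIso (CohPull.oneTo f) := by
  refine isIso_of_coyoneda_map_bijective _ fun G => ?_
  let e := ((CohPull.invPushAdj f).homEquiv (CohTop.const Y (ULift.{u} ℤ)) G).trans
    ((CohPull.adjZ Y).homEquiv _ _)
  have he : ∀ ψ, e ψ = (CohPull.adjZ X).homEquiv _ _ (CohPull.oneTo f ≫ ψ) :=
    fun ψ => (adjZ_homEquiv_oneTo f G ψ).symm
  refine ⟨fun a b hab => e.injective ((he a).trans ((congrArg _ hab).trans (he b).symm)), fun g => ?_⟩
  obtain ⟨ψ, hψ⟩ := e.surjective ((CohPull.adjZ X).homEquiv _ _ g)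
  exact ⟨ψ, ((CohPull.adjZ X).homEquiv _ _).injective ((he ψ).symm.trans hψ)⟩

end top

variable {X Y : Scheme.{u}} (f : X ⟶ Y)

/-- `theta` followed by the counit is the counit of the topological adjunction. -/
theorem theta_counit (G : X.Modules) :
    CohPull.theta f ((Scheme.Modules.pushforward f).obj G) ≫
      (SheafOfModules.toSheaf X.ringCatSheaf).map
        ((Scheme.Modules.pullbackPushforwardAdjunction f).counit.app G) =
      (CohPull.invPushAdj f.base).counit.app (Coh.toAb G) := by
  apply ((CohPull.invPushAdj f.base).homEquiv _ _).injective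
  rw [Adjunction.homEquiv_naturality_right, CohPull.theta, Equiv.apply_symm_apply]
  rw [Adjunction.homEquiv_unit]
  have h := (Scheme.Modules.pullbackPushforwardAdjunction f).right_triangle_components G
  exact (((SheafOfModules.toSheaf Y.ringCatSheaf).map_comp _ _).symm.trans
    (congrArg _ h)).trans (((SheafOfModules.toSheaf Y.ringCatSheaf).map_id _).trans
      ((CohPull.invPushAdj f.base).right_triangle_components (Coh.toAb G)).symm)

theorem pushEdge_apply (G : X.Modules) (p : ℕ)
    (x : Coh.HH Y ((Scheme.Modules.pushforward f).obj G) p) :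
    CohPull.pushEdge f G p x =
      BigSiteLib.HofBij.hof (CohPull.invPushAdj f.base) (CohPull.oneTo f.base) (Coh.toAb G) p x := by
  have h0 : CohPull.pushEdge f G p x = Sheaf.H.map ((SheafOfModules.toSheaf X.ringCatSheaf).map
        ((Scheme.Modules.pullbackPushforwardAdjunction f).counit.app G)) p
      (Sheaf.H.map (CohPull.theta f _) p (CohPull.pullAb f.base _ p x)) := rfl
  rw [h0, BigSiteLib.HofBij.hof, ← theta_counit f G]
  show ((((Abelian.Ext.mk₀ (CohPull.oneTo f.base)).comp (x.mapExactFunctor (CohPull.inv f.base)) (zero_add p)).comp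
    (Abelian.Ext.mk₀ (CohPull.theta f _)) (add_zero p)).comp (Abelian.Ext.mk₀ _) (add_zero p)) = _
  rw [Abelian.Ext.comp_assoc_of_third_deg_zero, Abelian.Ext.mk₀_comp_mk₀]

/-- The edge map is bijective for sheaves that are acyclic for the direct image. -/
theorem pushEdge_bijective_of_acyclic (G : X.Modules)
    (h : ∀ q : ℕ, IsZero ((Coh.RpushAb f (q + 1)).obj (Coh.toAb G))) (p : ℕ) :
    Function.Bijective (CohPull.pushEdge f G p) := by
  have := QCoh.Ab.push_preservesFiniteLimits f.base
  have hG : TriCat.IsRightAcyclic (CohTop.push f.base) (Coh.toAb G) := fun i hi => by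
    obtain ⟨j, rfl⟩ := Nat.exists_eq_succ_of_ne_zero hi.ne'
    exact h j
  rw [show ⇑(CohPull.pushEdge f G p) = BigSiteLib.HofBij.hof (CohPull.invPushAdj f.base)
      (CohPull.oneTo f.base) (Coh.toAb G) p from funext (pushEdge_apply f G p)]
  exact BigSiteLib.HofBij.hof_bijective _ _ inferInstance p _ hG

theorem pushEdge_bijective_of_Rpush_isZero [HasInjectiveResolutions X.Modules] (G : X.Modules)
    (hG : ∀ q : ℕ, 0 < q → IsZero ((Coh.Rpush f q).obj G)) (p : ℕ) :
    Function.Bijective (CohPull.pushEdge f G p) := by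
  refine pushEdge_bijective_of_acyclic f G (fun q => ?_) p
  obtain ⟨e₁⟩ := QCoh.nonempty_Rpush_iso f G q
  obtain ⟨e₂⟩ := QCoh.nonempty_RpushAb_iso f G q
  exact IsZero.of_iso ((SheafOfModules.toSheaf Y.ringCatSheaf).map_isZero
    ((hG (q + 1) (by omega)).of_iso e₁.symm)) e₂

theorem pushEdge_bijective_of_isAffineHom [IsAffineHom f] (F : X.Modules) [Coh.IsQCoh F] (p : ℕ) :
    Function.Bijective (CohPull.pushEdge f F p) :=
  pushEdge_bijective_of_acyclic f F (QCoh.RpushAb_isZero_of_isAffineHom f ‹_›) p

end Groth.Agent.CohPullLib
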