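import Groth.Prelude.Def_CohPull
import Groth.Agent.ExistEasy.PP.PullSec
import Groth.Agent.QCoh.ExtendFT

/-!
# Effect on sections of the isomorphisms used by `CohPull.pullOn` and `CohPull.resLE`
-/

set_option backward.isDefEq.respectTransparency false
set_option backward.isDefEq.respectTransparency.types false

universe u

open CategoryTheory AlgebraicGeometry TopologicalSpace Opposite

namespace Groth.Agent.CohPullLib

open Groth.Agent.QCoh Groth.Agent.ExistEasy

variable {X Y : Scheme.{u}}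

theorem pullbackId_pullSec (M : X.Modules) {W V : X.Opens} (hle : W ≤ (𝟙 X : X ⟶ X) ⁻¹ᵁ V) (x : Γ(M, V)) :
    ((Scheme.Modules.pullbackId X).hom.app M).app W (pullSec (𝟙 X) M hle x) =
      M.presheaf.map (homOfLE (show W ≤ V from hle)).op x := by
  refine (map_app_comm ((Scheme.Modules.pullbackId X).hom.app M) (homOfLE hle) _).trans ?_
  have h := unit_conjugateEquiv Adjunction.id (Scheme.Modules.pullbackPushforwardAdjunction (𝟙 X))
    (Scheme.Modules.pullbackId X).hom M
  rw [Scheme.Modules.conjugateEquiv_pullbackId_hom] at h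
  exact congrArg (M.presheaf.map (homOfLE (show W ≤ V from hle)).op)
    (congrArg (fun φ => Scheme.Modules.Hom.app φ V x) h).symm

theorem restrictIso_res (i : X ⟶ Y) [IsOpenImmersion i] (M : Y.Modules) {W : X.Opens} {V : Y.Opens}
    (hle : W ≤ i ⁻¹ᵁ V) (h' : i ''ᵁ W ≤ V) (x : Γ(M, V)) :
    ((Scheme.Modules.restrictFunctorIsoPullback i).hom.app M).app W
        (show Γ(M.restrict i, W) from M.presheaf.map (homOfLE h').op x) = pullSec i M hle x := by
  have h : (Scheme.Modules.restrictAdjunction i).unit.app M ≫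
      (Scheme.Modules.pushforward i).map ((Scheme.Modules.restrictFunctorIsoPullback i).hom.app M) =
      (Scheme.Modules.pullbackPushforwardAdjunction i).unit.app M :=
    Adjunction.unit_leftAdjointUniq_hom_app _ _ M
  let x' : Γ(M.restrict i, i ⁻¹ᵁ V) := M.presheaf.map (homOfLE (i.image_preimage_le V)).op x
  have e : (show Γ(M.restrict i, W) from M.presheaf.map (homOfLE h').op x) =
      (M.restrict i).presheaf.map (homOfLE hle).op x' := (map_map _ _ _).symm
  rw [e]
  exact (map_app_comm ((Scheme.Modules.restrictFunctorIsoPullback i).hom.app M) (homOfLE hle) x').trans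
    (congrArg (((Scheme.Modules.pullback i).obj M).presheaf.map (homOfLE hle).op)
      (congrArg (fun φ => Scheme.Modules.Hom.app φ V x) h))

theorem restrictIso_inv_pullSec (i : X ⟶ Y) [IsOpenImmersion i] (M : Y.Modules) {W : X.Opens} {V : Y.Opens}
    (hle : W ≤ i ⁻¹ᵁ V) (h' : i ''ᵁ W ≤ V) (x : Γ(M, V)) :
    ((Scheme.Modules.restrictFunctorIsoPullback i).inv.app M).app W (pullSec i M hle x) =
      (show Γ(M.restrict i, W) from M.presheaf.map (homOfLE h').op x) := by
  rw [← restrictIso_res i M hle h' x]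
  exact congrArg (fun φ : M.restrict i ⟶ M.restrict i => Scheme.Modules.Hom.app φ W _)
    ((Scheme.Modules.restrictFunctorIsoPullback i).hom_inv_id_app M)

theorem pullbackComp_inv_pullSec {Z : Scheme.{u}} (f : X ⟶ Y) (g : Y ⟶ Z) (G : Z.Modules) {W : X.Opens}
    {U : Y.Opens} {V : Z.Opens} (h₁ : U ≤ g ⁻¹ᵁ V) (h₂ : W ≤ f ⁻¹ᵁ U) (x : Γ(G, V)) :
    ((Scheme.Modules.pullbackComp f g).inv.app G).app W
      (pullSec (f ≫ g) G (show W ≤ (f ≫ g) ⁻¹ᵁ V from h₂.trans ((Opens.map f.base).monotone h₁)) x) =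
      pullSec f ((Scheme.Modules.pullback g).obj G) h₂ (pullSec g G h₁ x) := by
  rw [← pullSec_comp f g G h₁ h₂ x]
  exact congrArg (fun φ : (Scheme.Modules.pullback g ⋙ Scheme.Modules.pullback f).obj G ⟶
      (Scheme.Modules.pullback g ⋙ Scheme.Modules.pullback f).obj G => Scheme.Modules.Hom.app φ W _)
    ((Scheme.Modules.pullbackComp f g).hom_inv_id_app G)

/-- The identification used by `CohPull.pullOn`, on sections. -/
theorem pullOnIso_pullSec (g : X ⟶ Y) (U : Y.Opens) (U' : X.Opens) (h : U' ≤ g ⁻¹ᵁ U) (F : Y.Modules)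
    (x : Γ(F, U)) (h₀ : U.ι ''ᵁ (⊤ : U.toScheme.Opens) ≤ U) (h₁ : U'.ι ''ᵁ (⊤ : U'.toScheme.Opens) ≤ g ⁻¹ᵁ U) :
    (CohPull.pullOnIso g U U' h F).hom.app ⊤
        (pullSec (g.resLE U U' h) (F.restrict U.ι) (V := ⊤) (W := ⊤) le_top
          (show Γ(F.restrict U.ι, ⊤) from F.presheaf.map (homOfLE h₀).op x)) =
      (show Γ(((Scheme.Modules.pullback g).obj F).restrict U'.ι, ⊤) from
        pullSec g F (W := U'.ι ''ᵁ ⊤) h₁ x) := by
  have hU : (⊤ : U.toScheme.Opens) ≤ U.ι ⁻¹ᵁ U := fun y _ => y.2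
  have hU' : (⊤ : U'.toScheme.Opens) ≤ U'.ι ⁻¹ᵁ (g ⁻¹ᵁ U) := fun y _ => h y.2
  simp only [CohPull.pullOnIso, Iso.trans_hom, Scheme.Modules.Hom.comp_app, ConcreteCategory.comp_apply,
    Iso.symm_hom, Iso.app_inv, Iso.app_hom, Functor.mapIso_hom]
  rw [pullSec_natural (g.resLE U U' h), restrictIso_res U.ι F hU h₀]
  refine (congrArg (fun t => ((Scheme.Modules.restrictFunctorIsoPullback U'.ι).inv.app _).app ⊤
      (((Scheme.Modules.pullbackComp U'.ι g).inv.app F).app ⊤
        (((Scheme.Modules.pullbackCongr (Scheme.Hom.resLE_comp_ι g h)).hom.app F).app ⊤ t)))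
    (pullSec_comp (g.resLE U U' h) U.ι F hU le_top x)).trans ?_
  refine (congrArg (fun t => ((Scheme.Modules.restrictFunctorIsoPullback U'.ι).inv.app _).app ⊤
      (((Scheme.Modules.pullbackComp U'.ι g).inv.app F).app ⊤ t))
    (pullSec_congr (Scheme.Hom.resLE_comp_ι g h) F _ x)).trans ?_
  refine (congrArg (fun t => ((Scheme.Modules.restrictFunctorIsoPullback U'.ι).inv.app _).app ⊤ t)
    (pullbackComp_inv_pullSec U'.ι g F (U := g ⁻¹ᵁ U) le_rfl hU' x)).trans ?_
  refine (restrictIso_inv_pullSec U'.ι _ hU' h₁ _).trans ?_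
  exact map_map _ _ _

end Groth.Agent.CohPullLib
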