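import Groth.Agent.ConsPropLib.FibreLocFreeRank
import Groth.Agent.FlatCxLib.Reduced
import Groth.Agent.QCoh.Pullback
import Mathlib.LinearAlgebra.TensorProduct.Prod

/-!
# Local freeness of given rank through affine charts
-/

set_option backward.isDefEq.respectTransparency false
set_option backward.isDefEq.respectTransparency.types false
set_option linter.style.haveILetI false

universe u

open CategoryTheory CategoryTheory.Limits AlgebraicGeometry TopologicalSpace Opposite
open scoped TensorProduct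

namespace Groth.Agent.CohPullLib

open Groth.Agent.QCoh Groth.Agent.FlatCxLib

section Algebra

variable {A B C : Type u} [CommRing A] [CommRing B] [CommRing C] (N N' : Type u)
  [AddCommGroup N] [Module A N] [AddCommGroup N'] [Module A N']

theorem flat_prod_of_flat {S X Y : Type u} [CommRing S] [AddCommGroup X] [Module S X] [AddCommGroup Y]
    [Module S Y] [Module.Flat S X] [Module.Flat S Y] : Module.Flat S (X × Y) := by
  rw [Module.Flat.iff_lTensor_preserves_injective_linearMap]
  intro N N' _ _ _ _ g hg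
  have h1 := Module.Flat.lTensor_preserves_injective_linearMap (M := X) g hg
  have h2 := Module.Flat.lTensor_preserves_injective_linearMap (M := Y) g hg
  have key : (TensorProduct.prodLeft S S X Y N').toLinearMap ∘ₗ g.lTensor (X × Y) =
      (g.lTensor X).prodMap (g.lTensor Y) ∘ₗ (TensorProduct.prodLeft S S X Y N).toLinearMap := by
    refine TensorProduct.ext' fun p n => ?_
    obtain ⟨p₁, p₂⟩ := p
    simp
  intro a b hab
  have ha := LinearMap.congr_fun key a
  have hb := LinearMap.congr_fun key b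
  simp only [LinearMap.comp_apply, LinearEquiv.coe_coe, hab] at ha hb
  have := ha.symm.trans hb
  rw [LinearMap.prodMap_apply, LinearMap.prodMap_apply, Prod.mk.injEq] at this
  exact (TensorProduct.prodLeft S S X Y N).injective (Prod.ext (h1 this.1) (h2 this.2))

/-- The base change of `N` along `φ` is flat. -/
def FlatVia (φ : A →+* B) : Prop :=
  letI := φ.toAlgebra
  Module.Flat B (B ⊗[A] N)

theorem FlatVia.comp {φ : A →+* B} (h : FlatVia N φ) (ψ : B →+* C) : FlatVia N (ψ.comp φ) := by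
  letI := φ.toAlgebra
  letI := ψ.toAlgebra
  letI := (ψ.comp φ).toAlgebra
  haveI : IsScalarTower A B C := IsScalarTower.of_algebraMap_eq' rfl
  haveI : Module.Flat B (B ⊗[A] N) := h
  exact Module.Flat.of_linearEquiv (TensorProduct.AlgebraTensorModule.cancelBaseChange A B C C N).symm

theorem flatVia_prod_iff (φ : A →+* B) [Module.Flat A N] :
    FlatVia (N × N') φ ↔ FlatVia N' φ := by
  letI := φ.toAlgebra
  let e := TensorProduct.prodRight A B B N N'
  haveI : Module.Flat B (B ⊗[A] N) := inferInstance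
  constructor
  · intro h
    haveI : Module.Flat B (B ⊗[A] (N × N')) := h
    haveI : Module.Flat B ((B ⊗[A] N) × (B ⊗[A] N')) := Module.Flat.of_linearEquiv e.symm
    exact Module.Flat.of_retract (LinearMap.inr B (B ⊗[A] N) (B ⊗[A] N'))
      (LinearMap.snd B (B ⊗[A] N) (B ⊗[A] N')) (LinearMap.snd_comp_inr _ _ _)
  · intro h
    haveI : Module.Flat B (B ⊗[A] N') := h
    haveI : Module.Flat B ((B ⊗[A] N) × (B ⊗[A] N')) := by
      exact flat_prod_of_flat
    exact Module.Flat.of_linearEquiv e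

theorem fibreRank_prod [Module.Finite A N] [Module.Finite A N'] (x : PrimeSpectrum A) :
    fibreRank (N × N') x = fibreRank N x + fibreRank N' x :=
  ((TensorProduct.prodRight A x.asIdeal.ResidueField x.asIdeal.ResidueField N N').finrank_eq).trans
    Module.finrank_prod

theorem fibreRank_eq_finrank [Module.Free A N] [Module.Finite A N] (x : PrimeSpectrum A) :
    fibreRank N x = Module.finrank A N :=
  haveI : Nontrivial A := (PrimeSpectrum.nonempty_iff_nontrivial).1 ⟨x⟩
  Module.finrank_baseChange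

theorem fibreRank_congr (e : N ≃ₗ[A] N') (x : PrimeSpectrum A) : fibreRank N x = fibreRank N' x :=
  (TensorProduct.AlgebraTensorModule.congr (LinearEquiv.refl x.asIdeal.ResidueField x.asIdeal.ResidueField) e).finrank_eq

theorem chart_rank_iff [Module.FinitePresentation A N] (φ : A →+* B) (c : ℕ) :
    letI := φ.toAlgebra
    (Module.Finite B (B ⊗[A] N) ∧ Module.Projective B (B ⊗[A] N) ∧
        ∀ Q, Module.rankAtStalk (R := B) (B ⊗[A] N) Q = c) ↔
      FlatVia N φ ∧ ∀ x : PrimeSpectrum B, fibreRank N (PrimeSpectrum.comap φ x) = c := by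
  letI := φ.toAlgebra
  constructor
  · rintro ⟨_, _, hr⟩
    haveI : Module.Flat B (B ⊗[A] N) := inferInstance
    refine ⟨‹_›, fun x => ?_⟩
    rw [← hr x, ← fibreRank_eq_rankAtStalk, fibreRank_baseChange]
    rfl
  · rintro ⟨h, hr⟩
    haveI : Module.Flat B (B ⊗[A] N) := h
    refine ⟨inferInstance, Module.Flat.projective_of_finitePresentation, fun Q => ?_⟩
    rw [← fibreRank_eq_rankAtStalk, fibreRank_baseChange]
    exact hr Q

end Algebra

variable {T : Scheme.{u}}

theorem isFinLocFreeOfRank_iff_charts {M : T.Modules} {c : ℕ} :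
    FlatMod.IsFinLocFreeOfRank c M ↔ ∀ t : T, ∃ (W : T.Opens) (hW : IsAffineOpen W), t ∈ W ∧
      FlatMod.IsFinLocFreeOfRank c (M.restrict hW.fromSpec) := by
  constructor
  · intro h t
    obtain ⟨W, hW, ht, -⟩ := exists_isAffineOpen_mem_and_subset (x := t) (U := ⊤) trivial
    exact ⟨W, hW, ht, ConsPropLib.isFinLocFreeOfRank_restrict _ h⟩
  · intro h
    choose W hW ht hr using h
    refine ConsPropLib.isFinLocFreeOfRank_of_cover (fun t => (hW t).fromSpec) (fun t => ⟨t, ?_⟩) hr
    rw [IsAffineOpen.range_fromSpec]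
    exact ht t

theorem isFinLocFreeOfRank_fromSpec_iff {M : T.Modules} (hM : Coh.IsQCoh M) {W : T.Opens} (hW : IsAffineOpen W)
    (c : ℕ) :
    FlatMod.IsFinLocFreeOfRank c (M.restrict hW.fromSpec) ↔
      Module.Finite Γ(T, W) Γ(M, W) ∧ Module.Projective Γ(T, W) Γ(M, W) ∧
        ∀ Q, Module.rankAtStalk (R := Γ(T, W)) Γ(M, W) Q = c := by
  let N := M.restrict hW.fromSpec
  have hN : Coh.IsQCoh N := isQCoh_restrict _ hM
  haveI := (isQuasicoherent_iff_isIso_fromTildeΓ N).1 hN
  let e : tilde (moduleSpecΓFunctor.obj N) ≅ N := asIso N.fromTildeΓ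
  rw [← ConsPropLib.isFinLocFreeOfRank_iso e, ConsPropLib.isFinLocFreeOfRank_tilde_iff]
  let l := chartEquiv hW M
  refine ⟨fun ⟨h1, h2, h3⟩ => ⟨Module.Finite.equiv l.symm, Module.Projective.of_equiv l.symm,
      fun Q => (congrFun (Module.rankAtStalk_eq_of_equiv l) Q).trans (h3 Q)⟩,
    fun ⟨h1, h2, h3⟩ => ⟨Module.Finite.equiv l, Module.Projective.of_equiv l,
      fun Q => (congrFun (Module.rankAtStalk_eq_of_equiv l) Q).symm.trans (h3 Q)⟩⟩

theorem isFinLocFreeOfRank_of_sections {M : T.Modules} (hM : Coh.IsQCoh M) {c : ℕ}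
    (h : ∀ t : T, ∃ (W : T.Opens) (_ : IsAffineOpen W), t ∈ W ∧ Module.Flat Γ(T, W) Γ(M, W) ∧
      Module.FinitePresentation Γ(T, W) Γ(M, W) ∧ ∀ Q, fibreRank (A := Γ(T, W)) Γ(M, W) Q = c) :
    FlatMod.IsFinLocFreeOfRank c M := by
  refine isFinLocFreeOfRank_iff_charts.2 fun t => ?_
  obtain ⟨W, hW, ht, _, _, hr⟩ := h t
  refine ⟨W, hW, ht, (isFinLocFreeOfRank_fromSpec_iff hM hW c).2
    ⟨inferInstance, Module.Flat.projective_of_finitePresentation, fun Q => ?_⟩⟩
  rw [← fibreRank_eq_rankAtStalk]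
  exact hr Q

theorem fibreRank_of_isFinLocFreeOfRank {M : T.Modules} (hM : Coh.IsQCoh M) {c : ℕ}
    (h : FlatMod.IsFinLocFreeOfRank c M) {W : T.Opens} (hW : IsAffineOpen W) (Q : PrimeSpectrum Γ(T, W)) :
    fibreRank (A := Γ(T, W)) Γ(M, W) Q = c := by
  obtain ⟨_, _, hr⟩ := (isFinLocFreeOfRank_fromSpec_iff hM hW c).1 (ConsPropLib.isFinLocFreeOfRank_restrict _ h)
  haveI : Module.Flat Γ(T, W) Γ(M, W) := inferInstance
  rw [fibreRank_eq_rankAtStalk]
  exact hr Q

theorem isFinLocFreeOfRank_pullback_tilde_iff {A : CommRingCat.{u}} (g : T ⟶ Spec A) (N : ModuleCat.{u} A)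
    [Module.FinitePresentation A N] (c : ℕ) :
    FlatMod.IsFinLocFreeOfRank c ((Scheme.Modules.pullback g).obj (tilde N)) ↔
      ∀ t : T, ∃ (W : T.Opens) (hW : IsAffineOpen W) (φ : A ⟶ Γ(T, W)), t ∈ W ∧
        hW.fromSpec ≫ g = Spec.map φ ∧ FlatVia N φ.hom ∧
        ∀ x : PrimeSpectrum Γ(T, W), fibreRank N (PrimeSpectrum.comap φ.hom x) = c := by
  have key : ∀ (W : T.Opens) (hW : IsAffineOpen W) (φ : A ⟶ Γ(T, W)), hW.fromSpec ≫ g = Spec.map φ →
      (FlatMod.IsFinLocFreeOfRank c (((Scheme.Modules.pullback g).obj (tilde N)).restrict hW.fromSpec) ↔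
        FlatVia N φ.hom ∧ ∀ x : PrimeSpectrum Γ(T, W), fibreRank N (PrimeSpectrum.comap φ.hom x) = c) := by
    intro W hW φ hφ
    let e : ((Scheme.Modules.pullback g).obj (tilde N)).restrict hW.fromSpec ≅
        tilde ((ModuleCat.extendScalars.{_, _, u} φ.hom).obj N) :=
      (Scheme.Modules.restrictFunctorIsoPullback _).app _ ≪≫ (Scheme.Modules.pullbackComp hW.fromSpec g).app _ ≪≫
        (Scheme.Modules.pullbackCongr hφ).app _ ≪≫ (QCoh.tildePullbackIso φ).app N
    rw [ConsPropLib.isFinLocFreeOfRank_iso e, ConsPropLib.isFinLocFreeOfRank_tilde_iff]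
    exact chart_rank_iff N φ.hom c
  rw [isFinLocFreeOfRank_iff_charts]
  refine forall_congr' fun t => exists_congr fun W => ⟨?_, ?_⟩
  · rintro ⟨hW, ht, h⟩
    obtain ⟨φ, hφ⟩ := Spec.map_surjective (hW.fromSpec ≫ g)
    exact ⟨hW, φ, ht, hφ.symm, (key W hW φ hφ.symm).1 h⟩
  · rintro ⟨hW, φ, ht, hφ, h⟩
    exact ⟨hW, ht, (key W hW φ hφ).2 h⟩

end Groth.Agent.CohPullLib
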