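import Groth.Agent.CohPullLib.BaseChange
import Groth.Agent.CohPullLib.RankChart
import Groth.Agent.FittStrat.Rank
import Groth.Agent.KFlatLib.Scheme.RpushQCoh

/-!
# The stratum where the direct image is locally free of given rank and commutes with base change
-/

set_option backward.isDefEq.respectTransparency false
set_option backward.isDefEq.respectTransparency.types false
set_option linter.style.haveILetI false
set_option linter.unusedSectionVars false
set_option maxRecDepth 4000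
set_option maxHeartbeats 1000000

universe u

open CategoryTheory CategoryTheory.Limits AlgebraicGeometry TopologicalSpace Opposite
open scoped TensorProduct

namespace Groth.Agent.CohPullLib

open Groth.Agent.QCoh Groth.Agent.FlatCxLib

variable {X S : Scheme.{u}} {f : X ⟶ S} [IsProper f] [LocallyOfFinitePresentation f] {F : X.Modules}

/-- With exchange in degree zero, sections of the direct image have the rank of the fibres. -/
theorem sections_push_of_preservesEpi (hF : Coh.IsQCoh F)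
    {V : S.Opens} {hV : IsAffineOpen V} {P : ChainComplex (ModuleCat.{u} Γ(S, V)) ℤ} (hP : IsModel f F hV P)
    (h : (CohIII.TFun P (-((0 : ℕ) : ℤ))).PreservesEpimorphisms) :
    Module.Flat Γ(S, V) Γ((Scheme.Modules.pushforward f).obj F, V) ∧
      Module.FinitePresentation Γ(S, V) Γ((Scheme.Modules.pushforward f).obj F, V) ∧
      ∀ (v : S) (hv : v ∈ V), fibreRank (A := Γ(S, V)) Γ((Scheme.Modules.pushforward f).obj F, V)
        (hV.primeIdealOf ⟨v, hv⟩) = CohIII.fiberRank f F 0 v := by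
  haveI : HasInjectiveResolutions X.Modules := KFlatLib.hasInjectiveResolutions_modules
  haveI := SpObjSS.enoughInjectives_of_hasInjectiveResolutions (C := X.Modules)
  haveI := preservesFiniteLimits_push f
  have h2 : (CohIII.TFun P (-((0 : ℕ) : ℤ) + 1)).PreservesEpimorphisms :=
    (isExactT_of_isZero fun M => hP.2.2.2.1 _ (by simp) M).2
  obtain ⟨hflat, hfp⟩ := flat_fp_sections hF hP h h2
  let e := (Scheme.Modules.pushforward f).rightDerivedZeroIsoSelf.app F
  let l := LinearEquiv.ofBijective (appLin e.hom V) (ConcreteCategory.bijective_of_isIso (e.hom.app V))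
  refine ⟨Module.Flat.of_linearEquiv l.symm, Module.FinitePresentation.of_equiv l, fun v hv => ?_⟩
  let q : ℤ := -((0 : ℕ) : ℤ)
  have hr : q - 1 + 1 = q := by lia
  obtain ⟨l'⟩ := hP.nonempty_sections hF 0
  haveI : Module.Flat Γ(S, V) (Coker P q (q - 1)) := ExchAt.flat_coker hP h
  rw [hP.fiberRank_eq hF 0 hv, dRank_eq_fibreRank P hP.flat (show q + 1 = q + 1 from rfl) hr]
  exact fibreRank_congr _ _ (l.symm.trans (l'.trans (hom'Equiv (P := P) (show q + 1 = q + 1 from rfl) hr).symm)) _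

variable (f F) in
/-- The condition at a point of the source. -/
def GoodAt (r : ℕ) {T : Scheme.{u}} (u : T ⟶ S) (t : T) : Prop :=
  ExchAt (pullback.snd f u) ((Scheme.Modules.pullback (pullback.fst f u)).obj F) 0 t ∧
    CohIII.fiberRank f F 0 (u t) = r

/-- The cokernel in degree zero of a complex. -/
abbrev cokZero {A : Type u} [CommRing A] (P : ChainComplex (ModuleCat.{u} A) ℤ) : Type u :=
  Coker P (-((0 : ℕ) : ℤ)) (-((0 : ℕ) : ℤ) - 1)

theorem exchAt_iff_flatVia (hF : Coh.IsQCoh F) {T : Scheme.{u}} (u : T ⟶ S) {V : S.Opens} {hV : IsAffineOpen V}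
    {P : ChainComplex (ModuleCat.{u} Γ(S, V)) ℤ} (hP : IsModel f F hV P) {t : T} (ht : u t ∈ V) :
    ExchAt (pullback.snd f u) ((Scheme.Modules.pullback (pullback.fst f u)).obj F) 0 t ↔
      ∃ (W : T.Opens) (_ : IsAffineOpen W) (hle : W ≤ u ⁻¹ᵁ V),
        t ∈ W ∧ FlatVia (cokZero P) (u.appLE V W hle).hom := by
  rw [exchAt_baseChange_iff (IsPullback.of_hasPullback f u) hF hP ht]
  refine exists_congr fun W => exists_congr fun hW => exists_congr fun hle => and_congr_right fun _ => ?_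
  have hfl := (hP.baseChange (IsPullback.of_hasPullback f u) hF hW hle).flat
  refine (preservesEpi_iff hfl (show -((0 : ℕ) : ℤ) - 1 + 1 = -((0 : ℕ) : ℤ) by lia)).trans ?_
  exact flat_coker_bcCx_iff_aux P (u.appLE V W hle).hom _ _ _ rfl

variable {r : ℕ}

theorem goodAt_comp (hF : Coh.IsQCoh F) (hfp : CohB1.IsFP F) (hfl : FlatMod.IsFlatOver f F) {T T' : Scheme.{u}}
    (u : T ⟶ S) (g : T' ⟶ T) {t : T'} (h : GoodAt f F r u (g t)) : GoodAt f F r (g ≫ u) t := by
  refine ⟨?_, by rw [Scheme.Hom.comp_apply]; exact h.2⟩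
  obtain ⟨V, hV, P, hv, -, hP⟩ :=
    exists_isModel_nhd (f := f) hF hfp hfl (show u (g t) ∈ (⊤ : S.Opens) from trivial)
  obtain ⟨W, hW, hle, htW, hfv⟩ := (exchAt_iff_flatVia hF u hP hv).1 h.1
  obtain ⟨W', hW', htW', hle'⟩ := exists_isAffineOpen_mem_and_subset (x := t) (U := g ⁻¹ᵁ W) htW
  refine (exchAt_iff_flatVia hF (g ≫ u) hP (by rw [Scheme.Hom.comp_apply]; exact hv)).2
    ⟨W', hW', le_trans hle' (g.preimage_mono hle), htW', ?_⟩
  rw [← Scheme.Hom.appLE_comp_appLE g u V W W' hle hle', CommRingCat.hom_comp]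
  exact hfv.comp _ _

theorem goodAt_of_isOpenImmersion (hF : Coh.IsQCoh F) (hfp : CohB1.IsFP F) (hfl : FlatMod.IsFlatOver f F)
    {T O : Scheme.{u}} (u : T ⟶ S) (j : O ⟶ T) [IsOpenImmersion j] {x : O} (h : GoodAt f F r (j ≫ u) x) :
    GoodAt f F r u (j x) := by
  refine ⟨?_, by rw [← Scheme.Hom.comp_apply]; exact h.2⟩
  obtain ⟨V, hV, P, hv, -, hP⟩ :=
    exists_isModel_nhd (f := f) hF hfp hfl (show u (j x) ∈ (⊤ : S.Opens) from trivial)
  obtain ⟨W, hW, hle, htW, hfv⟩ := (exchAt_iff_flatVia hF (j ≫ u) hP (by rw [Scheme.Hom.comp_apply]; exact hv)).1 h.1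
  have hle' : j ''ᵁ W ≤ u ⁻¹ᵁ V := (j.image_mono (V := j ⁻¹ᵁ (u ⁻¹ᵁ V)) hle).trans (j.image_preimage_le _)
  refine (exchAt_iff_flatVia hF u hP hv).2 ⟨j ''ᵁ W, hW.image_of_isOpenImmersion j, hle', ⟨x, htW, rfl⟩, ?_⟩
  have he : u.appLE V (j ''ᵁ W) hle' = (j ≫ u).appLE V W hle ≫ (j.appIso W).inv := by
    rw [Iso.eq_comp_inv, Scheme.Hom.appIso_hom', Scheme.Hom.appLE_comp_appLE]
  rw [he, CommRingCat.hom_comp]
  exact hfv.comp _ _

/-- The two conditions on a morphism are the condition at every point. -/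
theorem cond_iff_forall_goodAt (hF : Coh.IsQCoh F) (hfp : CohB1.IsFP F) (hfl : FlatMod.IsFlatOver f F)
    {T : Scheme.{u}} (u : T ⟶ S) :
    (FlatMod.IsFinLocFreeOfRank r
        ((Scheme.Modules.pushforward (pullback.snd f u)).obj ((Scheme.Modules.pullback (pullback.fst f u)).obj F)) ∧
      ∀ ⦃X'' T' : Scheme.{u}⦄ (v' : X'' ⟶ pullback f u) (f'' : X'' ⟶ T') (u' : T' ⟶ T)
        (h : IsPullback v' f'' (pullback.snd f u) u'),
        IsIso (CohBC.bc0 (pullback.snd f u) u' f'' v' h.w ((Scheme.Modules.pullback (pullback.fst f u)).obj F))) ↔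
      ∀ t, GoodAt f F r u t := by
  let F' := (Scheme.Modules.pullback (pullback.fst f u)).obj F
  have hq : Coh.IsQCoh F' := isQCoh_pullback _ hF
  have hfp' : CohB1.IsFP F' := isFP_pullback_of_isQCoh _ hF hfp
  have hfl' : FlatMod.IsFlatOver (pullback.snd f u) F' :=
    isFlatOver_baseChange (IsPullback.of_hasPullback f u) hfl
  haveI : QuasiCompact (pullback.snd f u) := inferInstance
  have hqp := QCoh.isQCoh_pushforward (pullback.snd f u) hq
  constructor
  · rintro ⟨hlf, hbc⟩ t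
    have hsq : IsPullback ((pullback.snd f u).fiberι t) ((pullback.snd f u).fiberToSpecResidueField t)
        (pullback.snd f u) (T.fromSpecResidueField t) := IsPullback.of_hasPullback _ _
    haveI := hbc _ _ _ hsq
    have hex : ExchAt (pullback.snd f u) F' 0 t := exchAt_zero_of_epi_bc0 hq hfp' hfl' inferInstance
    refine ⟨hex, ?_⟩
    obtain ⟨W, hW, P', htW, hP', hepi⟩ := hex
    rw [← fiberRank_baseChange (IsPullback.of_hasPullback f u) hF hfp hfl 0 t,
      ← (sections_push_of_preservesEpi hq hP' hepi).2.2 t htW]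
    exact fibreRank_of_isFinLocFreeOfRank hqp hlf hW _
  · intro h
    refine ⟨?_, fun X'' T' v' f'' u' hsq => isIso_bc0_of_exchAt hsq hq fun z => (h (u' z)).1⟩
    refine isFinLocFreeOfRank_of_sections hqp fun t => ?_
    obtain ⟨W, hW, P', htW, hP', hepi⟩ := (h t).1
    obtain ⟨h1, h2, h3⟩ := sections_push_of_preservesEpi hq hP' hepi
    refine ⟨W, hW, htW, h1, h2, fun Q => ?_⟩
    obtain ⟨w, hw, rfl⟩ := QCoh.exists_point hW Q
    rw [h3 w hw, fiberRank_baseChange (IsPullback.of_hasPullback f u) hF hfp hfl 0 w]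
    exact (h w).2

/-- Over an affine open the stratum is cut out by Fitting ideals. -/
theorem exists_rep_affine (hF : Coh.IsQCoh F) (hfp : CohB1.IsFP F) (hfl : FlatMod.IsFlatOver f F) {V : S.Opens}
    (hV : IsAffineOpen V) (r : ℕ) :
    ∃ (Z : Scheme.{u}) (j : Z ⟶ V), IsImmersion j ∧ LocallyOfFinitePresentation j ∧ QuasiCompact j ∧
      ∀ (T : Scheme.{u}) (u : T ⟶ V), (∃ g, g ≫ j = u) ↔ ∀ t, GoodAt f F r (u ≫ V.ι) t := by
  obtain ⟨P, hP⟩ := exists_isModel (f := f) hF hfp hfl hV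
  let q : ℤ := -((0 : ℕ) : ℤ)
  have hr : q - 1 + 1 = q := by lia
  let A := Γ(S, V)
  haveI := finitePresentation_coker hP.1 hP.2.1 (q + 1) q
  haveI := finitePresentation_coker hP.1 hP.2.1 q (q - 1)
  haveI : Module.Flat A (Coker P (q + 1) q) :=
    (preservesEpi_iff hP.flat rfl).1 (isExactT_of_isZero fun M => hP.2.2.2.1 _ (by simp [q]) M).2
  haveI : Module.Free A (P.X (q - 1)) := hP.2.1 _
  haveI : Module.Finite A (P.X (q - 1)) := hP.1 _
  let N : ModuleCat.{u} A := ModuleCat.of A (Coker P (q + 1) q × cokZero P)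
  haveI : Module.Projective A (Coker P (q + 1) q) := Module.Flat.projective_of_finitePresentation
  haveI : Module.FinitePresentation A N :=
    inferInstanceAs (Module.FinitePresentation A (Coker P (q + 1) q × cokZero P))
  let c := r + Module.finrank A (P.X (q - 1))
  have hrank : ∀ (v : S) (hv : v ∈ V),
      (fibreRank N (hV.primeIdealOf ⟨v, hv⟩) = c ↔ CohIII.fiberRank f F 0 v = r) := fun v hv => by
    have h1 := dRank_add P hP.1 (show q + 1 = q + 1 from rfl) hr (hV.primeIdealOf ⟨v, hv⟩)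
    rw [← hP.fiberRank_eq hF 0 hv, fibreRank_eq_finrank] at h1
    rw [show fibreRank N (hV.primeIdealOf ⟨v, hv⟩) = _ from fibreRank_prod (Coker P (q + 1) q) (cokZero P) _, ← h1]
    show _ = r + Module.finrank Γ(S, V) (P.X (q - 1)) ↔ _
    omega
  haveI : IsAffine (V : Scheme.{u}) := hV
  have hM : Coh.IsQCoh (tilde N) := inferInstance
  have hMfp : CohB1.IsFP (tilde N) := (QCoh.isFP_tilde_iff N).2 inferInstance
  have hft := QCoh.isFT_of_isFP hMfp
  let I := FittStrat.lowerIdeal (tilde N) c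
  let J := Fitt.sheafIdeal (tilde N) c
  haveI : LocallyOfFinitePresentation (FittStrat.pieceι I J) :=
    FittStrat.locallyOfFinitePresentation_pieceι I J (FittStrat.fg_lowerIdeal hMfp c)
  haveI : QuasiCompact (FittStrat.pieceι I J) :=
    FittStrat.quasiCompact_pieceι I J (FittX.isFiniteTypeIdeal hMfp c)
  refine ⟨_, FittStrat.pieceι I J ≫ hV.isoSpec.inv, inferInstance, inferInstance, inferInstance, fun T u => ?_⟩
  have h0 : (∃ g, g ≫ FittStrat.pieceι I J ≫ hV.isoSpec.inv = u) ↔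
      ∃ g, g ≫ FittStrat.pieceι I J = u ≫ hV.isoSpec.hom := exists_congr fun g => by
    rw [← Category.assoc, Iso.comp_inv_eq]
  rw [h0, FittStrat.exists_factor_rank_iff hM hft c, isFinLocFreeOfRank_pullback_tilde_iff]
  have happ : ∀ (W : T.Opens) (hW : IsAffineOpen W) (hle : W ≤ (u ≫ V.ι) ⁻¹ᵁ V),
      hW.fromSpec ≫ u ≫ hV.isoSpec.hom = Spec.map ((u ≫ V.ι).appLE V W hle) := fun W hW hle => by
    rw [← cancel_mono hV.fromSpec, Category.assoc, Category.assoc, IsAffineOpen.isoSpec_hom_fromSpec]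
    exact (IsAffineOpen.SpecMap_appLE_fromSpec (u ≫ V.ι) hV hW hle).symm
  have hmem : ∀ t : T, (u ≫ V.ι) t ∈ V := fun t => (u t).2
  constructor
  · intro h t
    obtain ⟨W, hW, φ, htW, hφ, hfv, hrk⟩ := h t
    have hle : W ≤ (u ≫ V.ι) ⁻¹ᵁ V := fun w _ => hmem w
    obtain rfl : φ = (u ≫ V.ι).appLE V W hle := Spec.map_injective (hφ.symm.trans (happ W hW hle))
    refine ⟨(exchAt_iff_flatVia hF (u ≫ V.ι) hP (hmem t)).2
      ⟨W, hW, hle, htW, (flatVia_prod_iff _ _ _).1 hfv⟩, (hrank _ (hle htW)).1 ?_⟩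
    rw [← comap_appLE_primeIdealOf (u ≫ V.ι) hV hW hle htW]
    exact hrk _
  · intro h t
    obtain ⟨W, hW, hle, htW, hfv⟩ := (exchAt_iff_flatVia hF (u ≫ V.ι) hP (hmem t)).1 (h t).1
    refine ⟨W, hW, _, htW, happ W hW hle, (flatVia_prod_iff _ _ _).2 hfv, fun x => ?_⟩
    obtain ⟨w, hw, rfl⟩ := QCoh.exists_point hW x
    rw [comap_appLE_primeIdealOf (u ≫ V.ι) hV hW hle hw]
    exact (hrank _ (hle hw)).2 (h w).2

/-- A point satisfies the condition iff the fibre rank is `r`. -/
theorem goodAt_point_iff (hF : Coh.IsQCoh F) (hfp : CohB1.IsFP F) (hfl : FlatMod.IsFlatOver f F) (s : S) :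
    (∀ t, GoodAt f F r (S.fromSpecResidueField s) t) ↔ CohIII.fiberRank f F 0 s = r := by
  constructor
  · intro h
    have := (h default).2
    rwa [Scheme.fromSpecResidueField_apply] at this
  · intro h t
    refine ⟨?_, by rw [Scheme.fromSpecResidueField_apply]; exact h⟩
    obtain ⟨V, hV, P, hv, -, hP⟩ := exists_isModel_nhd (f := f) hF hfp hfl (show s ∈ (⊤ : S.Opens) from trivial)
    refine (exchAt_iff_flatVia hF _ hP (by rw [Scheme.fromSpecResidueField_apply]; exact hv)).2
      ⟨⊤, isAffineOpen_top _, top_le_preimage_residue hv, trivial, ?_⟩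
    letI := (isField_Γ_residue s).toField
    exact Module.Flat.of_free

end Groth.Agent.CohPullLib
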