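import Groth.Agent.CohPullLib.ResLE
import Groth.Prelude.Def_CohCmp

/-!
# Restriction of cohomology classes in degree zero
-/

set_option backward.isDefEq.respectTransparency false
set_option backward.isDefEq.respectTransparency.types false
set_option maxRecDepth 4000

universe u w v v' v'' u₁ u₂ u₃

open CategoryTheory CategoryTheory.Limits CategoryTheory.Abelian AlgebraicGeometry TopologicalSpace Opposite

namespace Groth.Agent.CohPullLib

variable {X Y : Scheme.{u}}

theorem sectH0_eq (F : X.Modules) (U : X.Opens) (s : Γ(F, U)) :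
    CohPull.sectH0 F U s = (Sheaf.H.equiv₀ (Coh.toAb (F.restrict U.ι)) isTerminalTop).symm
      (show Γ(F.restrict U.ι, ⊤) from F.presheaf.map (homOfLE U.ι_image_top.le).op s) := by
  have e : (eqToIso U.ι_image_top).op.hom = (homOfLE U.ι_image_top.le).op := Subsingleton.elim _ _
  rw [← e]
  simp only [CohPull.sectH0, AddEquiv.trans_apply]
  rfl

theorem equiv₀_mapH {M N : X.Modules} (φ : M ⟶ N) (y : Coh.HH X M 0) :
    Sheaf.H.equiv₀ (Coh.toAb N) isTerminalTop (CohPull.mapH φ 0 y) =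
      (show Γ(N, ⊤) from φ.app ⊤ (show Γ(M, ⊤) from Sheaf.H.equiv₀ (Coh.toAb M) isTerminalTop y)) :=
  (Sheaf.H.equiv₀_naturality (isTerminalTop : IsTerminal (⊤ : X.Opens))
    ((SheafOfModules.toSheaf X.ringCatSheaf).map φ) y).symm

theorem equiv₀_mapH_pullMod (g : X ⟶ Y) {M : Y.Modules} {N : X.Modules}
    (φ : (Scheme.Modules.pullback g).obj M ⟶ N) (t : Γ(M, ⊤)) :
    Sheaf.H.equiv₀ (Coh.toAb N) isTerminalTop
        (CohPull.mapH φ 0 (CohPull.pullMod g M 0 ((Sheaf.H.equiv₀ (Coh.toAb M) isTerminalTop).symm t))) =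
      (show Γ(N, ⊤) from φ.app ⊤ (QCoh.pullSec g M (V := ⊤) (W := ⊤) le_top t)) := by
  rw [equiv₀_mapH]
  refine congrArg (φ.app ⊤) ((CohPull.equiv₀_pullMod g M _).trans ?_)
  refine (congrArg _ (AddEquiv.apply_symm_apply _ t)).trans ?_
  exact (QCoh.map_id' (M := (Scheme.Modules.pullback g).obj M) (homOfLE (le_top : (⊤ : X.Opens) ≤ g ⁻¹ᵁ ⊤)) _).symm

theorem resLE_eq (F : X.Modules) {U U' : X.Opens} (h : U' ≤ U) (p : ℕ) (x : Coh.HHon X F U p) :
    CohPull.resLE F h p x = CohPull.mapH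
      ((Scheme.Modules.restrictFunctor U'.ι).map ((Scheme.Modules.pullbackId X).hom.app F)) p
      (CohPull.mapH (CohPull.pullOnIso (𝟙 X) U U' (restrict_id_le h) F).hom p
        (CohPull.pullMod _ (F.restrict U.ι) p x)) := rfl

theorem resLE_sectH0 (F : X.Modules) {U U' : X.Opens} (h : U' ≤ U) (s : Γ(F, U)) :
    CohPull.resLE F h 0 (CohPull.sectH0 F U s) =
      CohPull.sectH0 F U' (F.presheaf.map (homOfLE h).op s) := by
  have h₁ : U'.ι ''ᵁ (⊤ : U'.toScheme.Opens) ≤ (𝟙 X : X ⟶ X) ⁻¹ᵁ U :=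
    U'.ι_image_top.le.trans (restrict_id_le h)
  rw [sectH0_eq, sectH0_eq, resLE_eq]
  apply (Sheaf.H.equiv₀ (Coh.toAb (F.restrict U'.ι)) isTerminalTop).injective
  refine (equiv₀_mapH (X := U'.toScheme) _ _).trans ?_
  refine (congrArg (((Scheme.Modules.restrictFunctor U'.ι).map
      ((Scheme.Modules.pullbackId X).hom.app F)).app ⊤)
    ((equiv₀_mapH_pullMod ((𝟙 X : X ⟶ X).resLE U U' (restrict_id_le h))
      (CohPull.pullOnIso (𝟙 X) U U' (restrict_id_le h) F).hom _).trans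
      (pullOnIso_pullSec (𝟙 X) U U' (restrict_id_le h) F s U.ι_image_top.le h₁))).trans ?_
  refine Eq.trans ?_ (AddEquiv.apply_symm_apply _ _).symm
  refine (pullbackId_pullSec F h₁ s).trans ?_
  exact (QCoh.map_map _ _ _).symm

end Groth.Agent.CohPullLib
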