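import Groth.Agent.CohPullLib.NbhdRank
import Groth.Agent.CohPullLib.ResLEZero
import Groth.Agent.QCoh.Qcqs
import Groth.Prelude.Def_CohBC2

/-!
# The base change map in degree zero against the exchange map
-/

set_option backward.isDefEq.respectTransparency false
set_option backward.isDefEq.respectTransparency.types false
set_option linter.style.haveILetI false
set_option linter.unusedSectionVars false
set_option maxRecDepth 4000
set_option maxHeartbeats 1000000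

universe u

open CategoryTheory CategoryTheory.Limits AlgebraicGeometry TopologicalSpace Opposite
open scoped TensorProduct

namespace Groth.Agent.CohPullLib

open Groth.Agent.QCoh Groth.Agent.FlatCxLib Groth.Agent.ExistEasy

variable {X S S' X' : Scheme.{u}} {f : X ⟶ S} {g : S' ⟶ S} {f' : X' ⟶ S'} {g' : X' ⟶ X}

theorem pullOn_sectH0 (U : X.Opens) (U' : X'.Opens) (h : U' ≤ g' ⁻¹ᵁ U) (F : X.Modules) (s : Γ(F, U)) :
    CohPull.pullOn g' U U' h F 0 (CohPull.sectH0 F U s) =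
      CohPull.sectH0 ((Scheme.Modules.pullback g').obj F) U' (pullSec g' F h s) := by
  rw [sectH0_eq, sectH0_eq]
  apply (Sheaf.H.equiv₀ (Coh.toAb (((Scheme.Modules.pullback g').obj F).restrict U'.ι)) isTerminalTop).injective
  refine (equiv₀_mapH_pullMod (g'.resLE U U' h) (CohPull.pullOnIso g' U U' h F).hom _).trans ?_
  refine (pullOnIso_pullSec g' U U' h F s U.ι_image_top.le (U'.ι_image_top.le.trans h)).trans ?_
  refine Eq.trans ?_ (AddEquiv.apply_symm_apply _ _).symm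
  exact (CohPullLib.pullSec_map g' F U'.ι_image_top.le h s).symm

theorem bc0_app_pullSec (w : g' ≫ f = f' ≫ g) (F : X.Modules) {V : S.Opens} {W : S'.Opens} (hle : W ≤ g ⁻¹ᵁ V)
    (s : Γ(F, f ⁻¹ᵁ V)) :
    (CohBC.bc0 f g f' g' w F).app W (pullSec g ((Scheme.Modules.pushforward f).obj F) hle
        (show Γ((Scheme.Modules.pushforward f).obj F, V) from s)) =
      (show Γ((Scheme.Modules.pushforward f').obj ((Scheme.Modules.pullback g').obj F), W) from
        pullSec g' F (sectLE w hle) s) := by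
  refine (adjunct_app_pullSec g _ hle _).trans ?_
  exact map_map _ _ _

theorem exists_bc0_app_comparison [QuasiCompact f] [QuasiSeparated f] (h : IsPullback g' f' f g) {F : X.Modules}
    (hF : Coh.IsQCoh F) {V : S.Opens} (hV : IsAffineOpen V) {W : S'.Opens} (hW : IsAffineOpen W)
    (hle : W ≤ g ⁻¹ᵁ V) (T : ModuleCat.{u} Γ(S, V) ⥤ ModuleCat.{u} Γ(S, V)) [T.Additive] [T.Linear Γ(S, V)]
    (e : letI : (f ⁻¹ᵁ V).toScheme.Over (Spec (CommRingCat.of Γ(S, V))) := ⟨secπ f hV le_rfl⟩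
      T ⋙ forget₂ _ AddCommGrpCat.{u} ≅
        CohIII.tensorAFunctor Γ(S, V) (F.restrict (f ⁻¹ᵁ V).ι) ⋙ CohIII.HAb _ 0) :
    letI : Algebra Γ(S, V) Γ(S', W) := (g.appLE V W hle).hom.toAlgebra
    ∃ (a : Γ((Scheme.Modules.pullback g).obj ((Scheme.Modules.pushforward f).obj F), W) ≃+
        T.obj (ModuleCat.of _ Γ(S, V)) ⊗[Γ(S, V)] (ModuleCat.of Γ(S, V) Γ(S', W) : Type u))
      (b : T.obj (ModuleCat.of Γ(S, V) Γ(S', W)) ≃+
        Γ((Scheme.Modules.pushforward f').obj ((Scheme.Modules.pullback g').obj F), W)),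
      ∀ z, (CohBC.bc0 f g f' g' h.w F).app W z = b (tM T (ModuleCat.of Γ(S, V) Γ(S', W)) (a z)) := by
  letI : Algebra Γ(S, V) Γ(S', W) := (g.appLE V W hle).hom.toAlgebra
  let A := Γ(S, V)
  let C := Γ(S', W)
  let k := g'.resLE (f ⁻¹ᵁ V) (f' ⁻¹ᵁ W) (sectLE h.w hle)
  let F₀ := F.restrict (f ⁻¹ᵁ V).ι
  let F₁ := (Scheme.Modules.pullback k).obj F₀
  let F' := (Scheme.Modules.pullback g').obj F
  let M := (Scheme.Modules.pushforward f).obj F
  let M' := (Scheme.Modules.pushforward f').obj F'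
  letI : (f ⁻¹ᵁ V).toScheme.Over (Spec (CommRingCat.of Γ(S, V))) := ⟨secπ f hV le_rfl⟩
  letI := modHH (Coh.toGlobal (secπ f hV (le_refl (f ⁻¹ᵁ V)))) F₀ 0
  letI := modHH (Coh.toGlobal (secπ f' hW (le_refl (f' ⁻¹ᵁ W)))) F₁ 0
  have hk : IsPullback k (secπ f' hW le_rfl)
      ((f ⁻¹ᵁ V).toScheme ↘ Spec (CommRingCat.of Γ(S, V)))
      (Spec.map (CommRingCat.ofHom (algebraMap Γ(S, V) Γ(S', W)))) :=
    isPullback_sect h hV hW hle
  obtain ⟨L, R, hR⟩ := exists_pullMod_comparison hk (isQCoh_restrict _ hF) 0 T e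
  letI : Module A Γ((Scheme.Modules.pullback g).obj M, W) := Module.compHom _ (g.appLE V W hle).hom
  haveI : IsScalarTower A C Γ((Scheme.Modules.pullback g).obj M, W) :=
    ⟨fun a b c => mul_smul ((g.appLE V W hle).hom a) b c⟩
  obtain ⟨l₀, hl₀, hb₀⟩ := exists_pullSec_baseChange g (isQCoh_pushforward f hF) hW hV hle
  let eV₀ : Γ(M, V) ≃+ Coh.HH (f ⁻¹ᵁ V).toScheme F₀ 0 := CohPull.sectH0 F (f ⁻¹ᵁ V)
  let eV : Γ(M, V) ≃ₗ[A] Coh.HH (f ⁻¹ᵁ V).toScheme F₀ 0 := eV₀.toLinearEquiv fun a s => by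
    show CohPull.sectH0 F (f ⁻¹ᵁ V) (f.app V a • (show Γ(F, f ⁻¹ᵁ V) from s)) =
      Sheaf.H.map (Coh.smulAb F₀ (Coh.toGlobal (secπ f hV (le_refl (f ⁻¹ᵁ V))) a)) 0
        (CohPull.sectH0 F (f ⁻¹ᵁ V) s)
    rw [toGlobal_secπ, ← Scheme.Hom.app_eq_appLE, smulAb_sectH0]
  let φ := (CohPull.pullOnIso g' (f ⁻¹ᵁ V) (f' ⁻¹ᵁ W) (sectLE h.w hle) F).hom
  let Φ := (SheafOfModules.toSheaf (f' ⁻¹ᵁ W).toScheme.ringCatSheaf).map φ
  haveI : IsIso Φ := inferInstance
  let eW₀ : Coh.HH (f' ⁻¹ᵁ W).toScheme F₁ 0 ≃+ Γ(M', W) :=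
    (AddEquiv.ofBijective (Sheaf.H.map Φ 0) (map_bijective_of_isIso Φ 0)).trans
      (CohPull.sectH0 F' (f' ⁻¹ᵁ W)).symm
  have hsm : ∀ (c : C) (y), eW₀ (c • y) = c • eW₀ y := fun c y => by
    obtain ⟨s, rfl⟩ := eW₀.symm.surjective y
    rw [AddEquiv.apply_symm_apply]
    show (CohPull.sectH0 F' (f' ⁻¹ᵁ W)).symm (Sheaf.H.map Φ 0 (Sheaf.H.map
      (Coh.smulAb F₁ (Coh.toGlobal (secπ f' hW (le_refl (f' ⁻¹ᵁ W))) c)) 0 (eW₀.symm s))) = _
    rw [AddEquiv.symm_apply_eq, ← Sheaf.H.map_comp_apply, toGlobal_secπ, ← Scheme.Hom.app_eq_appLE]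
    refine Eq.trans ?_ (smulAb_sectH0 F' (f' ⁻¹ᵁ W) (f'.app W c) s)
    have hΦ : Sheaf.H.map Φ 0 (eW₀.symm s) = CohPull.sectH0 F' (f' ⁻¹ᵁ W) s :=
      (AddEquiv.symm_apply_eq _).1 (eW₀.apply_symm_apply s)
    refine Eq.trans ?_ (congrArg (Sheaf.H.map _ 0) hΦ)
    refine Eq.trans ?_ (Sheaf.H.map_comp_apply _ _ _)
    refine congrArg (fun t => Sheaf.H.map t 0 (eW₀.symm s)) ?_
    ext O t
    exact (Scheme.Modules.Hom.app_smul φ (Coh.resTop (f' ⁻¹ᵁ W).toScheme O _) t).symm.symm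
  let MC := ModuleCat.of A C
  let c₀ : C ⊗[A] Γ(M, V) ≃+ T.obj (ModuleCat.of A A) ⊗[A] (MC : Type u) :=
    (TensorProduct.comm A C Γ(M, V)).toAddEquiv.trans
      (TensorProduct.congr (eV.trans L) (LinearEquiv.refl A MC)).toAddEquiv
  refine ⟨hb₀.equiv.symm.toAddEquiv.trans c₀, R.trans eW₀, fun z => ?_⟩
  obtain ⟨w, rfl⟩ := hb₀.equiv.surjective z
  show _ = eW₀ (R (tM T MC (c₀ (hb₀.equiv.symm (hb₀.equiv w)))))
  rw [LinearEquiv.symm_apply_apply]
  induction w using TensorProduct.induction_on with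
  | zero => simp only [map_zero]
  | add a b ha hb => simp only [map_add, ha, hb]
  | tmul c m =>
    rw [IsBaseChange.equiv_tmul, hl₀]
    refine (Scheme.Modules.Hom.app_smul (CohBC.bc0 f g f' g' h.w F) c _).trans ?_
    refine (congrArg (c • ·) (bc0_app_pullSec h.w F hle m)).trans ?_
    show _ = eW₀ (R (tM T MC (L (eV m) ⊗ₜ[A] c)))
    rw [hR, hsm]
    refine congrArg (c • ·) ?_
    show _ = (CohPull.sectH0 F' (f' ⁻¹ᵁ W)).symm (CohPull.pullOn g' (f ⁻¹ᵁ V) (f' ⁻¹ᵁ W) (sectLE h.w hle) F 0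
      (CohPull.sectH0 F (f ⁻¹ᵁ V) m))
    rw [pullOn_sectH0, AddEquiv.symm_apply_apply]

section Family

variable [IsProper f] [LocallyOfFinitePresentation f] {F : X.Modules}

theorem isIso_bc0_of_exchAt (h : IsPullback g' f' f g) (hF : Coh.IsQCoh F)
    (hg : ∀ z : S', ExchAt f F 0 (g z)) : IsIso (CohBC.bc0 f g f' g' h.w F) := by
  haveI : QuasiCompact f' := MorphismProperty.of_isPullback h inferInstance
  haveI : QuasiSeparated f' := MorphismProperty.of_isPullback h inferInstance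
  choose V hV P hz hP hepi using hg
  have hW := fun z : S' => exists_isAffineOpen_mem_and_subset (x := z) (U := g ⁻¹ᵁ V z) (hz z)
  choose W hWaff hzW hle using hW
  refine isIso_of_bijective_cover (isQCoh_pullback g (isQCoh_pushforward f hF))
    (isQCoh_pushforward f' (isQCoh_pullback g' hF)) _ W hWaff (fun z => ⟨z, hzW z⟩) fun z => ?_
  letI : (f ⁻¹ᵁ V z).toScheme.Over (Spec (CommRingCat.of Γ(S, V z))) := ⟨secπ f (hV z) le_rfl⟩
  obtain ⟨e⟩ := (hP z).2.2.2.2 0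
  obtain ⟨a, b, hab⟩ := exists_bc0_app_comparison h hF (hV z) (hWaff z) (hle z) _ e
  letI : Algebra Γ(S, V z) Γ(S', W z) := (g.appLE (V z) (W z) (hle z)).hom.toAlgebra
  rw [show ⇑((CohBC.bc0 f g f' g' h.w F).app (W z)) = b ∘ tM _ _ ∘ a from funext hab]
  exact b.bijective.comp ((bijective_tM_of_preservesEpi (hP z).flat (hepi z) _).comp a.bijective)

theorem exchAt_zero_of_epi_bc0 (hF : Coh.IsQCoh F) (hfp : CohB1.IsFP F) (hfl : FlatMod.IsFlatOver f F) {s : S}
    (h : Epi (CohBC.bc0 f (S.fromSpecResidueField s) (f.fiberToSpecResidueField s) (f.fiberι s) (f.fiber_fac s) F)) :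
    ExchAt f F 0 s := by
  obtain ⟨V, hV, P, hs, -, hP⟩ := exists_isModel_nhd (f := f) hF hfp hfl (show s ∈ (⊤ : S.Opens) from trivial)
  have hsq : IsPullback (f.fiberι s) (f.fiberToSpecResidueField s) f (S.fromSpecResidueField s) :=
    IsPullback.of_hasPullback _ _
  haveI : QuasiCompact (f.fiberToSpecResidueField s) := MorphismProperty.of_isPullback hsq inferInstance
  haveI : QuasiSeparated (f.fiberToSpecResidueField s) := MorphismProperty.of_isPullback hsq inferInstance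
  letI : (f ⁻¹ᵁ V).toScheme.Over (Spec (CommRingCat.of Γ(S, V))) := ⟨secπ f hV le_rfl⟩
  obtain ⟨e⟩ := hP.2.2.2.2 0
  obtain ⟨a, b, hab⟩ := exists_bc0_app_comparison hsq hF hV (isAffineOpen_top _) (top_le_preimage_residue hs) _ e
  refine exists_exchAt_of_surjective hF hP 0 hs fun y => ?_
  haveI := h
  obtain ⟨z, hz⟩ := app_surjective_of_epi (isQCoh_pullback _ (isQCoh_pushforward f hF))
    (isQCoh_pushforward _ (isQCoh_pullback _ hF))
    (CohBC.bc0 f (S.fromSpecResidueField s) (f.fiberToSpecResidueField s) (f.fiberι s) (f.fiber_fac s) F)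
    (isAffineOpen_top _) (b y)
  exact ⟨a z, b.injective ((hab z).symm.trans hz)⟩

theorem exists_isFinLocFree_push_nhd (hF : Coh.IsQCoh F) (hfp : CohB1.IsFP F) (hfl : FlatMod.IsFlatOver f F)
    [HasInjectiveResolutions X.Modules] {y : S} {U : S.Opens} (hy : y ∈ U) (h : ExchAt f F 0 y) :
    ∃ V : S.Opens, y ∈ V ∧ V ≤ U ∧ FlatMod.IsFinLocFree (((Scheme.Modules.pushforward f).obj F).restrict V.ι) := by
  haveI := SpObjSS.enoughInjectives_of_hasInjectiveResolutions (C := X.Modules)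
  haveI := preservesFiniteLimits_push f
  obtain ⟨V, hV, P, hyV, hle, hP, ha, hb, -⟩ :=
    exists_isFinLocFree_nhd hF hfp hfl hy h fun p' hp' => absurd hp' (by omega)
  obtain ⟨hflat, hfpS⟩ := flat_fp_sections hF hP ha hb
  let e := (Scheme.Modules.pushforward f).rightDerivedZeroIsoSelf.app F
  let l := LinearEquiv.ofBijective (appLin e.hom V) (ConcreteCategory.bijective_of_isIso (e.hom.app V))
  haveI : Module.Flat Γ(S, V) Γ((Scheme.Modules.pushforward f).obj F, V) := Module.Flat.of_linearEquiv l.symm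
  haveI : Module.FinitePresentation Γ(S, V) Γ((Scheme.Modules.pushforward f).obj F, V) :=
    Module.FinitePresentation.of_equiv l
  exact ⟨V, hyV, hle, isFinLocFree_restrict_of_sections (isQCoh_pushforward f hF) hV⟩

theorem isFinLocFree_push_of_exchAt (hF : Coh.IsQCoh F) (hfp : CohB1.IsFP F) (hfl : FlatMod.IsFlatOver f F)
    [HasInjectiveResolutions X.Modules] (h : ∀ y, ExchAt f F 0 y) :
    FlatMod.IsFinLocFree ((Scheme.Modules.pushforward f).obj F) := by
  haveI := SpObjSS.enoughInjectives_of_hasInjectiveResolutions (C := X.Modules)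
  haveI := preservesFiniteLimits_push f
  have hlf := isFinLocFree_of_exchAt hF hfp hfl h fun y p' hp' => absurd hp' (by omega)
  let e := (Scheme.Modules.pushforward f).rightDerivedZeroIsoSelf.app F
  intro x
  obtain ⟨U, n, hx, ⟨i⟩⟩ := hlf x
  exact ⟨U, n, hx, ⟨(Scheme.Modules.restrictFunctor U.ι).mapIso e.symm ≪≫ i⟩⟩

end Family

end Groth.Agent.CohPullLib
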