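import Groth.Agent.CohPullLib.NbhdExchange

/-!
# Ranks near a point, and exchange from local freeness
-/

set_option backward.isDefEq.respectTransparency false
set_option backward.isDefEq.respectTransparency.types false
set_option linter.style.haveILetI false
set_option linter.unusedSectionVars false
set_option maxRecDepth 4000
set_option maxHeartbeats 1000000

universe u

open CategoryTheory CategoryTheory.Limits AlgebraicGeometry TopologicalSpace Opposite
open scoped TensorProduct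

namespace Groth.Agent.CohPullLib

open Groth.Agent.QCoh Groth.Agent.FlatCxLib

theorem flat_sections_of_isFinLocFree {S : Scheme.{u}} {M : S.Modules} {V₀ V : S.Opens}
    (h : FlatMod.IsFinLocFree (M.restrict V₀.ι)) (hM : Coh.IsQCoh M) (hV : IsAffineOpen V) (hle : V ≤ V₀) :
    Module.Flat Γ(S, V) Γ(M, V) := by
  let W₀ := V₀.ι ⁻¹ᵁ V
  have hW₀ : IsAffineOpen W₀ := hV.preimage_of_isOpenImmersion V₀.ι (by simpa using hle)
  haveI := (QCoh.flat_sections_iff (isQCoh_restrict V₀.ι hM) hW₀).2 fun x _ => (isFlat_and_isFP_iff.2 h).1 x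
  letI : Algebra Γ(V₀.toScheme, W₀) Γ(S, V₀.ι ''ᵁ W₀) := (V₀.ι.appIso W₀).inv.hom.toAlgebra
  letI : Module Γ(V₀.toScheme, W₀) Γ(M, V₀.ι ''ᵁ W₀) :=
    Module.compHom _ (V₀.ι.appIso W₀).inv.hom
  haveI : Module.Flat Γ(V₀.toScheme, W₀) Γ(M, V₀.ι ''ᵁ W₀) :=
    (inferInstance : Module.Flat Γ(V₀.toScheme, W₀) Γ(M.restrict V₀.ι, W₀))
  haveI : IsScalarTower Γ(V₀.toScheme, W₀) Γ(S, V₀.ι ''ᵁ W₀) Γ(M, V₀.ι ''ᵁ W₀) :=
    .of_algebraMap_smul fun _ _ => rfl
  haveI : Module.Flat Γ(S, V₀.ι ''ᵁ W₀) Γ(M, V₀.ι ''ᵁ W₀) :=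
    flat_of_bijective_algebraMap (A := Γ(V₀.toScheme, W₀))
      (ConcreteCategory.bijective_of_isIso (V₀.ι.appIso W₀).inv)
  exact flat_sections_of_eq (M := M) (V := V₀.ι ''ᵁ W₀) (W := V) (by
    rw [Scheme.Hom.image_preimage_eq_opensRange_inf, Scheme.Opens.opensRange_ι, inf_eq_right.2 hle])

variable {X S : Scheme.{u}} {f : X ⟶ S} [IsProper f] [LocallyOfFinitePresentation f] {F : X.Modules}

/-- Exchange in degree `p + 1` with flat sections gives exchange in degree `p`. -/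
theorem exchAt_of_flat [HasInjectiveResolutions X.Modules] (hF : Coh.IsQCoh F) (hfp : CohB1.IsFP F)
    (hfl : FlatMod.IsFlatOver f F) {p : ℕ} {y : S} (h : ExchAt f F (p + 1) y) {V₀ : S.Opens} (hy : y ∈ V₀)
    (hlf : FlatMod.IsFinLocFree (((Coh.Rpush f (p + 1)).obj F).restrict V₀.ι)) : ExchAt f F p y := by
  obtain ⟨V, hV, P, hyV, hle, hP, hepi, -⟩ := exists_common_nhd hF hfp hfl hy h h
  refine ⟨V, hV, P, hyV, hP, ?_⟩
  haveI := flat_sections_of_isFinLocFree hlf (isQCoh_Rpush f hF (p + 1)) hV hle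
  obtain ⟨l⟩ := hP.nonempty_sections hF (p + 1)
  let q : ℤ := -((p + 1 : ℕ) : ℤ)
  haveI : Module.Flat Γ(S, V) (CohIII.T P q (ModuleCat.of Γ(S, V) Γ(S, V))) :=
    Module.Flat.of_linearEquiv ((tUnitIso (P := P) q).toLinearEquiv.trans l.symm)
  have hqp : q + 1 = -(p : ℤ) := by lia
  have hr : q - 1 + 1 = q := by lia
  exact (preservesEpi_iff_preservesMono hP.flat hqp).2 ((exact_iff hP.flat hqp hr).2 ⟨hepi, ‹_›⟩).1

theorem IsModel.isLocallyConstant_fiberRank (hF : Coh.IsQCoh F) {p : ℕ} {V : S.Opens} {hV : IsAffineOpen V}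
    {P : ChainComplex (ModuleCat.{u} Γ(S, V)) ℤ} (hP : IsModel f F hV P)
    (h₁ : (CohIII.TFun P (-(p : ℤ))).PreservesEpimorphisms)
    (h₂ : (CohIII.TFun P (-(p : ℤ) + 1)).PreservesEpimorphisms) :
    IsLocallyConstant (fun v : V => CohIII.fiberRank f F p v.1) := by
  let q : ℤ := -(p : ℤ)
  have hr : q - 1 + 1 = q := by lia
  haveI : Module.Flat Γ(S, V) (Coker P q (q - 1)) := ExchAt.flat_coker hP h₁
  haveI : Module.Flat Γ(S, V) (Coker P (q + 1) q) := (preservesEpi_iff hP.flat rfl).1 h₂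
  have h := isLocallyConstant_dRank hP.1 hP.2.1 (show q + 1 = q + 1 from rfl) hr
  have e : (fun v : V => CohIII.fiberRank f F p v.1) = CohIII.dRank P q ∘ fun v : V => hV.primeIdealOf v :=
    funext fun v => hP.fiberRank_eq hF p v.2
  rw [e]
  exact h.comp_continuous hV.isoSpec.hom.continuous

theorem exchAt_of_isLocallyConstant [IsReduced S] (hF : Coh.IsQCoh F) (hfp : CohB1.IsFP F)
    (hfl : FlatMod.IsFlatOver f F) {p : ℕ} (h : IsLocallyConstant (CohIII.fiberRank f F p)) (y : S) :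
    ExchAt f F p y ∧ ∀ p', p' + 1 = p → ExchAt f F p' y := by
  obtain ⟨V, hV, P, hy, -, hP⟩ := exists_isModel_nhd (f := f) hF hfp hfl (show y ∈ (⊤ : S.Opens) from trivial)
  let q : ℤ := -(p : ℤ)
  have hr : q - 1 + 1 = q := by lia
  haveI : _root_.IsReduced Γ(S, V) := inferInstance
  have hc : IsLocallyConstant (CohIII.dRank P q) := by
    have e : CohIII.dRank P q = CohIII.fiberRank f F p ∘ hV.fromSpec := funext fun z => by
      obtain ⟨w, hw, rfl⟩ := exists_point_fromSpec hV z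
      exact (hP.fiberRank_eq hF p hw).symm.trans
        (congrArg (CohIII.fiberRank f F p) (hV.fromSpec_primeIdealOf ⟨w, hw⟩).symm)
    rw [e]
    exact h.comp_continuous hV.fromSpec.continuous
  obtain ⟨h2, h1⟩ := flat_coker_of_isLocallyConstant hP.1 hP.2.1 (show q + 1 = q + 1 from rfl) hr hc
  refine ⟨⟨V, hV, P, hy, hP, (preservesEpi_iff hP.flat hr).2 h1⟩, fun p' hp' => ⟨V, hV, P, hy, hP, ?_⟩⟩
  rw [show -(p' : ℤ) = q + 1 by lia]
  exact (preservesEpi_iff hP.flat rfl).2 h2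

/-- Local freeness in all degrees above `m` gives exchange from degree `m` on. -/
theorem exchAt_of_isFinLocFree_above [HasInjectiveResolutions X.Modules] (hF : Coh.IsQCoh F) (hfp : CohB1.IsFP F)
    (hfl : FlatMod.IsFlatOver f F) {m : ℕ} (h : ∀ i, m < i → FlatMod.IsFinLocFree ((Coh.Rpush f i).obj F))
    (y : S) (i : ℕ) (hi : m ≤ i) : ExchAt f F i y := by
  obtain ⟨V, hV, P, hy, -, hP⟩ := exists_isModel_nhd (f := f) hF hfp hfl (show y ∈ (⊤ : S.Opens) from trivial)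
  obtain ⟨c, hc⟩ := hP.2.2.1
  have hex : ∀ r : ℤ, r ≤ -(m : ℤ) - 1 →
      (CohIII.TFun P r).PreservesMonomorphisms ∧ (CohIII.TFun P r).PreservesEpimorphisms :=
    (S2446.result P hP.flat c hc (-(m : ℤ) - 1)).2 fun r hr => by
      obtain ⟨j, rfl⟩ : ∃ j : ℕ, r = -(j : ℤ) := ⟨(-r).toNat, by lia⟩
      obtain ⟨l⟩ := hP.nonempty_sections hF j
      haveI := (QCoh.flat_sections_iff (isQCoh_Rpush f hF j) hV).2 fun x _ =>
        (isFlat_and_isFP_iff.2 (h j (by lia))).1 x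
      exact Module.Flat.of_linearEquiv ((tUnitIso (P := P) (-(j : ℤ))).toLinearEquiv.trans l.symm)
  refine ⟨V, hV, P, hy, hP, ?_⟩
  exact (preservesEpi_iff_preservesMono hP.flat (show -(i : ℤ) - 1 + 1 = -(i : ℤ) by lia)).2
    (hex _ (by lia)).1

end Groth.Agent.CohPullLib
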