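import Groth.Agent.CohPullLib.PtExchange

/-!
# Finiteness of homology next to a flat cokernel; constancy of fibre ranks
-/

set_option backward.isDefEq.respectTransparency false
set_option backward.isDefEq.respectTransparency.types false
set_option linter.style.haveILetI false

universe u

open CategoryTheory CategoryTheory.Limits TensorProduct

namespace Groth.Agent.CohPullLib

open Groth.Agent.QCoh Groth.Agent.FlatCxLib

variable {A : Type u} [CommRing A] {P : ChainComplex (ModuleCat.{u} A) ℤ}
  (hfin : ∀ i, Module.Finite A (P.X i)) (hfree : ∀ i, Module.Free A (P.X i))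

include hfin hfree

theorem finitePresentation_homology {q r : ℤ} (hrq : r + 1 = q) [Module.Flat A (Coker P q r)] :
    Module.FinitePresentation A (P.homology q) := by
  let W := Coker P q r
  haveI := finitePresentation_coker hfin hfree q r
  haveI : Module.Projective A W := Module.Flat.projective_of_finitePresentation
  haveI := hfin r
  haveI := hfree r
  haveI := hfin q
  haveI := hfree q
  haveI := hfin (q + 1)
  let u := (P.d q r).hom
  let R := LinearMap.range u
  obtain ⟨s, hs⟩ := Module.projective_lifting_property R.mkQ LinearMap.id (Submodule.mkQ_surjective _)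
  let π : P.X r →ₗ[A] R := (LinearMap.id - s ∘ₗ R.mkQ).codRestrict R fun x => by
    refine (Submodule.Quotient.mk_eq_zero R).1 ?_
    show R.mkQ (x - s (R.mkQ x)) = 0
    rw [map_sub, show R.mkQ (s (R.mkQ x)) = R.mkQ x from LinearMap.congr_fun hs _, sub_self]
  have hπ : π ∘ₗ R.subtype = LinearMap.id := LinearMap.ext fun x => Subtype.ext (by
    show (x : P.X r) - s (R.mkQ x) = x
    rw [show R.mkQ x = 0 from (Submodule.Quotient.mk_eq_zero R).2 x.2, map_zero, sub_zero])
  haveI : Module.Projective A R := Module.Projective.of_split R.subtype π hπ
  obtain ⟨t, ht⟩ := Module.projective_lifting_property u.rangeRestrict LinearMap.id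
    u.surjective_rangeRestrict
  let Z := Cyc P q r
  let ρ : P.X q →ₗ[A] Z := (LinearMap.id - t ∘ₗ u.rangeRestrict).codRestrict Z fun x => by
    show u (x - t (u.rangeRestrict x)) = 0
    rw [map_sub, show u (t (u.rangeRestrict x)) = u x from congrArg Subtype.val (LinearMap.congr_fun ht _), sub_self]
  have hρ : ρ ∘ₗ Z.subtype = LinearMap.id := LinearMap.ext fun x => Subtype.ext (by
    show (x : P.X q) - t (u.rangeRestrict x) = x
    rw [show u.rangeRestrict x = 0 from Subtype.ext x.2, map_zero, sub_zero])
  haveI : Module.Projective A Z := Module.Projective.of_split Z.subtype ρ hρ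
  haveI : Module.Finite A Z := Module.Finite.of_surjective ρ fun z => ⟨z, LinearMap.congr_fun hρ z⟩
  haveI : Module.FinitePresentation A Z := Module.finitePresentation_of_projective A _
  haveI : Module.FinitePresentation A (Hom' P (q + 1) q r) :=
    Module.finitePresentation_of_surjective (LinearMap.range (toCyc P (q + 1) q r)).mkQ
      (Submodule.mkQ_surjective _) (by rw [Submodule.ker_mkQ]; exact Submodule.FG.of_finite)
  exact Module.FinitePresentation.of_equiv (hom'Equiv (P := P) (show q + 1 = q + 1 from rfl) hrq)

theorem isLocallyConstant_dRank {p q r : ℤ} (hqp : q + 1 = p) (hrq : r + 1 = q)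
    [Module.Flat A (Coker P p q)] [Module.Flat A (Coker P q r)] :
    IsLocallyConstant (CohIII.dRank P q) := by
  haveI := finitePresentation_coker hfin hfree p q
  haveI := finitePresentation_coker hfin hfree q r
  haveI := hfree r
  haveI := hfin r
  haveI : Module.FinitePresentation A (P.X r) := Module.finitePresentation_of_projective A _
  have h := ((isLocallyConstant_fibreRank (A := A) (Coker P p q)).add (isLocallyConstant_fibreRank (A := A) (Coker P q r))).comp₂
    (isLocallyConstant_fibreRank (A := A) (P.X r)) fun a b => a - b
  convert h using 1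
  funext x
  have := dRank_add P hfin hqp hrq x
  simp only [Pi.add_apply]
  omega

/-- Over a reduced ring locally constant fibre ranks make the neighbouring cokernels flat. -/
theorem flat_coker_of_isLocallyConstant [IsReduced A] {p q r : ℤ} (hqp : q + 1 = p) (hrq : r + 1 = q)
    (h : IsLocallyConstant (CohIII.dRank P q)) :
    Module.Flat A (Coker P p q) ∧ Module.Flat A (Coker P q r) := by
  haveI := finitePresentation_coker hfin hfree p q
  haveI := finitePresentation_coker hfin hfree q r
  haveI := hfree r
  haveI := hfin r
  haveI : Module.FinitePresentation A (P.X r) := Module.finitePresentation_of_projective A _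
  have key : ∀ x, ∀ᶠ y in nhds x, fibreRank (Coker P p q) y = fibreRank (Coker P p q) x ∧
      fibreRank (Coker P q r) y = fibreRank (Coker P q r) x := fun x => by
    filter_upwards [upperSemicontinuous_fibreRank (Coker P p q) x _ (Nat.lt_succ_self _),
      upperSemicontinuous_fibreRank (Coker P q r) x _ (Nat.lt_succ_self _),
      h.eventually_eq x, (isLocallyConstant_fibreRank (A := A) (P.X r)).eventually_eq x] with y h1 h2 h3 h4
    have := dRank_add P hfin hqp hrq x
    have := dRank_add P hfin hqp hrq y
    omega
  exact ⟨flat_of_isLocallyConstant_fibreRank _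
      ((IsLocallyConstant.iff_eventually_eq _).2 fun x => (key x).mono fun y hy => hy.1),
    flat_of_isLocallyConstant_fibreRank _
      ((IsLocallyConstant.iff_eventually_eq _).2 fun x => (key x).mono fun y hy => hy.2)⟩

end Groth.Agent.CohPullLib
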