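import Groth.Agent.CohPullLib.ModelExchange

/-!
# Sections and fibres of higher direct images through the models
-/

set_option backward.isDefEq.respectTransparency false
set_option backward.isDefEq.respectTransparency.types false
set_option linter.style.haveILetI false
set_option linter.unusedSectionVars false
set_option maxRecDepth 4000
set_option maxHeartbeats 1000000

universe u

open CategoryTheory CategoryTheory.Limits AlgebraicGeometry TopologicalSpace Opposite
open scoped TensorProduct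

namespace Groth.Agent.CohPullLib

open Groth.Agent.QCoh Groth.Agent.FlatCxLib

variable {X S : Scheme.{u}} {f : X ⟶ S} [IsProper f] {F : X.Modules} {V : S.Opens} {hV : IsAffineOpen V}
  {P : ChainComplex (ModuleCat.{u} Γ(S, V)) ℤ}

theorem IsModel.nonempty_sections [HasInjectiveResolutions X.Modules] (hF : Coh.IsQCoh F)
    (hP : IsModel f F hV P) (p : ℕ) :
    Nonempty (Γ((Coh.Rpush f p).obj F, V) ≃ₗ[Γ(S, V)] P.homology (-(p : ℤ))) := by
  obtain ⟨e₁⟩ := nonempty_sections_HH (f := f) hF hV p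
  rw [← toGlobal_overSpec f hV, ← secπ_eq_overSpec] at e₁
  letI : (f ⁻¹ᵁ V).toScheme.Over (Spec (CommRingCat.of Γ(S, V))) := ⟨secπ f hV le_rfl⟩
  obtain ⟨e⟩ := hP.2.2.2.2 p
  obtain ⟨e₂⟩ := nonempty_linearEquiv_HH (isQCoh_restrict (f ⁻¹ᵁ V).ι hF) p _ e
  exact ⟨e₁.trans (e₂.trans (tUnitIso (P := P) (-(p : ℤ))).toLinearEquiv)⟩

theorem IsModel.nonempty_fibre (hF : Coh.IsQCoh F) (hP : IsModel f F hV P) (p : ℕ) {y : S} (hy : y ∈ V) :
    Nonempty (CohIII.fiberH f F y p ≃ₗ[S.residueField y]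
      (CohIII.bcCx (evalV y hy) P).homology (-(p : ℤ))) := by
  letI : (f ⁻¹ᵁ V).toScheme.Over (Spec (CommRingCat.of Γ(S, V))) := ⟨secπ f hV le_rfl⟩
  letI : (f.fiber y).Over (Spec (CommRingCat.of (S.residueField y))) := ⟨f.fiberToSpecResidueField y⟩
  let φ := evalV y hy
  have hφ : Spec.map (CommRingCat.ofHom φ) ≫ hV.fromSpec = S.fromSpecResidueField y := by
    show Spec.map (S.presheaf.germ V y hy ≫ S.residue y) ≫ _ = _
    rw [Spec.map_comp, Category.assoc, Scheme.fromSpecResidueField]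
    exact congrArg (Spec.map (S.residue y) ≫ ·) (hV.fromSpecStalk_eq_fromSpecStalk hy)
  have hpb := isPullback_secπ f hV
  have hbig : IsPullback (f.fiberι y) (f.fiberToSpecResidueField y) f
      (Spec.map (CommRingCat.ofHom φ) ≫ hV.fromSpec) := by
    rw [hφ]; exact IsPullback.of_hasPullback _ _
  let g : f.fiber y ⟶ (f ⁻¹ᵁ V).toScheme :=
    hpb.lift (f.fiberι y) (f.fiberToSpecResidueField y ≫ Spec.map (CommRingCat.ofHom φ))
      (by rw [Category.assoc]; exact hbig.w)
  have hg : g ≫ (f ⁻¹ᵁ V).ι = f.fiberι y := hpb.lift_fst _ _ _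
  have hsq : IsPullback g (f.fiberToSpecResidueField y) (secπ f hV le_rfl) (Spec.map (CommRingCat.ofHom φ)) :=
    IsPullback.of_right (by rw [hg]; exact hbig) (hpb.lift_snd _ _ _) hpb
  haveI : CompactSpace (f ⁻¹ᵁ V).toScheme :=
    isCompact_iff_compactSpace.1 (f.isCompact_preimage hV.isCompact)
  haveI : (f ⁻¹ᵁ V).toScheme.IsSeparated := ⟨by
    haveI : IsAffine V.toScheme := hV
    rw [← Limits.terminal.comp_from (f.resLE V (f ⁻¹ᵁ V) le_rfl)]
    infer_instance⟩
  let ψ : (Scheme.Modules.pullback g).obj (F.restrict (f ⁻¹ᵁ V).ι) ≅ CohIII.fiberMod f F y :=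
    (Scheme.Modules.pullback g).mapIso ((Scheme.Modules.restrictFunctorIsoPullback _).app F) ≪≫
      (Scheme.Modules.pullbackComp g (f ⁻¹ᵁ V).ι).app F ≪≫ (Scheme.Modules.pullbackCongr hg).app F
  obtain ⟨e⟩ := hP.2.2.2.2 p
  obtain ⟨e'⟩ := exists_tfun_bc φ g hsq (isQCoh_restrict _ hF) ψ P _ p e
  obtain ⟨l⟩ := nonempty_linearEquiv_HH (A := S.residueField y) (F := CohIII.fiberMod f F y)
    (isQCoh_pullback _ hF) p _ e'
  exact ⟨l.trans (tUnitIso (P := CohIII.bcCx φ P) (-(p : ℤ))).toLinearEquiv⟩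

theorem IsModel.fiberRank_eq (hF : Coh.IsQCoh F) (hP : IsModel f F hV P) (p : ℕ) {y : S} (hy : y ∈ V) :
    CohIII.fiberRank f F p y = CohIII.dRank P (-(p : ℤ)) (hV.primeIdealOf ⟨y, hy⟩) := by
  obtain ⟨l⟩ := hP.nonempty_fibre hF p hy
  exact l.finrank_eq.trans (finrank_bc_eq_dRank (evalV y hy) P _ (ker_evalV hV hy) _)

theorem IsModel.isZero_residue_of_subsingleton (hF : Coh.IsQCoh F) (hP : IsModel f F hV P) (p : ℕ) {y : S}
    (hy : y ∈ V) (h : Subsingleton (CohIII.fiberH f F y p)) :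
    letI : Algebra Γ(S, V) (S.residueField y) := (evalV y hy).toAlgebra
    IsZero ((CohIII.TFun P (-(p : ℤ))).obj (ModuleCat.of Γ(S, V) (S.residueField y))) := by
  letI : Algebra Γ(S, V) (S.residueField y) := (evalV y hy).toAlgebra
  obtain ⟨l⟩ := hP.nonempty_fibre hF p hy
  obtain ⟨e⟩ := nonempty_bcT_iso P (evalV y hy) (-(p : ℤ))
  let K := CohIII.bcCx (evalV y hy) P
  haveI : Subsingleton (K.homology (-(p : ℤ))) := l.symm.toEquiv.subsingleton
  haveI : Subsingleton ((CohIII.TFun K (-(p : ℤ))).obj (ModuleCat.of _ (S.residueField y))) :=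
    (tUnitIso (P := K) (-(p : ℤ))).toLinearEquiv.toEquiv.subsingleton
  let rs := (ModuleCat.restrictScalars (evalV y hy)).obj (ModuleCat.of (S.residueField y) (S.residueField y))
  let j : rs ≅ ModuleCat.of Γ(S, V) (S.residueField y) :=
    LinearEquiv.toModuleIso
      { toFun := fun z => z, invFun := fun z => z, left_inv := fun _ => rfl, right_inv := fun _ => rfl,
        map_add' := fun _ _ => rfl, map_smul' := fun _ _ => rfl }
  have h2 : IsZero ((forget₂ (ModuleCat.{u} Γ(S, V)) AddCommGrpCat.{u}).obj ((CohIII.TFun P (-(p : ℤ))).obj rs)) :=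
    (Functor.map_isZero (forget₂ (ModuleCat.{u} (S.residueField y)) AddCommGrpCat.{u})
      (ModuleCat.isZero_of_subsingleton _)).of_iso (e.app _).symm
  haveI : Subsingleton ((CohIII.TFun P (-(p : ℤ))).obj rs) := AddCommGrpCat.subsingleton_of_isZero h2
  exact (ModuleCat.isZero_of_subsingleton _).of_iso ((CohIII.TFun P (-(p : ℤ))).mapIso j).symm

end Groth.Agent.CohPullLib
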