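import Groth.Agent.CohPullLib.BCPoint
import Groth.Agent.CohPullLib.ModelFibre
import Groth.Agent.CohPullLib.ExchCoker

/-!
# Consequences of exchange near a point
-/

set_option backward.isDefEq.respectTransparency false
set_option backward.isDefEq.respectTransparency.types false
set_option linter.style.haveILetI false
set_option linter.unusedSectionVars false
set_option maxRecDepth 4000
set_option maxHeartbeats 1000000

universe u

open CategoryTheory CategoryTheory.Limits AlgebraicGeometry TopologicalSpace Opposite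
open scoped TensorProduct

namespace Groth.Agent.CohPullLib

open Groth.Agent.QCoh Groth.Agent.FlatCxLib

variable {X S : Scheme.{u}} {f : X ⟶ S} [IsProper f] [LocallyOfFinitePresentation f] {F : X.Modules}

theorem ExchAt.flat_coker {p : ℕ} {V : S.Opens} {hV : IsAffineOpen V}
    {P : ChainComplex (ModuleCat.{u} Γ(S, V)) ℤ} (hP : IsModel f F hV P)
    (h : (CohIII.TFun P (-(p : ℤ))).PreservesEpimorphisms) :
    Module.Flat Γ(S, V) (Coker P (-(p : ℤ)) (-(p : ℤ) - 1)) :=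
  (preservesEpi_iff hP.flat (show -(p : ℤ) - 1 + 1 = -(p : ℤ) by lia)).1 h

/-- Vanishing of the cohomology of a fibre spreads to a neighbourhood. -/
theorem vanAt_of_subsingleton (hF : Coh.IsQCoh F) (hfp : CohB1.IsFP F) (hfl : FlatMod.IsFlatOver f F) (p : ℕ)
    {y : S} (h : Subsingleton (CohIII.fiberH f F y p)) : VanAt f F p y := by
  obtain ⟨V, hV, P, hy, -, hP⟩ := exists_isModel_nhd (f := f) hF hfp hfl (show y ∈ (⊤ : S.Opens) from trivial)
  have hex : ExchAt f F p y := by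
    letI : Algebra Γ(S, V) (S.residueField y) := (evalV y hy).toAlgebra
    haveI := ModuleCat.subsingleton_of_isZero (hP.isZero_residue_of_subsingleton hF p hy h)
    exact exchAt_of_surjective_field hF hP p hy (ker_evalV hV hy) fun _ => ⟨0, Subsingleton.elim _ _⟩
  obtain ⟨V₁, hV₁, P₁, hy₁, hP₁, hepi⟩ := hex
  let q : ℤ := -(p : ℤ)
  have hr : q - 1 + 1 = q := by lia
  letI : Algebra Γ(S, V₁) (S.residueField y) := (evalV y hy₁).toAlgebra
  haveI := ModuleCat.subsingleton_of_isZero (hP₁.isZero_residue_of_subsingleton hF p hy₁ h)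
  haveI : Module.Flat Γ(S, V₁) (Coker P₁ q (q - 1)) := ExchAt.flat_coker hP₁ hepi
  haveI := finitePresentation_homology hP₁.1 hP₁.2.1 hr
  let H := (CohIII.TFun P₁ q).obj (ModuleCat.of Γ(S, V₁) Γ(S, V₁))
  haveI : Module.Finite Γ(S, V₁) H := Module.Finite.equiv (tUnitIso (P := P₁) q).toLinearEquiv.symm
  let k := S.residueField y
  haveI hHk : Subsingleton (H ⊗[Γ(S, V₁)] k) :=
    (bijective_tM_of_preservesEpi hP₁.flat hepi (ModuleCat.of Γ(S, V₁) k)).1.subsingleton
  let x := hV₁.primeIdealOf ⟨y, hy₁⟩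
  have hx := ker_evalV hV₁ hy₁
  have h1 : x.asIdeal ≤ RingHom.ker (algebraMap Γ(S, V₁) k) := hx.ge
  have h2 : x.asIdeal.primeCompl ≤ (IsUnit.submonoid k).comap (algebraMap Γ(S, V₁) k) :=
    fun a ha => isUnit_iff_ne_zero.2 fun h => ha (hx ▸ (RingHom.mem_ker).2 h)
  let ι : x.asIdeal.ResidueField →+* k := Ideal.ResidueField.lift x.asIdeal _ h1 h2
  letI : Algebra x.asIdeal.ResidueField k := ι.toAlgebra
  haveI : IsScalarTower Γ(S, V₁) x.asIdeal.ResidueField k := IsScalarTower.of_algebraMap_eq fun a =>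
    (Ideal.ResidueField.lift_algebraMap (I := x.asIdeal) _ h1 h2 a).symm
  obtain ⟨r, hr'⟩ := (Algebra.linearMap x.asIdeal.ResidueField k).exists_leftInverse_of_injective
    (LinearMap.ker_eq_bot.2 ι.injective)
  have hκ : Subsingleton (x.asIdeal.ResidueField ⊗[Γ(S, V₁)] H) := by
    have hs : Function.Surjective ((r.restrictScalars Γ(S, V₁)).rTensor H) :=
      LinearMap.rTensor_surjective H fun c => ⟨_, LinearMap.congr_fun hr' c⟩
    haveI : Subsingleton (k ⊗[Γ(S, V₁)] H) := (TensorProduct.comm Γ(S, V₁) H k).symm.toEquiv.subsingleton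
    exact hs.subsingleton
  have hsupp : x ∉ Module.support Γ(S, V₁) H := by
    rw [Module.mem_support_iff_nontrivial_residueField_tensorProduct, not_nontrivial_iff_subsingleton]
    exact hκ
  rw [Module.support_eq_zeroLocus, PrimeSpectrum.mem_zeroLocus, Set.not_subset] at hsupp
  obtain ⟨a, ha, hax⟩ := hsupp
  have hV₂ := hV₁.basicOpen a
  have hle : S.basicOpen a ≤ V₁ := S.basicOpen_le a
  refine ⟨_, hV₂, _, (mem_basicOpen_iff_notMem hV₁ hy₁ a).2 hax, hP₁.of_le hF hV₂ hle, fun M => ?_⟩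
  let φ := (S.presheaf.map (homOfLE hle).op).hom
  obtain ⟨e⟩ := nonempty_bcT_iso P₁ φ q
  let M' := (ModuleCat.restrictScalars φ).obj M
  have hua : IsUnit (φ a) := RingedSpace.isUnit_res_basicOpen _ a
  have hz : Subsingleton (H ⊗[Γ(S, V₁)] (M' : Type u)) := by
    refine subsingleton_of_forall_eq 0 fun z => ?_
    induction z using TensorProduct.induction_on with
    | zero => rfl
    | add z w hz hw => rw [hz, hw, add_zero]
    | tmul h m =>
      obtain ⟨m', hm⟩ : ∃ m' : M', a • m' = m :=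
        ⟨(show M' from ((hua.unit⁻¹ : (Γ(S, S.basicOpen a))ˣ) : Γ(S, S.basicOpen a)) • (show M from m)), by
          show φ a • (((hua.unit⁻¹ : (Γ(S, S.basicOpen a))ˣ) : Γ(S, S.basicOpen a)) • (show M from m)) = m
          rw [smul_smul, IsUnit.mul_val_inv, one_smul]⟩
      rw [← hm, ← TensorProduct.smul_tmul, Module.mem_annihilator.1 ha h, TensorProduct.zero_tmul]
  haveI : Subsingleton ((CohIII.TFun P₁ q).obj M') :=
    (bijective_tM_of_preservesEpi hP₁.flat hepi M').2.subsingleton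
  haveI : Subsingleton ((CohIII.TFun (CohIII.bcCx φ P₁) q).obj M) :=
    AddCommGrpCat.subsingleton_of_isZero ((Functor.map_isZero (forget₂ (ModuleCat.{u} Γ(S, V₁)) AddCommGrpCat.{u})
      (ModuleCat.isZero_of_subsingleton _)).of_iso (e.app M))
  exact ModuleCat.isZero_of_subsingleton _

theorem subsingleton_of_vanAt (hF : Coh.IsQCoh F) {p : ℕ} {y : S} (h : VanAt f F p y) :
    Subsingleton (CohIII.fiberH f F y p) := by
  obtain ⟨V, hV, P, hy, hP, hz⟩ := h
  obtain ⟨l⟩ := hP.nonempty_fibre hF p hy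
  haveI : Subsingleton (CohIII.T (CohIII.bcCx (evalV y hy) P) (-(p : ℤ))
      (ModuleCat.of (S.residueField y) (S.residueField y))) := ModuleCat.subsingleton_of_isZero
    (isZero_bc (evalV y hy) P _ hz (ModuleCat.of _ (S.residueField y)))
  haveI : Subsingleton ((CohIII.bcCx (evalV y hy) P).homology (-(p : ℤ))) :=
    (tUnitIso (P := CohIII.bcCx (evalV y hy) P) (-(p : ℤ))).toLinearEquiv.symm.toEquiv.subsingleton
  exact l.toEquiv.subsingleton

variable [HasInjectiveResolutions X.Modules]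

theorem isZero_restrict_of_vanAt (hF : Coh.IsQCoh F) (p : ℕ) {U : S.Opens} (h : ∀ y ∈ U, VanAt f F p y) :
    IsZero (((Coh.Rpush f p).obj F).restrict U.ι) := by
  choose V hV P hy hP hz using h
  have hW := fun y : U.toScheme => exists_isAffineOpen_mem_and_subset (x := y)
    (U := U.ι ⁻¹ᵁ V y.1 y.2) (hy y.1 y.2)
  choose W hW hyW hle using hW
  refine QCoh.isZero_of_cover (isQCoh_restrict U.ι (isQCoh_Rpush f hF p)) W hW (fun y => ⟨y, hyW y⟩) fun y => ?_
  show Subsingleton Γ((Coh.Rpush f p).obj F, U.ι ''ᵁ W y)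
  have hle' : U.ι ''ᵁ W y ≤ V y.1 y.2 :=
    (U.ι.image_mono (hle y)).trans (U.ι.image_preimage_le _)
  have hP' := (hP y.1 y.2).of_le hF ((hW y).image_of_isOpenImmersion U.ι) hle'
  obtain ⟨l⟩ := hP'.nonempty_sections hF p
  haveI : Subsingleton (CohIII.T (CohIII.bcCx (S.presheaf.map (homOfLE hle').op).hom (P y.1 y.2)) (-(p : ℤ))
      (ModuleCat.of Γ(S, U.ι ''ᵁ W y) Γ(S, U.ι ''ᵁ W y))) := ModuleCat.subsingleton_of_isZero
    ((hP y.1 y.2).isZero_of_le hF p (hz y.1 y.2) hle' hP' (ModuleCat.of _ Γ(S, U.ι ''ᵁ W y)))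
  haveI : Subsingleton ((CohIII.bcCx (S.presheaf.map (homOfLE hle').op).hom (P y.1 y.2)).homology (-(p : ℤ))) :=
    (tUnitIso (P := CohIII.bcCx (S.presheaf.map (homOfLE hle').op).hom (P y.1 y.2)) (-(p : ℤ))).toLinearEquiv.symm.toEquiv.subsingleton
  exact l.toEquiv.subsingleton

theorem isZero_of_vanAt (hF : Coh.IsQCoh F) (p : ℕ) (h : ∀ y, VanAt f F p y) :
    IsZero ((Coh.Rpush f p).obj F) := by
  choose V hV P hy hP hz using h
  refine QCoh.isZero_of_cover (isQCoh_Rpush f hF p) V hV (fun y => ⟨y, hy y⟩) fun y => ?_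
  obtain ⟨l⟩ := (hP y).nonempty_sections hF p
  haveI : Subsingleton (CohIII.T (P y) (-(p : ℤ)) (ModuleCat.of Γ(S, V y) Γ(S, V y))) :=
    ModuleCat.subsingleton_of_isZero (hz y (ModuleCat.of _ Γ(S, V y)))
  haveI : Subsingleton ((P y).homology (-(p : ℤ))) :=
    (tUnitIso (P := P y) (-(p : ℤ))).toLinearEquiv.symm.toEquiv.subsingleton
  exact l.toEquiv.subsingleton

/-- Exchange in two neighbouring degrees: the sections are finitely presented and flat. -/
theorem flat_fp_sections (hF : Coh.IsQCoh F) {p : ℕ} {V : S.Opens} {hV : IsAffineOpen V}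
    {P : ChainComplex (ModuleCat.{u} Γ(S, V)) ℤ} (hP : IsModel f F hV P)
    (h₁ : (CohIII.TFun P (-(p : ℤ))).PreservesEpimorphisms)
    (h₂ : (CohIII.TFun P (-(p : ℤ) + 1)).PreservesEpimorphisms) :
    Module.Flat Γ(S, V) Γ((Coh.Rpush f p).obj F, V) ∧
      Module.FinitePresentation Γ(S, V) Γ((Coh.Rpush f p).obj F, V) := by
  let q : ℤ := -(p : ℤ)
  have hr : q - 1 + 1 = q := by lia
  haveI : Module.Flat Γ(S, V) (Coker P q (q - 1)) := ExchAt.flat_coker hP h₁
  haveI := finitePresentation_homology hP.1 hP.2.1 hr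
  obtain ⟨l⟩ := hP.nonempty_sections hF p
  haveI := ((FlatCxLib.exact_iff hP.flat (show q + 1 = q + 1 from rfl) hr).1
    ⟨(preservesEpi_iff_preservesMono hP.flat (show q + 1 = q + 1 from rfl)).1 h₂, h₁⟩).2
  haveI : Module.Flat Γ(S, V) (P.homology q) := Module.Flat.of_linearEquiv (tUnitIso (P := P) q).toLinearEquiv.symm
  exact ⟨Module.Flat.of_linearEquiv l, Module.FinitePresentation.of_equiv l.symm⟩

theorem finitePresentation_sections_of_eq {M : S.Modules} {V W : S.Opens} (h : W = V)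
    [Module.FinitePresentation Γ(S, V) Γ(M, V)] : Module.FinitePresentation Γ(S, W) Γ(M, W) := by
  subst h; assumption

theorem flat_sections_of_eq {M : S.Modules} {V W : S.Opens} (h : W = V)
    [Module.Flat Γ(S, V) Γ(M, V)] : Module.Flat Γ(S, W) Γ(M, W) := by
  subst h; assumption

theorem isFinLocFree_restrict_of_sections {M : S.Modules} (hM : Coh.IsQCoh M) {V : S.Opens} (hV : IsAffineOpen V)
    [Module.Flat Γ(S, V) Γ(M, V)] [Module.FinitePresentation Γ(S, V) Γ(M, V)] :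
    FlatMod.IsFinLocFree (M.restrict V.ι) := by
  haveI : IsAffine V.toScheme := hV
  have hN := isQCoh_restrict V.ι hM
  have hb := ConcreteCategory.bijective_of_isIso (V.ι.appIso ⊤).hom
  letI : Algebra Γ(S, V.ι ''ᵁ ⊤) Γ(V.toScheme, ⊤) := (V.ι.appIso ⊤).hom.hom.toAlgebra
  letI : Module Γ(S, V.ι ''ᵁ ⊤) Γ(M.restrict V.ι, ⊤) :=
    inferInstanceAs (Module Γ(S, V.ι ''ᵁ ⊤) Γ(M, V.ι ''ᵁ ⊤))
  haveI : Module.FinitePresentation Γ(S, V.ι ''ᵁ ⊤) Γ(M.restrict V.ι, ⊤) :=
    finitePresentation_sections_of_eq (M := M) (W := V.ι ''ᵁ ⊤) V.ι_image_top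
  haveI : Module.Flat Γ(S, V.ι ''ᵁ ⊤) Γ(M.restrict V.ι, ⊤) :=
    flat_sections_of_eq (M := M) (W := V.ι ''ᵁ ⊤) V.ι_image_top
  haveI : IsScalarTower Γ(S, V.ι ''ᵁ ⊤) Γ(V.toScheme, ⊤) Γ(M.restrict V.ι, ⊤) := .of_algebraMap_smul fun r x => by
    show (V.ι.appIso ⊤).inv ((V.ι.appIso ⊤).hom r) • (show Γ(M, V.ι ''ᵁ ⊤) from x) = r • x
    rw [Iso.hom_inv_id_apply]
  haveI : Module.FinitePresentation Γ(V.toScheme, ⊤) Γ(M.restrict V.ι, ⊤) :=
    finitePresentation_of_bijective_algebraMap hb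
  haveI : Module.Flat Γ(V.toScheme, ⊤) Γ(M.restrict V.ι, ⊤) := flat_of_bijective_algebraMap hb
  exact QCoh.isFlat_and_isFP_iff.1
    ⟨fun x => (QCoh.flat_sections_iff hN (isAffineOpen_top _)).1 inferInstance x trivial,
      QCoh.isFP_of_finitePresentation hN (fun _ : PUnit.{u + 1} => ⊤) (IsOpenCover.mk (by simp))
        (fun _ => isAffineOpen_top _) fun _ => inferInstance⟩

/-- Exchange in two neighbouring degrees at `y`: locally free near `y`. -/
theorem exists_isFinLocFree_nhd (hF : Coh.IsQCoh F) (hfp : CohB1.IsFP F) (hfl : FlatMod.IsFlatOver f F) {p : ℕ}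
    {y : S} {U : S.Opens} (hy : y ∈ U) (h₁ : ExchAt f F p y) (h₂ : ∀ p', p' + 1 = p → ExchAt f F p' y) :
    ∃ (V : S.Opens) (hV : IsAffineOpen V) (P : ChainComplex (ModuleCat.{u} Γ(S, V)) ℤ),
      y ∈ V ∧ V ≤ U ∧ IsModel f F hV P ∧ (CohIII.TFun P (-(p : ℤ))).PreservesEpimorphisms ∧
        (CohIII.TFun P (-(p : ℤ) + 1)).PreservesEpimorphisms ∧
        FlatMod.IsFinLocFree (((Coh.Rpush f p).obj F).restrict V.ι) := by
  suffices h : ∃ (V : S.Opens) (hV : IsAffineOpen V) (P : ChainComplex (ModuleCat.{u} Γ(S, V)) ℤ),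
      y ∈ V ∧ V ≤ U ∧ IsModel f F hV P ∧ (CohIII.TFun P (-(p : ℤ))).PreservesEpimorphisms ∧
        (CohIII.TFun P (-(p : ℤ) + 1)).PreservesEpimorphisms by
    obtain ⟨V, hV, P, hyV, hVU, hP, ha, hb⟩ := h
    obtain ⟨hfl', hfp'⟩ := flat_fp_sections hF hP ha hb
    exact ⟨V, hV, P, hyV, hVU, hP, ha, hb, isFinLocFree_restrict_of_sections (isQCoh_Rpush f hF p) hV⟩
  cases p with
  | zero =>
    obtain ⟨V, hV, P, hyV, hVU, hP, ha, -⟩ := exists_common_nhd hF hfp hfl hy h₁ h₁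
    exact ⟨V, hV, P, hyV, hVU, hP, ha, (isExactT_of_isZero fun M => hP.2.2.2.1 _ (by simp) M).2⟩
  | succ n =>
    obtain ⟨V, hV, P, hyV, hVU, hP, ha, hb⟩ := exists_common_nhd hF hfp hfl hy h₁ (h₂ n rfl)
    exact ⟨V, hV, P, hyV, hVU, hP, ha, by
      rw [show -((n + 1 : ℕ) : ℤ) + 1 = -(n : ℤ) by lia]; exact hb⟩

theorem isFinLocFree_of_exchAt (hF : Coh.IsQCoh F) (hfp : CohB1.IsFP F) (hfl : FlatMod.IsFlatOver f F) {p : ℕ}
    (h₁ : ∀ y, ExchAt f F p y) (h₂ : ∀ y p', p' + 1 = p → ExchAt f F p' y) :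
    FlatMod.IsFinLocFree ((Coh.Rpush f p).obj F) := by
  have h := fun y => exists_isFinLocFree_nhd hF hfp hfl (show y ∈ (⊤ : S.Opens) from trivial) (h₁ y) (h₂ y)
  choose V hV P hy _ hP ha hb _ using h
  have hs := fun y => flat_fp_sections hF (hP y) (ha y) (hb y)
  exact QCoh.isFlat_and_isFP_iff.1
    ⟨fun y => (QCoh.flat_sections_iff (isQCoh_Rpush f hF p) (hV y)).1 (hs y).1 y (hy y),
      QCoh.isFP_of_finitePresentation (isQCoh_Rpush f hF p) V
        (IsOpenCover.mk (eq_top_iff.2 fun y _ => Opens.mem_iSup.2 ⟨y, hy y⟩)) hV fun y => (hs y).2⟩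

end Groth.Agent.CohPullLib
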