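import Groth.Agent.CohPullLib.AffineBij
import Groth.Agent.QCoh.GodHH
import Groth.Agent.QCoh.FlatBC

/-!
# The comparison maps are linear over the functions on the base
-/

set_option backward.isDefEq.respectTransparency false
set_option backward.isDefEq.respectTransparency.types false
set_option maxRecDepth 4000
set_option linter.style.haveILetI false

universe u

open CategoryTheory CategoryTheory.Limits CategoryTheory.Abelian AlgebraicGeometry TopologicalSpace Opposite

namespace Groth.Agent.CohPullLib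

variable {X S : Scheme.{u}}

/-- The structure map of the preimage of an affine open. -/
noncomputable def secπ (f : X ⟶ S) {V : S.Opens} (hV : IsAffineOpen V) {U : X.Opens} (h : U ≤ f ⁻¹ᵁ V) :
    U.toScheme ⟶ Spec Γ(S, V) :=
  f.resLE V U h ≫ hV.isoSpec.hom

theorem toGlobal_secπ (f : X ⟶ S) {V : S.Opens} (hV : IsAffineOpen V) {U : X.Opens} (h : U ≤ f ⁻¹ᵁ V)
    (a : Γ(S, V)) : Coh.toGlobal (secπ f hV h) a = U.topIso.inv (f.appLE V U h a) := by
  show (secπ f hV h).appTop ((Scheme.ΓSpecIso Γ(S, V)).inv a) = _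
  rw [secπ, Scheme.Hom.comp_appTop, IsAffineOpen.isoSpec_hom_appTop, Scheme.Hom.appTop, Scheme.Hom.resLE_app_top]
  simp only [CommRingCat.comp_apply, Iso.inv_hom_id_apply]

theorem restrict_smul_top (F : X.Modules) (U : X.Opens) (r : Γ(X, U)) (s : Γ(F, U)) :
    (show Γ(F.restrict U.ι, ⊤) from F.presheaf.map (homOfLE U.ι_image_top.le).op (r • s)) =
      (show Γ(U.toScheme, ⊤) from U.topIso.inv r) •
        (show Γ(F.restrict U.ι, ⊤) from F.presheaf.map (homOfLE U.ι_image_top.le).op s) := by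
  refine (F.map_smul _ r s).trans ?_
  refine congrArg (fun c : Γ(X, U.ι ''ᵁ ⊤) => c •
    (show Γ(F, U.ι ''ᵁ ⊤) from F.presheaf.map (homOfLE U.ι_image_top.le).op s)) ?_
  show _ = (U.ι.appIso ⊤).inv (U.topIso.inv r)
  rw [Scheme.Opens.ι_appIso]
  exact congr($(congrArg X.presheaf.map (Subsingleton.elim _ _)) r)

theorem smulAb_sectH0 (F : X.Modules) (U : X.Opens) (r : Γ(X, U)) (s : Γ(F, U)) :
    Sheaf.H.map (Coh.smulAb (F.restrict U.ι) (U.topIso.inv r)) 0 (CohPull.sectH0 F U s) =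
      CohPull.sectH0 F U (r • s) := by
  rw [sectH0_eq, sectH0_eq]
  refine (Sheaf.H.equiv₀_symm_naturality (isTerminalTop : IsTerminal (⊤ : U.toScheme.Opens)) _ _).trans ?_
  refine congrArg _ (Eq.trans ?_ (restrict_smul_top F U r s).symm)
  refine congrArg (fun c : Γ(U.toScheme, ⊤) => c •
    (show Γ(F.restrict U.ι, ⊤) from F.presheaf.map (homOfLE U.ι_image_top.le).op s)) ?_
  exact congr($((congrArg U.toScheme.presheaf.map (Subsingleton.elim _ (𝟙 _))).trans (U.toScheme.presheaf.map_id _)) _)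

/-- Multiplication on a short exact sequence of restrictions. -/
noncomputable def smulOn (S' : ShortComplex X.Modules) (U : X.Opens) (r : Coh.Γtop U.toScheme) :
    S'.map (CohCmp.toAbOn X U) ⟶ S'.map (CohCmp.toAbOn X U) where
  τ₁ := Coh.smulAb (S'.X₁.restrict U.ι) r
  τ₂ := Coh.smulAb (S'.X₂.restrict U.ι) r
  τ₃ := Coh.smulAb (S'.X₃.restrict U.ι) r
  comm₁₂ := by
    ext W m
    exact Scheme.Modules.Hom.app_smul ((Scheme.Modules.restrictFunctor U.ι).map S'.f) (Coh.resTop U.toScheme W r) m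
  comm₂₃ := by
    ext W m
    exact Scheme.Modules.Hom.app_smul ((Scheme.Modules.restrictFunctor U.ι).map S'.g) (Coh.resTop U.toScheme W r) m

theorem extδ_smul {S' : ShortComplex X.Modules} {U : X.Opens} (hA : (S'.map (CohCmp.toAbOn X U)).ShortExact)
    (r : Coh.Γtop U.toScheme) (p : ℕ) (x : Coh.HHon X S'.X₃ U p) :
    CohCmp.extδ hA p (Sheaf.H.map (Coh.smulAb (S'.X₃.restrict U.ι) r) p x) =
      Sheaf.H.map (Coh.smulAb (S'.X₁.restrict U.ι) r) (p + 1) (CohCmp.extδ hA p x) :=
  (QCoh.Ab.connecting_naturality (X := U.toScheme.toPresheafedSpace.carrier) hA hA (smulOn S' U r) p x).symm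

variable {f : X ⟶ S} [HasInjectiveResolutions X.Modules]
  {Δ : RDer.DerivedLES (Scheme.Modules.pushforward f)} (E : CohCmp.SectCmp f Δ)

set_option maxHeartbeats 1000000 in
theorem eps_smul (V : S.Opens) (a : Γ(S, V)) (p : ℕ) : ∀ (F : X.Modules) (x : Coh.HHon X F (f ⁻¹ᵁ V) p),
    E.ε V F p (Sheaf.H.map (Coh.smulAb (F.restrict (f ⁻¹ᵁ V).ι) ((f ⁻¹ᵁ V).topIso.inv (f.app V a))) p x) =
      a • E.ε V F p x := by
  induction p with
  | zero =>
    intro F x
    obtain ⟨s, rfl⟩ := (CohPull.sectH0 F (f ⁻¹ᵁ V)).surjective x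
    rw [smulAb_sectH0, E.zero, E.zero]
    exact Scheme.Modules.Hom.app_smul ((Scheme.Modules.pushforward f).toRightDerivedZero.app F) a
      (show Γ((Scheme.Modules.pushforward f).obj F, V) from s)
  | succ p ih =>
    intro F x
    obtain ⟨Q, C, i, b, w, hQ, hS⟩ := exists_injSES F
    let S' := ShortComplex.mk i b w
    haveI : Injective S'.X₂ := hQ
    have h := toAbOn_shortExact hS (f ⁻¹ᵁ V)
    obtain ⟨y, rfl⟩ := extδ_surjective h p x
    rw [← extδ_smul h, E.delta V S' hS h, E.delta V S' hS h, ih]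
    exact Scheme.Modules.Hom.app_smul (Δ.δ S' hS p (p + 1) rfl) a _

end Groth.Agent.CohPullLib
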