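import Groth.Agent.CohPullLib.PullBC

/-!
# Pullback of classes along a base change is the exchange map
-/

set_option backward.isDefEq.respectTransparency false
set_option backward.isDefEq.respectTransparency.types false
set_option linter.style.haveILetI false
set_option maxRecDepth 4000
set_option maxHeartbeats 1000000

universe u

open CategoryTheory CategoryTheory.Limits AlgebraicGeometry TopologicalSpace Opposite
open scoped TensorProduct

namespace Groth.Agent.CohPullLib

open Groth.Agent.QCoh

theorem map_bijective_of_isIso {T : TopCat.{u}} {G G' : CohTop.Ab T} (φ : G ⟶ G') [IsIso φ] (p : ℕ) :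
    Function.Bijective (Sheaf.H.map φ p) :=
  Function.bijective_iff_has_inverse.2 ⟨Sheaf.H.map (inv φ) p,
    fun x => by rw [← Sheaf.H.map_comp_apply, IsIso.hom_inv_id, Sheaf.H.map_id_apply],
    fun x => by rw [← Sheaf.H.map_comp_apply, IsIso.inv_hom_id, Sheaf.H.map_id_apply]⟩

theorem pab_bijective_of_isIso {X Y : Scheme.{u}} (f : X ⟶ Y) [IsAffineHom f] {G : X.Modules} [Coh.IsQCoh G]
    {A : CohTop.Ab Y.toPresheafedSpace.carrier} (θ : A ⟶ (CohTop.push f.base).obj (Coh.toAb G)) [IsIso θ] (p : ℕ) :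
    Function.Bijective (pab f.base θ p) := by
  have h : ⇑(pab f.base θ p) = CohPull.pushEdge f G p ∘ Sheaf.H.map θ p := funext fun x => by
    have e : pab f.base (𝟙 ((CohTop.push f.base).obj (Coh.toAb G))) p (Sheaf.H.map θ p x) = pab f.base θ p x := by
      rw [pab_map, Category.comp_id]
    refine e.symm.trans ?_
    rw [pab_apply, Function.comp_apply, pushEdge_apply]
    rw [show ((CohPull.invPushAdj f.base).homEquiv _ _).symm (𝟙 ((CohTop.push f.base).obj (Coh.toAb G))) =
      (CohPull.invPushAdj f.base).counit.app (Coh.toAb G) from Adjunction.homEquiv_symm_id _ _]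
    rfl
  rw [h]
  refine (pushEdge_bijective_of_isAffineHom f G p).comp ?_
  exact map_bijective_of_isIso θ p

theorem pullMod_smulAb {X X' : Scheme.{u}} (k : X' ⟶ X) (F : X.Modules) (r : Coh.Γtop X) (p : ℕ)
    (x : Coh.HH X F p) :
    CohPull.pullMod k F p (Sheaf.H.map (Coh.smulAb F r) p x) =
      Sheaf.H.map (Coh.smulAb ((Scheme.Modules.pullback k).obj F) (k.appTop r)) p (CohPull.pullMod k F p x) := by
  rw [pullMod_eq_pab, pullMod_eq_pab, pab_map, pab_congr_map]
  refine congrArg (fun t => pab k.base t p x) ?_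
  ext V s
  refine (Scheme.Modules.Hom.app_smul ((Scheme.Modules.pullbackPushforwardAdjunction k).unit.app F)
    (show Γ(X, V.unop) from Coh.resTop X V r) (show Γ(F, V.unop) from s)).trans ?_
  exact congrArg (fun c : Γ(X', k ⁻¹ᵁ V.unop) => c •
      (show Γ((Scheme.Modules.pullback k).obj F, k ⁻¹ᵁ V.unop) from
        ((Scheme.Modules.pullbackPushforwardAdjunction k).unit.app F).app V.unop (show Γ(F, V.unop) from s)))
    (app_topRes k V.unop r)

variable {A B : Type u} [CommRing A] [CommRing B] [Algebra A B]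
  {X X' : Scheme.{u}} [X.Over (Spec (CommRingCat.of A))]
  {πB : X' ⟶ Spec (CommRingCat.of B)} {k : X' ⟶ X}

/-- The pullback of classes to a base change, as a linear map. -/
theorem isBaseChange_pullMod
    (hk : IsPullback k πB (X ↘ Spec (CommRingCat.of A)) (Spec.map (CommRingCat.ofHom (algebraMap A B))))
    {F : X.Modules} (hF : Coh.IsQCoh F) (p : ℕ) (T : ModuleCat.{u} A ⥤ ModuleCat.{u} A) [T.Additive] [T.Linear A]
    (e : T ⋙ forget₂ (ModuleCat.{u} A) AddCommGrpCat.{u} ≅ CohIII.tensorAFunctor A F ⋙ CohIII.HAb X p)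
    (ht : Function.Bijective (FlatCxLib.tM T (ModuleCat.of A B))) :
    letI := modHH (Coh.toGlobal (X ↘ Spec (CommRingCat.of A))) F p
    letI := modHH (Coh.toGlobal πB) ((Scheme.Modules.pullback k).obj F) p
    letI := modHH ((Coh.toGlobal πB).comp (algebraMap A B)) ((Scheme.Modules.pullback k).obj F) p
    haveI : IsScalarTower A B (Coh.HH X' ((Scheme.Modules.pullback k).obj F) p) :=
      .of_algebraMap_smul fun _ _ => rfl
    ∃ l : Coh.HH X F p →ₗ[A] Coh.HH X' ((Scheme.Modules.pullback k).obj F) p,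
      (∀ x, l x = CohPull.pullMod k F p x) ∧ IsBaseChange B l := by
  haveI : IsAffineHom k := MorphismProperty.of_isPullback hk.flip inferInstance
  let F' := (Scheme.Modules.pullback k).obj F
  haveI : Coh.IsQCoh F' := isQCoh_pullback k hF
  let ρ := Coh.toGlobal (X ↘ Spec (CommRingCat.of A))
  letI := modHH ρ F p
  letI := modHH (Coh.toGlobal πB) F' p
  letI := modHH ((Coh.toGlobal πB).comp (algebraMap A B)) F' p
  haveI : IsScalarTower A B (Coh.HH X' F' p) := .of_algebraMap_smul fun _ _ => rfl
  let H := Coh.HH X F p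
  let MA := ModuleCat.of A A
  let MB := ModuleCat.of A B
  let eA := (e.app MA).addCommGroupIsoToAddEquiv
  let eB := (e.app MB).addCommGroupIsoToAddEquiv
  haveI := isIso_jB_one (A := A) F hF
  let J : H →+ (CohIII.tensorAFunctor A F ⋙ CohIII.HAb X p).obj MA := Sheaf.H.map (jB F MA (1 : A)) p
  have hJ : Function.Bijective J := map_bijective_of_isIso (jB F MA (1 : A)) p
  let L₀ : H ≃+ T.obj MA := (AddEquiv.ofBijective J hJ).trans eA.symm
  have hnat : ∀ {M : ModuleCat.{u} A} (g : MA ⟶ M) (x : H),
      (e.app M).addCommGroupIsoToAddEquiv ((T.map g).hom (L₀ x)) =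
        Sheaf.H.map (jB F M (g.hom (1 : A))) p x := by
    intro M g x
    refine (ConcreteCategory.congr_hom (e.hom.naturality g) (L₀ x)).trans ?_
    refine (congrArg ((CohIII.tensorAFunctor A F ⋙ CohIII.HAb X p).map g) (eA.apply_symm_apply (J x))).trans ?_
    show Sheaf.H.map _ p (Sheaf.H.map (jB F MA (1 : A)) p x) = _
    exact (Sheaf.H.map_comp_apply _ _ _).symm.trans (congrArg (fun t => Sheaf.H.map t p x) (jB_map F g (1 : A)))
  have hsmul : ∀ (a : A) (x : H), L₀ (a • x) = a • L₀ x := by
    intro a x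
    apply eA.injective
    have h1 : a • L₀ x = (T.map (a • 𝟙 MA)).hom (L₀ x) := by
      rw [Functor.map_smul, T.map_id]; rfl
    rw [h1]
    refine (eA.apply_symm_apply _).trans (Eq.trans ?_ (hnat (a • 𝟙 MA) x).symm)
    show Sheaf.H.map (jB F MA (1 : A)) p (Sheaf.H.map (Coh.smulAb F (ρ a)) p x) = _
    rw [← Sheaf.H.map_comp_apply, smulAb_jB]
    rfl
  let L : H ≃ₗ[A] T.obj MA := L₀.toLinearEquiv hsmul
  obtain ⟨θ, hθi, hθ⟩ := exists_theta F hk hF
  haveI := hθi
  let P := AddEquiv.ofBijective (pab k.base θ p) (pab_bijective_of_isIso k θ p)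
  have key : ∀ (x : H) (b : B),
      P (eB (FlatCxLib.tM T MB (L x ⊗ₜ[A] (show MB from b)))) = b • CohPull.pullMod k F p x := by
    intro x b
    rw [FlatCxLib.tM_tmul]
    refine (congrArg P (hnat (ModuleCat.ofHom ((LinearMap.ringLmapEquivSelf A A MB).symm b)) x)).trans ?_
    show pab k.base θ p (Sheaf.H.map _ p x) = Sheaf.H.map (Coh.smulAb F' (Coh.toGlobal πB b)) p _
    rw [pab_map, pullMod_eq_pab, pab_congr_map]
    refine congrArg (fun t => pab k.base t p x) ?_
    have h1 : ((ModuleCat.ofHom ((LinearMap.ringLmapEquivSelf A A MB).symm b) : MA ⟶ MB)).hom (1 : A) =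
        (show MB from b) := one_smul A (show MB from b)
    rw [h1]
    exact hθ b
  have hlin : ∀ (a : A) (x : H), CohPull.pullMod k F p (a • x) = a • CohPull.pullMod k F p x := by
    intro a x
    refine (pullMod_smulAb k F (ρ a) p x).trans ?_
    rw [← toGlobal_comm (X ↘ Spec (CommRingCat.of A)) πB k hk.w a]
    rfl
  let l : H →ₗ[A] Coh.HH X' F' p :=
    { toFun := CohPull.pullMod k F p, map_add' := map_add _, map_smul' := hlin }
  refine ⟨l, fun x => rfl, ?_⟩
  let E : B ⊗[A] H ≃+ Coh.HH X' F' p :=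
    ((TensorProduct.comm A B H).toAddEquiv.trans
      (TensorProduct.congr L (LinearEquiv.refl A MB)).toAddEquiv).trans
      ((AddEquiv.ofBijective (FlatCxLib.tM T MB).toAddMonoidHom ht).trans (eB.trans P))
  have hE : ∀ (b : B) (x : H), E (b ⊗ₜ x) = b • l x := fun b x => key x b
  refine IsBaseChange.of_equiv { E with map_smul' := fun c z => ?_ } fun x => ?_
  · show E (c • z) = c • E z
    induction z using TensorProduct.induction_on with
    | zero => rw [smul_zero, map_zero, smul_zero]
    | tmul b m => rw [TensorProduct.smul_tmul', hE, hE, smul_assoc]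
    | add a b ha hb => rw [smul_add, map_add, map_add, ha, hb, smul_add]
  · show E ((1 : B) ⊗ₜ x) = l x
    rw [hE, one_smul]

end Groth.Agent.CohPullLib
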