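import Groth.Agent.CohPullLib.BCComp
import Groth.Agent.CohPullLib.EpsSMul
import Groth.Agent.CohPullLib.PullBCMain
import Groth.Agent.QCoh.RpushGod

/-!
# The base change maps of higher direct images on affine opens
-/

set_option backward.isDefEq.respectTransparency false
set_option backward.isDefEq.respectTransparency.types false
set_option linter.style.haveILetI false
set_option maxRecDepth 4000
set_option maxHeartbeats 1000000

universe u

open CategoryTheory CategoryTheory.Limits AlgebraicGeometry TopologicalSpace Opposite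
open scoped TensorProduct

namespace Groth.Agent.CohPullLib

open Groth.Agent.QCoh

variable {X S S' X' : Scheme.{u}} {f : X ⟶ S} {g : S' ⟶ S} {f' : X' ⟶ S'} {g' : X' ⟶ X}

theorem sectLE (w : g' ≫ f = f' ≫ g) {V : S.Opens} {W : S'.Opens} (hle : W ≤ g ⁻¹ᵁ V) :
    f' ⁻¹ᵁ W ≤ g' ⁻¹ᵁ (f ⁻¹ᵁ V) :=
  (f'.preimage_mono hle).trans (CohCmp.sqLE f g f' g' w V)

theorem secπ_comp {V : S.Opens} (hV : IsAffineOpen V) {W : S'.Opens} (hW : IsAffineOpen W)
    (hle : W ≤ g ⁻¹ᵁ V) :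
    g.resLE V W hle ≫ hV.isoSpec.hom = hW.isoSpec.hom ≫ Spec.map (g.appLE V W hle) := by
  rw [← cancel_mono hV.fromSpec, Category.assoc, Category.assoc, IsAffineOpen.SpecMap_appLE_fromSpec g hV hW hle,
    IsAffineOpen.isoSpec_hom_fromSpec, IsAffineOpen.isoSpec_hom_fromSpec_assoc, Scheme.Hom.resLE_comp_ι]

theorem isPullback_sect (h : IsPullback g' f' f g) {V : S.Opens} (hV : IsAffineOpen V) {W : S'.Opens}
    (hW : IsAffineOpen W) (hle : W ≤ g ⁻¹ᵁ V) :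
    IsPullback (g'.resLE (f ⁻¹ᵁ V) (f' ⁻¹ᵁ W) (sectLE h.w hle)) (secπ f' hW le_rfl) (secπ f hV le_rfl)
      (Spec.map (g.appLE V W hle)) := by
  refine (Scheme.Hom.isPullback_resLE h (US := V) (UT := W) (UX := f ⁻¹ᵁ V) (UY := f' ⁻¹ᵁ W) hle le_rfl
    (inf_eq_right.2 (sectLE h.w hle)).symm).of_iso (Iso.refl _) (Iso.refl _) hW.isoSpec hV.isoSpec ?_ ?_ ?_ ?_
  · simp
  · exact (Category.id_comp _).symm
  · exact (Category.id_comp _).symm
  · exact secπ_comp hV hW hle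

variable [HasInjectiveResolutions X.Modules] [HasInjectiveResolutions X'.Modules]
  {Δ : RDer.DerivedLES (Scheme.Modules.pushforward f)} {Δ' : RDer.DerivedLES (Scheme.Modules.pushforward f')}
  {E : CohCmp.SectCmp f Δ} {E' : CohCmp.SectCmp f' Δ'}

/-- The value of the base change map on the class of `x`. -/
theorem bc_app_pullSec_eps {w : g' ≫ f = f' ≫ g} (B : CohCmp.GenBC f g f' g' w E E') (p : ℕ) (F : X.Modules)
    {V : S.Opens} {W : S'.Opens} (hle : W ≤ g ⁻¹ᵁ V) (x : Coh.HHon X F (f ⁻¹ᵁ V) p) :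
    (B.bc p F).app W (pullSec g ((Coh.Rpush f p).obj F) hle (E.ε V F p x)) =
      E'.ε W ((Scheme.Modules.pullback g').obj F) p
        (CohPull.pullOn g' (f ⁻¹ᵁ V) (f' ⁻¹ᵁ W) (sectLE w hle) F p x) := by
  let M := (Coh.Rpush f p).obj F
  have h1 : pullSec g M hle (E.ε V F p x) =
      ((Scheme.Modules.pullback g).obj M).presheaf.map (homOfLE hle).op (pullSec g M le_rfl (E.ε V F p x)) :=
    (pullSec_map g M hle le_rfl _).symm
  refine (congrArg ((B.bc p F).app W) h1).trans ?_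
  refine (QCoh.map_app_comm (B.bc p F) (homOfLE hle) _).trans ?_
  refine (congrArg (((Coh.Rpush f' p).obj ((Scheme.Modules.pullback g').obj F)).presheaf.map (homOfLE hle).op)
    ((bc_app_pullSec B p F V _).trans (B.compat V F p x))).trans ?_
  refine (eps_resLE E' hle p _ _).symm.trans ?_
  exact congrArg (E'.ε W _ p) (resLE_pullOn g' F (f ⁻¹ᵁ V) _ (f'.preimage_mono hle) p x)

theorem bijective_bc_app [QuasiCompact f] [QuasiSeparated f] [QuasiCompact f'] [QuasiSeparated f']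
    {w : g' ≫ f = f' ≫ g} (B : CohCmp.GenBC f g f' g' w E E') (p : ℕ) {F : X.Modules} (hF : Coh.IsQCoh F)
    {V : S.Opens} (hV : IsAffineOpen V) {W : S'.Opens} (hW : IsAffineOpen W) (hle : W ≤ g ⁻¹ᵁ V)
    (hbc :
      letI : Algebra Γ(S, V) Γ(S', W) := (g.appLE V W hle).hom.toAlgebra
      letI := modHH (Coh.toGlobal (secπ f hV (le_refl (f ⁻¹ᵁ V)))) (F.restrict (f ⁻¹ᵁ V).ι) p
      letI := modHH (Coh.toGlobal (secπ f' hW (le_refl (f' ⁻¹ᵁ W))))
        ((Scheme.Modules.pullback (g'.resLE (f ⁻¹ᵁ V) (f' ⁻¹ᵁ W) (sectLE w hle))).obj (F.restrict (f ⁻¹ᵁ V).ι)) p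
      letI := modHH ((Coh.toGlobal (secπ f' hW (le_refl (f' ⁻¹ᵁ W)))).comp (algebraMap Γ(S, V) Γ(S', W)))
        ((Scheme.Modules.pullback (g'.resLE (f ⁻¹ᵁ V) (f' ⁻¹ᵁ W) (sectLE w hle))).obj (F.restrict (f ⁻¹ᵁ V).ι)) p
      haveI : IsScalarTower Γ(S, V) Γ(S', W) (Coh.HH (f' ⁻¹ᵁ W).toScheme
          ((Scheme.Modules.pullback (g'.resLE (f ⁻¹ᵁ V) (f' ⁻¹ᵁ W) (sectLE w hle))).obj (F.restrict (f ⁻¹ᵁ V).ι)) p) :=
        .of_algebraMap_smul fun _ _ => rfl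
      ∃ l : Coh.HH (f ⁻¹ᵁ V).toScheme (F.restrict (f ⁻¹ᵁ V).ι) p →ₗ[Γ(S, V)] Coh.HH (f' ⁻¹ᵁ W).toScheme
          ((Scheme.Modules.pullback (g'.resLE (f ⁻¹ᵁ V) (f' ⁻¹ᵁ W) (sectLE w hle))).obj (F.restrict (f ⁻¹ᵁ V).ι)) p,
        (∀ x, l x = CohPull.pullMod (g'.resLE (f ⁻¹ᵁ V) (f' ⁻¹ᵁ W) (sectLE w hle))
          (F.restrict (f ⁻¹ᵁ V).ι) p x) ∧ IsBaseChange Γ(S', W) l) :
    Function.Bijective ((B.bc p F).app W) := by
  let k := g'.resLE (f ⁻¹ᵁ V) (f' ⁻¹ᵁ W) (sectLE w hle)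
  let F₀ := F.restrict (f ⁻¹ᵁ V).ι
  let F₁ := (Scheme.Modules.pullback k).obj F₀
  let F' := (Scheme.Modules.pullback g').obj F
  let M := (Coh.Rpush f p).obj F
  let M' := (Coh.Rpush f' p).obj F'
  let A := Γ(S, V)
  let C := Γ(S', W)
  letI : Algebra A C := (g.appLE V W hle).hom.toAlgebra
  letI := modHH (Coh.toGlobal (secπ f hV (le_refl (f ⁻¹ᵁ V)))) F₀ p
  letI := modHH (Coh.toGlobal (secπ f' hW (le_refl (f' ⁻¹ᵁ W)))) F₁ p
  letI := modHH ((Coh.toGlobal (secπ f' hW (le_refl (f' ⁻¹ᵁ W)))).comp (algebraMap A C)) F₁ p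
  haveI : IsScalarTower A C (Coh.HH (f' ⁻¹ᵁ W).toScheme F₁ p) := .of_algebraMap_smul fun _ _ => rfl
  obtain ⟨l, hl, hlb⟩ := hbc
  letI : Module A Γ((Scheme.Modules.pullback g).obj M, W) := Module.compHom _ (g.appLE V W hle).hom
  haveI : IsScalarTower A C Γ((Scheme.Modules.pullback g).obj M, W) :=
    ⟨fun a b c => mul_smul ((g.appLE V W hle).hom a) b c⟩
  letI : Module A Γ(M', W) := Module.compHom _ (g.appLE V W hle).hom
  haveI : IsScalarTower A C Γ(M', W) := ⟨fun a b c => mul_smul ((g.appLE V W hle).hom a) b c⟩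
  obtain ⟨l₀, hl₀, hb₀⟩ := ExistEasy.exists_pullSec_baseChange g (isQCoh_Rpush f hF p) hW hV hle
  let eV : Coh.HH (f ⁻¹ᵁ V).toScheme F₀ p ≃ₗ[A] Γ(M, V) :=
    (AddEquiv.ofBijective (E.ε V F p) (eps_bijective_of_isAffineOpen E hF hV p)).toLinearEquiv fun a x => by
      show E.ε V F p (Sheaf.H.map (Coh.smulAb F₀ (Coh.toGlobal (secπ f hV (le_refl (f ⁻¹ᵁ V))) a)) p x) = a • E.ε V F p x
      rw [toGlobal_secπ, ← Scheme.Hom.app_eq_appLE]
      exact eps_smul E V a p F x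
  let φ := (CohPull.pullOnIso g' (f ⁻¹ᵁ V) (f' ⁻¹ᵁ W) (sectLE w hle) F).hom
  let Φ := (SheafOfModules.toSheaf (f' ⁻¹ᵁ W).toScheme.ringCatSheaf).map φ
  haveI : IsIso Φ := inferInstance
  have hF' : Coh.IsQCoh F' := isQCoh_pullback g' hF
  let eW₀ : Coh.HH (f' ⁻¹ᵁ W).toScheme F₁ p ≃+ Γ(M', W) :=
    (AddEquiv.ofBijective (Sheaf.H.map Φ p) (map_bijective_of_isIso Φ p)).trans
      (AddEquiv.ofBijective (E'.ε W F' p) (eps_bijective_of_isAffineOpen E' hF' hW p))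
  let eW : Coh.HH (f' ⁻¹ᵁ W).toScheme F₁ p ≃ₗ[C] Γ(M', W) := eW₀.toLinearEquiv fun c y => by
    show E'.ε W F' p (Sheaf.H.map Φ p (Sheaf.H.map (Coh.smulAb F₁ (Coh.toGlobal (secπ f' hW (le_refl (f' ⁻¹ᵁ W))) c)) p y)) =
      c • E'.ε W F' p (Sheaf.H.map Φ p y)
    rw [← Sheaf.H.map_comp_apply, toGlobal_secπ, ← Scheme.Hom.app_eq_appLE]
    refine Eq.trans ?_ (eps_smul E' W c p F' (Sheaf.H.map Φ p y))
    refine congrArg (E'.ε W F' p) ?_
    refine Eq.trans ?_ (Sheaf.H.map_comp_apply _ _ _)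
    refine congrArg (fun t => Sheaf.H.map t p y) ?_
    ext O s
    exact (Scheme.Modules.Hom.app_smul φ (Coh.resTop (f' ⁻¹ᵁ W).toScheme O _) s).symm.symm
  let β : Γ((Scheme.Modules.pullback g).obj M, W) →ₗ[C] Γ(M', W) :=
    { toFun := (B.bc p F).app W
      map_add' := map_add ((B.bc p F).app W).hom
      map_smul' := fun c z => Scheme.Modules.Hom.app_smul (B.bc p F) c z }
  have key : ∀ x, β (l₀ (eV x)) = eW (l x) := fun x => by
    rw [hl₀, hl]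
    exact bc_app_pullSec_eps B p F hle x
  let R : C ⊗[A] Γ(M, V) ≃+ Γ(M', W) :=
    (TensorProduct.congr (LinearEquiv.refl A C) eV.symm).toAddEquiv.trans (hlb.equiv.toAddEquiv.trans eW.toAddEquiv)
  have hR : ∀ z, β (hb₀.equiv z) = R z := fun z => by
    induction z using TensorProduct.induction_on with
    | zero => simp
    | tmul c m =>
      obtain ⟨x, rfl⟩ := eV.surjective m
      rw [IsBaseChange.equiv_tmul, map_smul, key]
      show c • eW (l x) = eW (hlb.equiv (c ⊗ₜ[A] eV.symm (eV x)))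
      rw [LinearEquiv.symm_apply_apply, IsBaseChange.equiv_tmul, map_smul]
    | add a b ha hb => simp only [map_add, ha, hb]
  have hb : Function.Bijective (β ∘ hb₀.equiv) := by
    rw [show β ∘ hb₀.equiv = R from funext hR]
    exact R.bijective
  exact (Function.Bijective.of_comp_iff _ hb₀.equiv.bijective).1 hb

/-- Affine opens of `S'` over affine opens of `S`. -/
abbrev AffPair (g : S' ⟶ S) : Type u :=
  {W : S'.affineOpens // ∃ V : S.Opens, IsAffineOpen V ∧ W.1 ≤ g ⁻¹ᵁ V}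

omit [HasInjectiveResolutions X.Modules] [HasInjectiveResolutions X'.Modules] in
theorem isBasis_affPair (g : S' ⟶ S) : Opens.IsBasis (Set.range fun W : AffPair g => W.1.1) := by
  refine Opens.isBasis_iff_nbhd.2 fun {U x} hx => ?_
  obtain ⟨V, hV, hxV, -⟩ := Opens.isBasis_iff_nbhd.1 S.isBasis_affineOpens
    (show g x ∈ (⊤ : S.Opens) from trivial)
  obtain ⟨W, hW, hxW, hWU⟩ := Opens.isBasis_iff_nbhd.1 S'.isBasis_affineOpens
    (show x ∈ U ⊓ g ⁻¹ᵁ V from ⟨hx, hxV⟩)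
  exact ⟨W, ⟨⟨⟨W, hW⟩, V, hV, hWU.trans inf_le_right⟩, rfl⟩, hxW, hWU.trans inf_le_left⟩

theorem isIso_bc_of_app {w : g' ≫ f = f' ≫ g} (B : CohCmp.GenBC f g f' g' w E E') (p : ℕ) (F : X.Modules)
    (h : ∀ (V : S.Opens) (W : S'.Opens), IsAffineOpen V → IsAffineOpen W → W ≤ g ⁻¹ᵁ V →
      Function.Bijective ((B.bc p F).app W)) : IsIso (B.bc p F) := by
  haveI : IsIso ((SheafOfModules.toSheaf S'.ringCatSheaf).map (B.bc p F)) :=
    TopCat.Sheaf.isIso_iff_isIso_basis (isBasis_affPair g) fun W => by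
      obtain ⟨⟨W, hW⟩, V, hV, hle⟩ := W
      exact (ConcreteCategory.isIso_iff_bijective _).2 (h V W hV hW hle)
  haveI : IsIso ((Scheme.Modules.toPresheaf S').map (B.bc p F)) :=
    inferInstanceAs (IsIso ((TopCat.Sheaf.forget AddCommGrpCat.{u} S'.toPresheafedSpace.carrier).map
      ((SheafOfModules.toSheaf S'.ringCatSheaf).map (B.bc p F))))
  exact isIso_of_reflects_iso _ (Scheme.Modules.toPresheaf S')

/-- The criterion through the exchange maps. -/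
theorem isIso_bc_of_tM [QuasiCompact f] [QuasiSeparated f] (h : IsPullback g' f' f g)
    (B : CohCmp.GenBC f g f' g' h.w E E') (p : ℕ) {F : X.Modules} (hF : Coh.IsQCoh F)
    (H : ∀ (V : S.Opens) (hV : IsAffineOpen V) (W : S'.Opens) (_ : IsAffineOpen W) (hle : W ≤ g ⁻¹ᵁ V),
      letI : (f ⁻¹ᵁ V).toScheme.Over (Spec (CommRingCat.of Γ(S, V))) := ⟨secπ f hV le_rfl⟩
      ∃ (T : ModuleCat.{u} Γ(S, V) ⥤ ModuleCat.{u} Γ(S, V)) (_ : T.Additive) (_ : T.Linear Γ(S, V)),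
        Nonempty (T ⋙ forget₂ _ AddCommGrpCat.{u} ≅
          CohIII.tensorAFunctor Γ(S, V) (F.restrict (f ⁻¹ᵁ V).ι) ⋙ CohIII.HAb _ p) ∧
        letI : Algebra Γ(S, V) Γ(S', W) := (g.appLE V W hle).hom.toAlgebra
        Function.Bijective (FlatCxLib.tM T (ModuleCat.of Γ(S, V) Γ(S', W)))) :
    IsIso (B.bc p F) := by
  haveI : QuasiCompact f' := MorphismProperty.of_isPullback h ‹_›
  haveI : QuasiSeparated f' := MorphismProperty.of_isPullback h ‹_›
  refine isIso_bc_of_app B p F fun V W hV hW hle => ?_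
  letI : (f ⁻¹ᵁ V).toScheme.Over (Spec (CommRingCat.of Γ(S, V))) := ⟨secπ f hV le_rfl⟩
  letI : Algebra Γ(S, V) Γ(S', W) := (g.appLE V W hle).hom.toAlgebra
  obtain ⟨T, hT, hT', ⟨e⟩, ht⟩ := H V hV W hW hle
  have hk : IsPullback (g'.resLE (f ⁻¹ᵁ V) (f' ⁻¹ᵁ W) (sectLE h.w hle)) (secπ f' hW le_rfl)
      ((f ⁻¹ᵁ V).toScheme ↘ Spec (CommRingCat.of Γ(S, V)))
      (Spec.map (CommRingCat.ofHom (algebraMap Γ(S, V) Γ(S', W)))) :=
    isPullback_sect h hV hW hle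
  exact bijective_bc_app B p hF hV hW hle (isBaseChange_pullMod hk (isQCoh_restrict _ hF) p T e ht)

end Groth.Agent.CohPullLib
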