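import Groth.Agent.CohPullLib.FlatStage
import Groth.Agent.CohPullLib.BCAffine
import Groth.Agent.QCoh.RpushModel

/-!
# Finite free models of proper flat families over arbitrary affine bases
-/

set_option backward.isDefEq.respectTransparency false
set_option backward.isDefEq.respectTransparency.types false
set_option linter.style.haveILetI false
set_option maxRecDepth 4000
set_option maxHeartbeats 1000000

universe u

open CategoryTheory CategoryTheory.Limits AlgebraicGeometry TopologicalSpace Opposite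
open scoped TensorProduct

namespace Groth.Agent.CohPullLib

open Groth.Agent.QCoh

section Functor

variable {A B : Type u} [CommRing A] [CommRing B] {X X' : Scheme.{u}}
  [X.Over (Spec (CommRingCat.of A))] [X'.Over (Spec (CommRingCat.of B))]

/-- Isomorphic modules have isomorphic tensor functors. -/
noncomputable def tensorAIsoOfIso {F F' : X.Modules} (ψ : F ≅ F') :
    CohIII.tensorAFunctor A F ≅ CohIII.tensorAFunctor A F' :=
  Functor.isoWhiskerLeft _ (Functor.isoWhiskerLeft _ (Functor.isoWhiskerLeft _ (Functor.isoWhiskerRight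
    ((MonoidalCategory.tensoringRight (CohB1.PMod X)).mapIso (DCoh.toP.mapIso ψ)) _)))

theorem exists_tfun_bc (φ : A →+* B) (g : X' ⟶ X)
    (h : IsPullback g (X' ↘ Spec (CommRingCat.of B)) (X ↘ Spec (CommRingCat.of A))
      (Spec.map (CommRingCat.ofHom φ)))
    [CompactSpace X] [X.IsSeparated] {F : X.Modules} (hF : Coh.IsQCoh F) {F' : X'.Modules}
    (ψ : (Scheme.Modules.pullback g).obj F ≅ F') (P : ChainComplex (ModuleCat.{u} A) ℤ) (q : ℤ) (p : ℕ)
    (e : CohIII.TFun P q ⋙ forget₂ (ModuleCat.{u} A) AddCommGrpCat.{u} ≅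
      CohIII.tensorAFunctor A F ⋙ CohIII.HAb X p) :
    Nonempty (CohIII.TFun (CohIII.bcCx φ P) q ⋙ forget₂ (ModuleCat.{u} B) AddCommGrpCat.{u} ≅
      CohIII.tensorAFunctor B F' ⋙ CohIII.HAb X' p) := by
  obtain ⟨b⟩ := nonempty_bcT_iso P φ q
  obtain ⟨c⟩ := nonempty_HAb_bc_iso φ g h hF p
  exact ⟨b ≪≫ Functor.isoWhiskerLeft _ e ≪≫ c.symm ≪≫ Functor.isoWhiskerRight (tensorAIsoOfIso ψ) _⟩

end Functor

section Model

variable {X S : Scheme.{u}} (f : X ⟶ S) (F : X.Modules)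

/-- A finite free complex computing the cohomology of `F` tensored with any module over the affine open `V`. -/
def IsModel {V : S.Opens} (hV : IsAffineOpen V) (P : ChainComplex (ModuleCat.{u} Γ(S, V)) ℤ) : Prop :=
  letI : (f ⁻¹ᵁ V).toScheme.Over (Spec (CommRingCat.of Γ(S, V))) := ⟨secπ f hV le_rfl⟩
  (∀ i, Module.Finite Γ(S, V) (P.X i)) ∧ (∀ i, Module.Free Γ(S, V) (P.X i)) ∧
  (∃ c : ℤ, ∀ i, i < c → IsZero (P.X i)) ∧
  (∀ q : ℤ, 0 < q → ∀ N : ModuleCat.{u} Γ(S, V), IsZero (CohIII.T P q N)) ∧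
  ∀ p : ℕ, Nonempty (CohIII.TFun P (-(p : ℤ)) ⋙ forget₂ (ModuleCat.{u} Γ(S, V)) AddCommGrpCat.{u} ≅
    CohIII.tensorAFunctor Γ(S, V) (F.restrict (f ⁻¹ᵁ V).ι) ⋙ CohIII.HAb _ p)

variable {f F}

theorem IsModel.flat {V : S.Opens} {hV : IsAffineOpen V} {P : ChainComplex (ModuleCat.{u} Γ(S, V)) ℤ}
    (hP : IsModel f F hV P) (i : ℤ) : Module.Flat Γ(S, V) (P.X i) :=
  @Module.Flat.of_free _ _ _ _ _ (hP.2.1 i)

theorem secπ_eq_overSpec (f : X ⟶ S) {V : S.Opens} (hV : IsAffineOpen V) :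
    secπ f hV (le_refl (f ⁻¹ᵁ V)) = overSpec f hV := by
  rw [secπ, overSpec, Scheme.Hom.resLE_eq_morphismRestrict]

theorem isPullback_secπ (f : X ⟶ S) {V : S.Opens} (hV : IsAffineOpen V) :
    IsPullback (f ⁻¹ᵁ V).ι (secπ f hV (le_refl (f ⁻¹ᵁ V))) f hV.fromSpec := by
  rw [secπ_eq_overSpec]
  exact isPullback_overSpec hV

theorem finitePresentation_of_bijective_algebraMap {A S M : Type u} [CommRing A] [CommRing S] [Algebra A S]
    [AddCommGroup M] [Module A M] [Module S M] [IsScalarTower A S M]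
    (hb : Function.Bijective (algebraMap A S)) [Module.FinitePresentation A M] :
    Module.FinitePresentation S M := by
  let eS : A ≃ₐ[A] S := AlgEquiv.ofBijective (Algebra.ofId A S) hb
  let e : S ⊗[A] M ≃ₗ[A] M :=
    (TensorProduct.congr eS.symm.toLinearEquiv (LinearEquiv.refl A M)).trans (TensorProduct.lid A M)
  have h : IsBaseChange S (LinearMap.id : M →ₗ[A] M) := by
    refine IsBaseChange.of_equiv (e.toAddEquiv.toLinearEquiv fun s x => ?_) fun x => ?_
    · obtain ⟨a, rfl⟩ := hb.2 s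
      show e (algebraMap A S a • x) = algebraMap A S a • e x
      rw [algebraMap_smul, algebraMap_smul]
      exact e.map_smul a x
    · show eS.symm 1 • x = x
      rw [map_one, one_smul]
  exact Module.FinitePresentation.of_equiv h.equiv

theorem isFP_restrict {Y : Scheme.{u}} (i : Y ⟶ X) [IsOpenImmersion i] (hF : Coh.IsQCoh F) (hfp : CohB1.IsFP F) :
    CohB1.IsFP (F.restrict i) := by
  rw [QCoh.isFP_iff (isQCoh_restrict i hF)]
  intro W
  letI : Algebra Γ(X, i ''ᵁ W.1) Γ(Y, W.1) := (i.appIso W.1).hom.hom.toAlgebra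
  letI : Module Γ(X, i ''ᵁ W.1) Γ(F.restrict i, W.1) :=
    inferInstanceAs (Module Γ(X, i ''ᵁ W.1) Γ(F, i ''ᵁ W.1))
  haveI : Module.FinitePresentation Γ(X, i ''ᵁ W.1) Γ(F.restrict i, W.1) :=
    QCoh.finitePresentation_of_isFP hfp (W.2.image_of_isOpenImmersion i)
  haveI : IsScalarTower Γ(X, i ''ᵁ W.1) Γ(Y, W.1) Γ(F.restrict i, W.1) := .of_algebraMap_smul fun r x => by
    show (i.appIso W.1).inv ((i.appIso W.1).hom r) • (show Γ(F, i ''ᵁ W.1) from x) = r • x
    rw [Iso.hom_inv_id_apply]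
  exact finitePresentation_of_bijective_algebraMap
    (ConcreteCategory.bijective_of_isIso (i.appIso W.1).hom)

theorem exists_isModel [IsProper f] [LocallyOfFinitePresentation f] (hF : Coh.IsQCoh F) (hfp : CohB1.IsFP F)
    (hfl : FlatMod.IsFlatOver f F) {V : S.Opens} (hV : IsAffineOpen V) :
    ∃ P : ChainComplex (ModuleCat.{u} Γ(S, V)) ℤ, IsModel f F hV P := by
  let U : X.Opens := f ⁻¹ᵁ V
  let π := secπ f hV (le_refl U)
  have hpb := isPullback_secπ f hV
  haveI : IsProper π := MorphismProperty.of_isPullback hpb inferInstance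
  haveI : LocallyOfFinitePresentation π := MorphismProperty.of_isPullback hpb inferInstance
  let eR : (Scheme.Modules.pullback U.ι).obj F ≅ F.restrict U.ι :=
    ((Scheme.Modules.restrictFunctorIsoPullback U.ι).app F).symm
  have hfl' : FlatMod.IsFlatOver π (F.restrict U.ι) :=
    isFlatOver_of_iso (f := π) eR (isQCoh_pullback _ hF)
      fun x => MorLib.FlatBC.isFlatOverAt_baseChange f π U.ι hV.fromSpec hpb F x (hfl _)
  obtain ⟨A₂, X₂, f₂, g₂, G, hA₂, hf₂, hsq, hG, hGfl, ⟨ψ⟩⟩ :=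
    exists_noetherian_model π (isQCoh_restrict U.ι hF) (isFP_restrict U.ι hF hfp) hfl'
  haveI := isNoetherianRing_of_fg hA₂
  letI : U.toScheme.Over (Spec (CommRingCat.of Γ(S, V))) := ⟨π⟩
  letI : X₂.Over (Spec (CommRingCat.of ↥A₂)) := ⟨f₂⟩
  haveI : IsProper (X₂ ↘ Spec (CommRingCat.of ↥A₂)) := hf₂
  haveI : CompactSpace X₂ := QuasiCompact.compactSpace_of_compactSpace (X₂ ↘ Spec (CommRingCat.of ↥A₂))
  haveI : X₂.IsSeparated := ⟨by
    rw [← Limits.terminal.comp_from (X₂ ↘ Spec (CommRingCat.of ↥A₂))]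
    infer_instance⟩
  obtain ⟨P₀, h1, h2, ⟨c, h3⟩, h4, h5⟩ := exists_chain_model G hG hGfl
  let φ : ↥A₂ →+* Γ(S, V) := algebraMap (↥A₂) Γ(S, V)
  refine ⟨CohIII.bcCx φ P₀, fun i => finite_bcCx_X_aux P₀ φ h1 i, fun i => ?_, ⟨c, fun i hi => ?_⟩,
    fun q hq N => ?_, fun p => ?_⟩
  · letI := φ.toAlgebra
    haveI := h2 i
    exact inferInstanceAs (Module.Free Γ(S, V) (Γ(S, V) ⊗[↥A₂] P₀.X i))
  · exact Functor.map_isZero (ModuleCat.extendScalars φ) (h3 i hi)
  · obtain ⟨e⟩ := nonempty_bcT_iso P₀ φ q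
    haveI : Subsingleton (CohIII.T (CohIII.bcCx φ P₀) q N) :=
      AddCommGrpCat.subsingleton_of_isZero ((Functor.map_isZero (forget₂ (ModuleCat.{u} ↥A₂) AddCommGrpCat.{u})
        (h5 q hq ((ModuleCat.restrictScalars φ).obj N))).of_iso (e.app N))
    exact ModuleCat.isZero_of_subsingleton _
  · obtain ⟨e⟩ := h4 p
    exact exists_tfun_bc φ g₂ hsq hG.1 ψ P₀ _ p e

end Model

end Groth.Agent.CohPullLib
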