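import Groth.Agent.CohPullLib.BC0
import Groth.Agent.ConsPropLib.FibreLocFree

/-!
# Local freeness over an open set from local freeness near each of its points
-/

set_option linter.style.haveILetI false

universe u

open CategoryTheory CategoryTheory.Limits AlgebraicGeometry TopologicalSpace Groth.Agent.QCoh

namespace Groth.Agent.CohPullLib

theorem isFinLocFree_restrict_of_nhds {S : Scheme.{u}} {M : S.Modules} {U : S.Opens}
    (h : ∀ y ∈ U, ∃ V : S.Opens, y ∈ V ∧ V ≤ U ∧ FlatMod.IsFinLocFree (M.restrict V.ι)) :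
    FlatMod.IsFinLocFree (M.restrict U.ι) := by
  choose V hy hle hlf using h
  refine ConsPropLib.isFinLocFree_of_cover (J := U.toScheme) (fun y => S.homOfLE (hle y.1 y.2))
    (fun y => ⟨y, ⟨⟨y.1, hy y.1 y.2⟩, Subtype.ext (by simp)⟩⟩) fun y => ?_
  exact (ConsPropLib.isFinLocFree_iso (restrictRestrict M (S.homOfLE (hle y.1 y.2)) U.ι ≪≫
    (Scheme.Modules.restrictFunctorCongr (S.homOfLE_ι (hle y.1 y.2))).app M)).2 (hlf y.1 y.2)

end Groth.Agent.CohPullLib
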