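import Groth.Agent.CohPullLib.EpsRes

/-!
# Transitivity of restriction of cohomology classes
-/

set_option backward.isDefEq.respectTransparency false
set_option backward.isDefEq.respectTransparency.types false
set_option linter.style.haveILetI false

universe u

open CategoryTheory AlgebraicGeometry TopologicalSpace Opposite

namespace Groth.Agent.CohPullLib

variable {X : Scheme.{u}} [HasInjectiveResolutions X.Modules]

theorem resLE_resLE {U U' U'' : X.Opens} (h : U' ≤ U) (h' : U'' ≤ U') (p : ℕ) :
    ∀ (F : X.Modules) (x : Coh.HHon X F U p),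
      CohPull.resLE F h' p (CohPull.resLE F h p x) = CohPull.resLE F (h'.trans h) p x := by
  induction p with
  | zero =>
    intro F x
    obtain ⟨s, rfl⟩ := (CohPull.sectH0 F U).surjective x
    rw [resLE_sectH0, resLE_sectH0, resLE_sectH0]
    exact congrArg _ (QCoh.map_map _ _ _)
  | succ p ih =>
    intro F x
    obtain ⟨Q, C, a, b, w, hQ, hS⟩ := exists_injSES F
    let S := ShortComplex.mk a b w
    haveI : Injective S.X₂ := hQ
    obtain ⟨y, rfl⟩ := extδ_surjective (toAbOn_shortExact (S := S) hS U) p x
    rw [resLE_delta S h _ (toAbOn_shortExact hS U'), resLE_delta S h' _ (toAbOn_shortExact hS U''),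
      resLE_delta S (h'.trans h) _ (toAbOn_shortExact hS U''), ih]

end Groth.Agent.CohPullLib
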