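import Groth.Agent.CohPullLib.RelBC
import Groth.Agent.QCoh.ExtendFT
import Groth.Agent.QcqsColim.FTSub
import Groth.Agent.QCoh.RpushStalk
import Groth.Agent.QCoh.FT
import Mathlib.RingTheory.Adjoin.FG

/-!
# Modules of finite presentation descend along a change of affine base
-/

set_option backward.isDefEq.respectTransparency false
set_option backward.isDefEq.respectTransparency.types false
set_option linter.style.haveILetI false
set_option maxRecDepth 4000
set_option maxHeartbeats 1000000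

universe u

open CategoryTheory CategoryTheory.Limits AlgebraicGeometry TopologicalSpace Opposite
open scoped TensorProduct

namespace Groth.Agent.CohPullLib

open Groth.Agent.QCoh Groth.Agent.ExistEasy

theorem adjunct_app_pullSec {X Y : Scheme.{u}} (g : X ⟶ Y) {M : Y.Modules} {N : X.Modules}
    (v : M ⟶ (Scheme.Modules.pushforward g).obj N) {V : Y.Opens} {W : X.Opens} (hle : W ≤ g ⁻¹ᵁ V) (x : Γ(M, V)) :
    (((Scheme.Modules.pullbackPushforwardAdjunction g).homEquiv M N).symm v).app W (pullSec g M hle x) =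
      N.presheaf.map (homOfLE hle).op (show Γ(N, g ⁻¹ᵁ V) from v.app V x) := by
  obtain ⟨φ, rfl⟩ := ((Scheme.Modules.pullbackPushforwardAdjunction g).homEquiv M N).surjective v
  rw [Equiv.symm_apply_apply, Adjunction.homEquiv_unit]
  exact QCoh.map_app_comm φ (homOfLE hle) _

theorem mem_span_range_pullSec {X Y : Scheme.{u}} (g : X ⟶ Y) {M : Y.Modules} (hM : Coh.IsQCoh M) {W : X.Opens}
    (hW : IsAffineOpen W) {V : Y.Opens} (hV : IsAffineOpen V) (hle : W ≤ g ⁻¹ᵁ V)
    (z : Γ((Scheme.Modules.pullback g).obj M, W)) :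
    z ∈ Submodule.span Γ(X, W) (Set.range (pullSec g M hle)) := by
  letI : Algebra Γ(Y, V) Γ(X, W) := (g.appLE V W hle).hom.toAlgebra
  letI : Module Γ(Y, V) Γ((Scheme.Modules.pullback g).obj M, W) := Module.compHom _ (g.appLE V W hle).hom
  haveI : IsScalarTower Γ(Y, V) Γ(X, W) Γ((Scheme.Modules.pullback g).obj M, W) :=
    ⟨fun a b c => mul_smul ((g.appLE V W hle).hom a) b c⟩
  obtain ⟨l, hl, hb⟩ := exists_pullSec_baseChange g hM hW hV hle
  exact hb.inductionOn z (fun z => z ∈ Submodule.span Γ(X, W) (Set.range (pullSec g M hle))) (zero_mem _)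
    (fun m => Submodule.subset_span ⟨m, (hl m).symm⟩) (fun s n hn => Submodule.smul_mem _ s hn)
    fun a b ha hb => add_mem ha hb

theorem epi_of_surjective_cover {X : Scheme.{u}} {M N : X.Modules} (hM : Coh.IsQCoh M) (hN : Coh.IsQCoh N)
    (φ : M ⟶ N) {ι : Type u} (U : ι → X.Opens) (hU : ∀ i, IsAffineOpen (U i)) (hcov : ∀ x, ∃ i, x ∈ U i)
    (h : ∀ i, Function.Surjective (φ.app (U i))) : Epi φ := by
  refine Preadditive.epi_of_cokernel_zero ?_
  refine IsZero.eq_of_tgt (QCoh.isZero_of_cover (QCoh.isQCoh_cokernel hM hN φ) U hU hcov fun i =>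
    subsingleton_of_forall_eq 0 fun z => ?_) _ _
  obtain ⟨y, rfl⟩ := QCoh.app_surjective_of_epi hN (QCoh.isQCoh_cokernel hM hN φ) (cokernel.π φ) (hU i) z
  obtain ⟨w, rfl⟩ := h i y
  exact congrArg (fun ψ => Scheme.Modules.Hom.app ψ (U i) w) (cokernel.condition φ)

/-- Finitely many sections over finitely many affine opens lie in a submodule of finite type. -/
theorem exists_ftOn_family {X : Scheme.{u}} [CompactSpace X] [QuasiSeparatedSpace X] {G : X.Modules}
    (hG : Coh.IsQCoh G) {ι : Type u} [Finite ι] (U : ι → X.Opens) (hU : ∀ i, IsAffineOpen (U i))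
    (T : ∀ i, Set Γ(G, U i)) (hT : ∀ i, (T i).Finite) :
    ∃ N : SubMod G, FTOn N ⊤ ∧ ∀ i, T i ⊆ N.mem (U i) := by
  classical
  have := Fintype.ofFinite ι
  suffices h : ∀ s : Finset ι, ∃ N : SubMod G, FTOn N ⊤ ∧ ∀ i ∈ s, T i ⊆ N.mem (U i) by
    obtain ⟨N, h1, h2⟩ := h Finset.univ
    exact ⟨N, h1, fun i => h2 i (Finset.mem_univ i)⟩
  intro s
  induction s using Finset.induction with
  | empty => exact ⟨_, (Classical.arbitrary (QcqsColim.FTIndex G)).2, by simp⟩
  | insert i s _ ih =>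
    obtain ⟨N, h1, h2⟩ := ih
    obtain ⟨N', h1', h2'⟩ := exists_ftOn_contains hG (hU i) (extStep_qcqs (hU i).isCompact) (T i) (hT i)
    refine ⟨QcqsColim.supSub N N', QcqsColim.ftOn_supSub h1 h1', fun j hj t ht => ?_⟩
    rcases Finset.mem_insert.1 hj with rfl | hj
    · exact QcqsColim.mem_supSub_right _ _ _ (h2' ht)
    · exact QcqsColim.mem_supSub_left _ _ _ (h2 j hj ht)

/-- The scalars on the base change are generated by the two factors. -/
theorem exists_finite_closure {A₀ A : Type u} [CommRing A₀] [CommRing A] [Algebra A₀ A] {X₀ X : Scheme.{u}}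
    {f : X ⟶ Spec (CommRingCat.of A)} {f₀ : X₀ ⟶ Spec (CommRingCat.of A₀)} {g : X ⟶ X₀}
    (h : IsPullback g f f₀ (Spec.map (CommRingCat.ofHom (algebraMap A₀ A)))) {U : X₀.Opens} (hU : IsAffineOpen U)
    (b : Γ(X, g ⁻¹ᵁ U)) :
    ∃ t : Finset A, b ∈ Subring.closure (Set.range (g.app U) ∪
      (fun a => X.presheaf.map (homOfLE (le_top : g ⁻¹ᵁ U ≤ ⊤)).op (Coh.toGlobal f a)) '' t) := by
  classical
  haveI hg : IsAffineHom g := MorphismProperty.of_isPullback h.flip inferInstance
  let V := g ⁻¹ᵁ U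
  let ρ : A →+* Γ(X, V) := (X.presheaf.map (homOfLE (le_top : V ≤ ⊤)).op).hom.comp (Coh.toGlobal f)
  let ρ₀ : A₀ →+* Γ(X₀, U) := (X₀.presheaf.map (homOfLE (le_top : U ≤ ⊤)).op).hom.comp (Coh.toGlobal f₀)
  letI : Algebra A Γ(X, V) := ρ.toAlgebra
  letI : Algebra A₀ Γ(X₀, U) := ρ₀.toAlgebra
  letI : Algebra A₀ Γ(X, V) := (ρ.comp (algebraMap A₀ A)).toAlgebra
  letI : Algebra Γ(X₀, U) Γ(X, V) := (g.app U).hom.toAlgebra
  haveI : IsScalarTower A₀ A Γ(X, V) := IsScalarTower.of_algebraMap_eq' rfl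
  haveI : IsScalarTower A₀ Γ(X₀, U) Γ(X, V) := IsScalarTower.of_algebraMap_eq fun a => by
    show X.presheaf.map (homOfLE (le_top : V ≤ ⊤)).op (Coh.toGlobal f (algebraMap A₀ A a)) =
      g.app U (X₀.presheaf.map (homOfLE (le_top : U ≤ ⊤)).op (Coh.toGlobal f₀ a))
    rw [app_topRes, toGlobal_comm f₀ f g h.w]
  haveI hP : Algebra.IsPushout A₀ A Γ(X₀, U) Γ(X, V) := by
    rw [← CommRingCat.isPushout_iff_isPushout]
    haveI : IsAffine (U : Scheme.{u}) := hU
    have h1 := (isPullback_morphismRestrict g U).paste_vert h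
    refine (isPushout_appTop_of_isPullback h1).flip.of_iso (Scheme.ΓSpecIso (CommRingCat.of A₀))
      (Scheme.ΓSpecIso (CommRingCat.of A)) U.topIso V.topIso ?_ ?_ ?_ ?_
    · exact Scheme.ΓSpecIso_naturality (CommRingCat.ofHom (algebraMap A₀ A))
    · ext a
      simp [RingHom.algebraMap_toAlgebra, ρ₀, Coh.toGlobal]
      erw [← CommRingCat.comp_apply, ← Functor.map_comp]
      rfl
    · ext a
      simp [RingHom.algebraMap_toAlgebra, ρ, Coh.toGlobal]
      erw [← CommRingCat.comp_apply, ← Functor.map_comp]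
      rfl
    · simp [RingHom.algebraMap_toAlgebra, V]
      rfl
  refine hP.out.inductionOn b (fun b => ∃ t : Finset A, b ∈ Subring.closure (Set.range (g.app U) ∪ ρ '' t))
    ⟨∅, zero_mem _⟩ (fun r => ⟨∅, Subring.subset_closure (Or.inl ⟨r, rfl⟩)⟩) ?_ ?_
  · rintro a x ⟨t, ht⟩
    refine ⟨insert a t, ?_⟩
    rw [Algebra.smul_def]
    refine mul_mem (Subring.subset_closure (Or.inr ⟨a, by simp, rfl⟩)) (Subring.closure_mono ?_ ht)
    exact Set.union_subset_union_right _ (Set.image_mono (by simp))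
  · rintro x y ⟨t, ht⟩ ⟨t', ht'⟩
    refine ⟨t ∪ t', add_mem (Subring.closure_mono ?_ ht) (Subring.closure_mono ?_ ht')⟩ <;>
      exact Set.union_subset_union_right _ (Set.image_mono (by simp))

/-- A module of finite presentation comes from a stage. -/
theorem exists_module_descend {A : Type u} [CommRing A] (A₀ : Subalgebra ℤ A) (hA₀ : A₀.FG)
    {X X₀ : Scheme.{u}} {f : X ⟶ Spec (CommRingCat.of A)} {f₀ : X₀ ⟶ Spec (CommRingCat.of ↥A₀)}
    [IsProper f₀] [LocallyOfFinitePresentation f₀] {g : X ⟶ X₀}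
    (h : IsPullback g f f₀ (Spec.map (CommRingCat.ofHom (algebraMap (↥A₀) A))))
    {F : X.Modules} (hF : Coh.IsQCoh F) (hfp : CohB1.IsFP F) :
    ∃ (A₁ : Subalgebra ℤ A) (_ : A₁.FG) (X₁ : Scheme.{u}) (f₁ : X₁ ⟶ Spec (CommRingCat.of ↥A₁)) (g₁ : X ⟶ X₁)
      (G : X₁.Modules), IsProper f₁ ∧ LocallyOfFinitePresentation f₁ ∧
        IsPullback g₁ f f₁ (Spec.map (CommRingCat.ofHom (algebraMap (↥A₁) A))) ∧
        Coh.IsQCoh G ∧ CohB1.IsFT G ∧ Nonempty ((Scheme.Modules.pullback g₁).obj G ≅ F) := by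
  classical
  haveI hg : IsAffineHom g := MorphismProperty.of_isPullback h.flip inferInstance
  haveI : CompactSpace X₀ := QuasiCompact.compactSpace_of_compactSpace f₀
  haveI : X₀.IsSeparated := ⟨by
    rw [← Limits.terminal.comp_from f₀]
    infer_instance⟩
  obtain ⟨κ, _, U, hcov, hU⟩ := exists_affine_cover (X := X₀)
  have hU₁ : ∀ k, IsAffineOpen (U k) := fun k => by simpa using hU (p := 0) (fun _ => k)
  have hcov' : ∀ x : X₀, ∃ k, x ∈ U k := fun x => Opens.mem_iSup.1 (hcov ▸ trivial)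
  let V : κ → X.Opens := fun k => g ⁻¹ᵁ U k
  have hV : ∀ k, IsAffineOpen (V k) := fun k => (hU₁ k).preimage g
  let H := (Scheme.Modules.pushforward g).obj F
  have hH : Coh.IsQCoh H := isQCoh_pushforward g hF
  haveI := hfp
  have hft : CohB1.IsFT F := inferInstance
  have hgen : ∀ k, ∃ T : Finset Γ(F, V k), Submodule.span Γ(X, V k) (T : Set Γ(F, V k)) = ⊤ := fun k =>
    (finite_of_isFT hF hft (hV k)).fg_top
  choose T hT using hgen
  obtain ⟨N, hN, hTN⟩ := exists_ftOn_family hH U hU₁ (fun k => (T k : Set Γ(F, V k))) fun k => (T k).finite_toSet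
  let M := N.toModules
  have hM : Coh.IsQCoh M := isQCoh_of_ftOn hH hN
  have hMft : CohB1.IsFT M := isFT_of_ftOn hH hN
  let v : M ⟶ H := N.ι
  let ū := ((Scheme.Modules.pullbackPushforwardAdjunction g).homEquiv M F).symm v
  have hP : Coh.IsQCoh ((Scheme.Modules.pullback g).obj M) := isQCoh_pullback g hM
  have hus : ∀ k, Function.Surjective (ū.app (V k)) := fun k => by
    have hle : Submodule.span Γ(X, V k) (T k : Set Γ(F, V k)) ≤ LinearMap.range (appLin ū (V k)) := by
      rw [Submodule.span_le]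
      intro t ht
      obtain ⟨m, hm⟩ := N.exists_app_eq (hTN k ht)
      exact ⟨pullSec g M le_rfl m, (adjunct_app_pullSec g v le_rfl m).trans ((QCoh.map_id' _ _).trans hm)⟩
    rw [hT k] at hle
    exact fun z => hle (Submodule.mem_top : z ∈ ⊤)
  have hcovV : ∀ x : X, ∃ k, x ∈ V k := fun x => hcov' (g x)
  haveI : Epi ū := epi_of_surjective_cover hP hF ū V hV hcovV hus
  have hker : ∀ k, ∃ K : Finset Γ((Scheme.Modules.pullback g).obj M, V k),
      Submodule.span Γ(X, V k) (K : Set _) = LinearMap.ker (appLin ū (V k)) := fun k => by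
    haveI := finitePresentation_of_isFP hfp (hV k)
    haveI := finite_of_isFT hP (isFT_pullback g hM hMft) (hV k)
    exact Module.FinitePresentation.fg_ker _ (hus k)
  choose K hK using hker
  have hcoef : ∀ k, ∀ z ∈ K k, ∃ (n : ℕ) (b : Fin n → Γ(X, V k)) (m : Fin n → Γ(M, U k)),
      ∑ i, b i • pullSec g M (le_refl (V k)) (m i) = z := fun k z _ => by
    obtain ⟨n, b, w, hw⟩ := Submodule.mem_span_set'.1 (mem_span_range_pullSec g hM (hV k) (hU₁ k) le_rfl z)
    choose m hm using fun i => (w i).2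
    exact ⟨n, b, m, by simp only [hm]; exact hw⟩
  choose n b m hbm using hcoef
  have hfin : ∀ (k) (z) (hz : z ∈ K k) (i), ∃ t : Finset A, b k z hz i ∈ Subring.closure (Set.range (g.app (U k)) ∪
      (fun a => X.presheaf.map (homOfLE (le_top : g ⁻¹ᵁ U k ≤ ⊤)).op (Coh.toGlobal f a)) '' t) :=
    fun k z hz i => exists_finite_closure h (hU₁ k) _
  choose t ht using hfin
  have := Fintype.ofFinite κ
  let s : Finset A := Finset.univ.biUnion fun k => (K k).attach.biUnion fun z =>
    Finset.univ.biUnion fun i => t k z.1 z.2 i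
  let A₁ : Subalgebra ℤ A := A₀ ⊔ Algebra.adjoin ℤ (s : Set A)
  have hA₁ : A₁.FG := hA₀.sup (Subalgebra.fg_adjoin_finset s)
  let i₁ : ↥A₀ →+* ↥A₁ := (Subalgebra.inclusion (le_sup_left : A₀ ≤ A₁)).toRingHom
  let X₁ := pullback f₀ (Spec.map (CommRingCat.ofHom i₁))
  let q : X₁ ⟶ X₀ := pullback.fst _ _
  let f₁ : X₁ ⟶ Spec (CommRingCat.of ↥A₁) := pullback.snd _ _
  have hq : IsPullback q f₁ f₀ (Spec.map (CommRingCat.ofHom i₁)) := IsPullback.of_hasPullback _ _
  haveI : IsAffineHom q := MorphismProperty.of_isPullback hq.flip inferInstance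
  have hcomp : Spec.map (CommRingCat.ofHom (algebraMap (↥A₁) A)) ≫ Spec.map (CommRingCat.ofHom i₁) =
      Spec.map (CommRingCat.ofHom (algebraMap (↥A₀) A)) := by
    rw [← Spec.map_comp]
    rfl
  let g₁ : X ⟶ X₁ := hq.lift g (f ≫ Spec.map (CommRingCat.ofHom (algebraMap (↥A₁) A)))
    (by rw [Category.assoc, hcomp, h.w])
  have hg₁q : g₁ ≫ q = g := hq.lift_fst _ _ _
  have h₁ : IsPullback g₁ f f₁ (Spec.map (CommRingCat.ofHom (algebraMap (↥A₁) A))) :=
    IsPullback.of_right (by rw [hcomp, hg₁q]; exact h) (hq.lift_snd _ _ _) hq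
  haveI hg₁ : IsAffineHom g₁ := MorphismProperty.of_isPullback h₁.flip inferInstance
  let U' : κ → X₁.Opens := fun k => q ⁻¹ᵁ U k
  have hle : ∀ k, V k ≤ g₁ ⁻¹ᵁ U' k := fun k => by
    rw [← Scheme.Hom.comp_preimage, hg₁q]
  let M₁ := (Scheme.Modules.pullback q).obj M
  have hM₁ : Coh.IsQCoh M₁ := isQCoh_pullback q hM
  let c : (Scheme.Modules.pullback g₁).obj M₁ ⟶ (Scheme.Modules.pullback g).obj M :=
    (Scheme.Modules.pullbackComp g₁ q).hom.app M ≫ (Scheme.Modules.pullbackCongr hg₁q).hom.app M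
  haveI : IsIso c := inferInstance
  let w : M₁ ⟶ (Scheme.Modules.pushforward g₁).obj F :=
    (Scheme.Modules.pullbackPushforwardAdjunction g₁).homEquiv _ _ (c ≫ ū)
  have hW : Coh.IsQCoh ((Scheme.Modules.pushforward g₁).obj F) := isQCoh_pushforward g₁ hF
  let G := cokernel (kernel.ι w)
  have hG : Coh.IsQCoh G := QCoh.isQCoh_cokernel (QCoh.isQCoh_kernel hM₁ hW w) hM₁ _
  let π : M₁ ⟶ G := cokernel.π (kernel.ι w)
  let i : G ⟶ (Scheme.Modules.pushforward g₁).obj F := Abelian.factorThruCoimage w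
  haveI : Mono i := inferInstanceAs (Mono (Abelian.factorThruCoimage w))
  have hπi : π ≫ i = w := Abelian.coimage.fac w
  let ψ := ((Scheme.Modules.pullbackPushforwardAdjunction g₁).homEquiv G F).symm i
  have hψ : (Scheme.Modules.pullback g₁).map π ≫ ψ = c ≫ ū := by
    rw [← Adjunction.homEquiv_naturality_left_symm, hπi, Equiv.symm_apply_apply]
  have hGp : Coh.IsQCoh ((Scheme.Modules.pullback g₁).obj G) := isQCoh_pullback g₁ hG
  have hM₁p : Coh.IsQCoh ((Scheme.Modules.pullback g₁).obj M₁) := isQCoh_pullback g₁ hM₁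
  have hGft : CohB1.IsFT G := (QCoh.isFT_iff hG).2 fun W => by
    haveI := QCoh.finite_of_isFT hM₁ (isFT_pullback q hM hMft) W.2
    exact Module.Finite.of_surjective (QCoh.appLin π W.1) (QCoh.app_surjective_of_epi hM₁ hG π W.2)
  have hbij : ∀ k, Function.Bijective (ψ.app (V k)) := by
    intro k
    have hcsurj : Function.Surjective (((Scheme.Modules.pullback g₁).map π).app (V k)) := by
      haveI : Epi ((Scheme.Modules.pullback g₁).map π) := inferInstance
      exact QCoh.app_surjective_of_epi hM₁p hGp _ (hV k)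
    have hψv : ∀ y, ψ.app (V k) (((Scheme.Modules.pullback g₁).map π).app (V k) y) = ū.app (V k) (c.app (V k) y) :=
      fun y => congrArg (fun φ => Scheme.Modules.Hom.app φ (V k) y) hψ
    refine ⟨(injective_iff_map_eq_zero _).2 fun z hz => ?_, fun x => ?_⟩
    swap
    · obtain ⟨z, rfl⟩ := hus k x
      obtain ⟨y, rfl⟩ := (ConcreteCategory.bijective_of_isIso (c.app (V k))).2 z
      exact ⟨_, hψv y⟩
    obtain ⟨y, rfl⟩ := hcsurj z
    rw [hψv] at hz
    let L : Γ((Scheme.Modules.pullback g).obj M, V k) →ₗ[Γ(X, V k)] Γ((Scheme.Modules.pullback g₁).obj G, V k) :=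
      (appLin ((Scheme.Modules.pullback g₁).map π) (V k)).comp (appLin (inv c) (V k))
    have hc : ∀ y', L (c.app (V k) y') = ((Scheme.Modules.pullback g₁).map π).app (V k) y' := fun y' => by
      show ((Scheme.Modules.pullback g₁).map π).app (V k) ((inv c).app (V k) (c.app (V k) y')) = _
      exact congrArg _ (congrArg (fun φ => Scheme.Modules.Hom.app φ (V k) y') (IsIso.hom_inv_id c))
    rw [← hc]
    have hzero : Submodule.span Γ(X, V k) (K k : Set _) ≤ LinearMap.ker L := by
      rw [Submodule.span_le]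
      intro z hzK
      have hb : ∀ j, ∃ b₁ : Γ(X₁, U' k), g₁.appLE (U' k) (V k) (hle k) b₁ = b k z hzK j := by
        intro j
        have hsub : Subring.closure (Set.range (g.app (U k)) ∪
            (fun a => X.presheaf.map (homOfLE (le_top : g ⁻¹ᵁ U k ≤ ⊤)).op (Coh.toGlobal f a)) '' (t k z hzK j)) ≤
            (g₁.appLE (U' k) (V k) (hle k)).hom.range := by
          rw [Subring.closure_le]
          rintro _ (⟨r, rfl⟩ | ⟨a, ha, rfl⟩)
          · refine ⟨q.app (U k) r, ?_⟩
            show (q.app (U k) ≫ g₁.appLE (U' k) (V k) (hle k)) r = g.app (U k) r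
            rw [Scheme.Hom.app_eq_appLE, Scheme.Hom.appLE_comp_appLE, Scheme.Hom.app_eq_appLE]
            simp only [hg₁q]
            rfl
          · have ha₁ : a ∈ A₁ := by
              refine (le_sup_right : Algebra.adjoin ℤ (s : Set A) ≤ A₁) (Algebra.subset_adjoin ?_)
              exact Finset.mem_biUnion.2 ⟨k, Finset.mem_univ _, Finset.mem_biUnion.2
                ⟨⟨z, hzK⟩, Finset.mem_attach _ _, Finset.mem_biUnion.2 ⟨j, Finset.mem_univ _, ha⟩⟩⟩
            refine ⟨X₁.presheaf.map (homOfLE (le_top : U' k ≤ ⊤)).op (Coh.toGlobal f₁ (⟨a, ha₁⟩ : ↥A₁)), ?_⟩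
            show (X₁.presheaf.map (homOfLE (le_top : U' k ≤ ⊤)).op ≫ g₁.appLE (U' k) (V k) (hle k))
              (Coh.toGlobal f₁ (⟨a, ha₁⟩ : ↥A₁)) = _
            rw [Scheme.Hom.map_appLE]
            have e := toGlobal_comm f₁ f g₁ h₁.w (⟨a, ha₁⟩ : ↥A₁)
            refine Eq.trans ?_ (congrArg (X.presheaf.map (homOfLE (le_top : V k ≤ ⊤)).op) e).symm
            rfl
        exact hsub (ht k z hzK j)
      choose b₁ hb₁ using hb
      let y₁ : Γ(M₁, U' k) := ∑ j, b₁ j • pullSec q M (le_refl (U' k)) (m k z hzK j)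
      let y₂ : Γ((Scheme.Modules.pullback g₁).obj M₁, V k) := pullSec g₁ M₁ (hle k) y₁
      have hy₂ : c.app (V k) y₂ = z := by
        let P : Γ(M₁, U' k) →+ Γ((Scheme.Modules.pullback g).obj M, V k) :=
          AddMonoidHom.mk' (fun y => c.app (V k) (pullSec g₁ M₁ (hle k) y))
            fun y y' => by rw [pullSec_add, map_add]
        show P y₁ = z
        refine Eq.trans ?_ (hbm k z hzK)
        refine (map_sum P _ _).trans ?_
        refine Finset.sum_congr rfl fun j _ => ?_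
        show c.app (V k) (pullSec g₁ M₁ (hle k) (b₁ j • pullSec q M le_rfl (m k z hzK j))) = _
        rw [pullSec_smul, Scheme.Modules.Hom.app_smul, hb₁]
        refine congrArg (b k z hzK j • ·) ?_
        refine (congrArg (((Scheme.Modules.pullbackCongr hg₁q).hom.app M).app (V k))
          (pullSec_comp g₁ q M le_rfl (hle k) (m k z hzK j))).trans ?_
        exact pullSec_congr hg₁q M _ _
      have hw₀ : i.app (U' k) (π.app (U' k) y₁) = 0 := by
        have h0 : ū.app (V k) z = 0 := by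
          have : z ∈ LinearMap.ker (appLin ū (V k)) := hK k ▸ Submodule.subset_span hzK
          exact this
        have h1 : i.app (U' k) (π.app (U' k) y₁) = w.app (U' k) y₁ :=
          congrArg (fun φ => Scheme.Modules.Hom.app φ (U' k) y₁) hπi
        refine h1.trans ?_
        have h2 := adjunct_app_pullSec g₁ w (hle k) y₁
        rw [Equiv.symm_apply_apply] at h2
        have h3 : F.presheaf.map (homOfLE (hle k)).op (show Γ(F, g₁ ⁻¹ᵁ U' k) from w.app (U' k) y₁) = 0 :=
          h2.symm.trans ((congrArg (ū.app (V k)) hy₂).trans h0)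
        have he : g₁ ⁻¹ᵁ U' k ≤ V k := by rw [← Scheme.Hom.comp_preimage, hg₁q]
        have h4 : F.presheaf.map (homOfLE he).op (F.presheaf.map (homOfLE (hle k)).op
            (show Γ(F, g₁ ⁻¹ᵁ U' k) from w.app (U' k) y₁)) = (show Γ(F, g₁ ⁻¹ᵁ U' k) from w.app (U' k) y₁) :=
          (QCoh.map_map _ _ _).trans (QCoh.map_id' _ _)
        exact h4.symm.trans ((congrArg (F.presheaf.map (homOfLE he).op) h3).trans (map_zero _))
      show L z = 0
      rw [← hy₂, hc]
      refine (pullSec_natural g₁ π (hle k) y₁).trans ?_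
      rw [(QCoh.app_injective i (U' k)) (hw₀.trans (map_zero _).symm)]
      exact map_zero (AddMonoidHom.mk' (pullSec g₁ G (hle k)) (pullSec_add g₁ G (hle k)))
    exact hzero ((hK k).symm ▸ LinearMap.mem_ker.2 hz)
  haveI : IsIso ψ := isIso_of_bijective_cover hGp hF ψ V hV hcovV hbij
  exact ⟨A₁, hA₁, X₁, f₁, g₁, G, MorphismProperty.of_isPullback hq inferInstance,
    MorphismProperty.of_isPullback hq inferInstance, h₁, hG, hGft, ⟨asIso ψ⟩⟩

end Groth.Agent.CohPullLib
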