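import Groth.Agent.QCoh.LocalExchange
import Groth.Agent.FlatCxLib.TFunctor
import Groth.Agent.FlatCxLib.Reduced
import Mathlib.Algebra.Module.FinitePresentation
import Mathlib.RingTheory.Flat.EquationalCriterion

/-!
# Exchange at a point for finite free complexes over arbitrary rings
-/

set_option backward.isDefEq.respectTransparency false
set_option backward.isDefEq.respectTransparency.types false
set_option linter.style.haveILetI false

universe u

open CategoryTheory CategoryTheory.Limits TensorProduct

namespace Groth.Agent.CohPullLib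

open Groth.Agent.QCoh Groth.Agent.FlatCxLib

variable {A : Type u} [CommRing A] {P : ChainComplex (ModuleCat.{u} A) ℤ}

theorem bijective_tM_of_preservesEpi (hP : ∀ i, Module.Flat A (P.X i)) {q : ℤ}
    (h : (CohIII.TFun P q).PreservesEpimorphisms) (M : ModuleCat.{u} A) :
    Function.Bijective (tM (CohIII.TFun P q) M) := by
  haveI := preservesColimitsOfShape_tfun P q
  have hs : ∀ N, Function.Surjective (tM (CohIII.TFun P q) N) :=
    surjective_tM_of_epi _ fun g hg => @Functor.PreservesEpimorphisms.preserves _ _ _ _ _ h _ _ g hg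
  exact ⟨injective_tM_of_halfExact _ (halfExact_tfun hP q) hs M, hs M⟩

theorem finitePresentation_coker (hfin : ∀ i, Module.Finite A (P.X i)) (hfree : ∀ i, Module.Free A (P.X i))
    (p q : ℤ) : Module.FinitePresentation A (Coker P p q) := by
  haveI := hfin p
  haveI := hfin q
  haveI := hfree q
  haveI : Module.FinitePresentation A (P.X q) := Module.finitePresentation_of_projective A _
  refine Module.finitePresentation_of_surjective (LinearMap.range (P.d p q).hom).mkQ
    (Submodule.mkQ_surjective _) ?_
  rw [Submodule.ker_mkQ]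
  exact Submodule.FG.of_finite

theorem surjective_tM_residue_of_field (T : ModuleCat.{u} A ⥤ ModuleCat.{u} A) [T.Additive] [T.Linear A]
    {k : Type u} [Field k] [Algebra A k] (x : PrimeSpectrum A) (hx : RingHom.ker (algebraMap A k) = x.asIdeal)
    (h : Function.Surjective (tM T (ModuleCat.of A k))) :
    Function.Surjective (tM T (ModuleCat.of A x.asIdeal.ResidueField)) := by
  let κ := x.asIdeal.ResidueField
  have h1 : x.asIdeal ≤ RingHom.ker (algebraMap A k) := hx.ge
  have h2 : x.asIdeal.primeCompl ≤ (IsUnit.submonoid k).comap (algebraMap A k) :=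
    fun a ha => isUnit_iff_ne_zero.2 fun h => ha (hx ▸ (RingHom.mem_ker).2 h)
  let ι : κ →+* k := Ideal.ResidueField.lift x.asIdeal (algebraMap A k) h1 h2
  letI : Algebra κ k := ι.toAlgebra
  haveI : IsScalarTower A κ k := IsScalarTower.of_algebraMap_eq fun a =>
    (Ideal.ResidueField.lift_algebraMap (I := x.asIdeal) (algebraMap A k) h1 h2 a).symm
  obtain ⟨r, hr⟩ := (Algebra.linearMap κ k).exists_leftInverse_of_injective
    (LinearMap.ker_eq_bot.2 ι.injective)
  let i : ModuleCat.of A κ ⟶ ModuleCat.of A k := ModuleCat.ofHom ((Algebra.linearMap κ k).restrictScalars A)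
  let π : ModuleCat.of A k ⟶ ModuleCat.of A κ := ModuleCat.ofHom (r.restrictScalars A)
  have hiπ : i ≫ π = 𝟙 _ := ModuleCat.hom_ext (LinearMap.ext fun c => LinearMap.congr_fun hr c)
  intro y
  obtain ⟨w, hw⟩ := h ((T.map i).hom y)
  refine ⟨π.hom.lTensor _ w, ?_⟩
  refine (ConcreteCategory.congr_hom ((tNat T).naturality π) w).trans ?_
  refine (congrArg (T.map π).hom hw).trans ?_
  rw [← ConcreteCategory.comp_apply, ← T.map_comp, hiπ, T.map_id]
  rfl

variable (hfin : ∀ i, Module.Finite A (P.X i)) (hfree : ∀ i, Module.Free A (P.X i))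

include hfin hfree in
/-- Surjectivity at the residue field makes the next cokernel free near the point. -/
theorem exists_free_coker_nhd {p r : ℤ} (hrp : r + 1 = p) (x : PrimeSpectrum A)
    (h : Function.Surjective (tM (CohIII.TFun P p) (ModuleCat.of A x.asIdeal.ResidueField))) :
    ∃ a ∉ x.asIdeal, Module.Free (Localization.Away a) (Localization.Away a ⊗[A] Coker P p r) := by
  let T := CohIII.TFun P p
  let R := Localization.AtPrime x.asIdeal
  let φ := algebraMap A R
  have hfl : ∀ i, Module.Flat A (P.X i) := fun i => @Module.Flat.of_free _ _ _ _ _ (hfree i)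
  let P' := locCx P x
  haveI : ∀ i, Module.Finite R (P'.X i) := finite_bcCx_X_aux P φ hfin
  haveI := preservesColimitsOfShape_tfun P p
  let l : ModuleCat.of R R ⟶ ModuleCat.of R (IsLocalRing.ResidueField R) :=
    ModuleCat.ofHom (Algebra.linearMap R (IsLocalRing.ResidueField R))
  let l' := (ModuleCat.restrictScalars φ).map l
  have hl : Function.Surjective ((CohIII.TFun P p).map l').hom := by
    intro y
    let j : ModuleCat.of A x.asIdeal.ResidueField ≅ (ModuleCat.restrictScalars φ).obj
        (ModuleCat.of R (IsLocalRing.ResidueField R)) :=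
      (show (ModuleCat.of A x.asIdeal.ResidueField : Type u) ≃ₗ[A] ((ModuleCat.restrictScalars φ).obj
          (ModuleCat.of R (IsLocalRing.ResidueField R)) : Type u) from
        { toFun := fun z => z, invFun := fun z => z, left_inv := fun _ => rfl, right_inv := fun _ => rfl,
          map_add' := fun _ _ => rfl,
          map_smul' := fun a z => (Algebra.smul_def (A := x.asIdeal.ResidueField) a z).trans rfl }).toModuleIso
    obtain ⟨z, hz⟩ := h ((CohIII.TFun P p).map j.inv |>.hom y)
    have hls : Function.Surjective l'.hom := fun c => IsLocalRing.residue_surjective (R := R) c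
    obtain ⟨w, hw⟩ : ∃ w, j.hom.hom.lTensor _ z = l'.hom.lTensor (T.obj (ModuleCat.of A A)) w :=
      ⟨_, (LinearMap.lTensor_surjective (T.obj (ModuleCat.of A A))
        hls (j.hom.hom.lTensor _ z)).choose_spec.symm⟩
    refine ⟨tM T _ w, ?_⟩
    refine (ConcreteCategory.congr_hom ((tNat T).naturality l') w).symm.trans ?_
    refine (congrArg (tM T _) hw.symm).trans ?_
    refine (ConcreteCategory.congr_hom ((tNat T).naturality j.hom) z).trans ?_
    refine (congrArg (T.map j.hom).hom hz).trans ?_
    rw [← ConcreteCategory.comp_apply, ← T.map_comp, j.inv_hom_id, T.map_id]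
    rfl
  have hl' : Function.Surjective ((CohIII.TFun P' p).map l).hom := by
    obtain ⟨e⟩ := nonempty_bcT_iso P φ p
    intro y
    obtain ⟨z, hz⟩ := hl ((e.app _).addCommGroupIsoToAddEquiv y)
    refine ⟨(e.app _).addCommGroupIsoToAddEquiv.symm z, (e.app _).addCommGroupIsoToAddEquiv.injective ?_⟩
    refine (ConcreteCategory.congr_hom (e.hom.naturality l) _).trans (Eq.trans ?_ hz)
    exact congrArg ((CohIII.TFun P p).map l').hom ((e.app _).addCommGroupIsoToAddEquiv.apply_symm_apply z)
  haveI := free_coker_of_surjective_residue (flat_bcCx_X P hfl) hrp hl'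
  haveI hW := finitePresentation_coker (P := P) hfin hfree p r
  haveI : Module.Flat R (R ⊗[A] Coker P p r) := (flat_coker_bcCx_iff P p r).1 inferInstance
  haveI : Module.Free R (R ⊗[A] Coker P p r) := Module.free_of_flat_of_isLocalRing
  haveI : IsLocalizedModule x.asIdeal.primeCompl (TensorProduct.mk A R (Coker P p r) 1) :=
    (isLocalizedModule_iff_isBaseChange x.asIdeal.primeCompl R _).2 (TensorProduct.isBaseChange A _ R)
  obtain ⟨a, ha, hfr, -⟩ := Module.FinitePresentation.exists_free_localizedModule_powers
    x.asIdeal.primeCompl (TensorProduct.mk A R (Coker P p r) 1) R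
  exact ⟨a, ha, Module.Free.of_equiv (LocalizedModule.equivTensorProduct (Submonoid.powers a) (Coker P p r))⟩

end Groth.Agent.CohPullLib
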