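import Groth.Agent.CohPullLib.ModelExchange

/-!
# Base change near a point
-/

set_option backward.isDefEq.respectTransparency false
set_option backward.isDefEq.respectTransparency.types false
set_option linter.style.haveILetI false
set_option maxRecDepth 4000
set_option maxHeartbeats 1000000

universe u

open CategoryTheory CategoryTheory.Limits AlgebraicGeometry TopologicalSpace Opposite
open scoped TensorProduct

namespace Groth.Agent.CohPullLib

open Groth.Agent.QCoh Groth.Agent.FlatCxLib

section Point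

variable {S : Scheme.{u}}

theorem isField_Γ_residue (s : S) : IsField Γ(Spec (S.residueField s), ⊤) :=
  MulEquiv.isField (Field.toIsField (S.residueField s))
    (Scheme.ΓSpecIso (S.residueField s)).commRingCatIsoToRingEquiv.toMulEquiv

theorem top_le_preimage_residue {s : S} {V : S.Opens} (hs : s ∈ V) :
    (⊤ : (Spec (S.residueField s)).Opens) ≤ S.fromSpecResidueField s ⁻¹ᵁ V := fun z _ => by
  show S.fromSpecResidueField s z ∈ V
  rwa [Scheme.fromSpecResidueField_apply]

theorem ker_appLE_residue {s : S} {V : S.Opens} (hV : IsAffineOpen V) (hs : s ∈ V) :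
    RingHom.ker ((S.fromSpecResidueField s).appLE V ⊤ (top_le_preimage_residue hs)).hom =
      (hV.primeIdealOf ⟨s, hs⟩).asIdeal := by
  letI := (isField_Γ_residue s).toField
  let g := S.fromSpecResidueField s
  ext a
  rw [RingHom.mem_ker, ← not_iff_not, ← mem_basicOpen_iff_notMem hV hs a]
  have h := Scheme.basicOpen_appLE g ⊤ V (top_le_preimage_residue hs) a
  rw [top_inf_eq] at h
  let z : Spec (S.residueField s) := IsLocalRing.closedPoint (S.residueField s)
  have hz : g z = s := Scheme.fromSpecResidueField_apply _ _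
  constructor
  · intro hne
    have hu : IsUnit (g.appLE V ⊤ (top_le_preimage_residue hs) a) := isUnit_iff_ne_zero.2 hne
    have h2 : z ∈ g ⁻¹ᵁ S.basicOpen a := by
      rw [← h, Scheme.basicOpen_of_isUnit _ hu]
      trivial
    rw [← hz]
    exact h2
  · intro hmem h0
    have h2 : z ∈ g ⁻¹ᵁ S.basicOpen a := by
      show g z ∈ S.basicOpen a
      rwa [hz]
    rw [← h, show g.appLE V ⊤ (top_le_preimage_residue hs) a = 0 from h0, Scheme.basicOpen_zero] at h2
    exact h2

end Point

section Family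

variable {X S : Scheme.{u}} {f : X ⟶ S} [IsProper f] [LocallyOfFinitePresentation f] {F : X.Modules}

omit [LocallyOfFinitePresentation f] in
theorem exchAt_of_surjective_field (hF : Coh.IsQCoh F) {V : S.Opens} {hV : IsAffineOpen V}
    {P : ChainComplex (ModuleCat.{u} Γ(S, V)) ℤ} (hP : IsModel f F hV P) (p : ℕ) {s : S} (hs : s ∈ V)
    {k : Type u} [Field k] [Algebra Γ(S, V) k]
    (hk : RingHom.ker (algebraMap Γ(S, V) k) = (hV.primeIdealOf ⟨s, hs⟩).asIdeal)
    (h : Function.Surjective (tM (CohIII.TFun P (-(p : ℤ))) (ModuleCat.of Γ(S, V) k))) :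
    ExchAt f F p s := by
  let x := hV.primeIdealOf ⟨s, hs⟩
  have hr : -(p : ℤ) - 1 + 1 = -(p : ℤ) := by lia
  obtain ⟨a, ha, hfree⟩ := exists_free_coker_nhd hP.1 hP.2.1 hr x
    (surjective_tM_residue_of_field (CohIII.TFun P (-(p : ℤ))) x hk h)
  have hV' := hV.basicOpen a
  have hle : S.basicOpen a ≤ V := S.basicOpen_le a
  refine ⟨_, hV', _, (mem_basicOpen_iff_notMem hV hs a).2 ha, hP.of_le hF hV' hle, ?_⟩
  haveI := hV.isLocalization_basicOpen a
  let e : Localization.Away a ≃ₐ[Γ(S, V)] Γ(S, S.basicOpen a) :=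
    IsLocalization.algEquiv (Submonoid.powers a) _ _
  refine (preservesEpi_iff (flat_bcCx_X P hP.flat) hr).2 ((flat_coker_bcCx_iff P _ _).2 ?_)
  letI : Algebra (Localization.Away a) Γ(S, S.basicOpen a) := e.toAlgHom.toRingHom.toAlgebra
  haveI : IsScalarTower Γ(S, V) (Localization.Away a) Γ(S, S.basicOpen a) :=
    IsScalarTower.of_algebraMap_eq fun r => (e.commutes r).symm
  haveI := hfree
  haveI : Module.Flat Γ(S, S.basicOpen a) (Γ(S, S.basicOpen a) ⊗[Localization.Away a]
      (Localization.Away a ⊗[Γ(S, V)] Coker P (-(p : ℤ)) (-(p : ℤ) - 1))) := inferInstance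
  exact Module.Flat.of_linearEquiv
    (TensorProduct.AlgebraTensorModule.cancelBaseChange Γ(S, V) (Localization.Away a) Γ(S, S.basicOpen a)
      Γ(S, S.basicOpen a) _).symm

omit [LocallyOfFinitePresentation f] in
theorem exists_exchAt_of_surjective (hF : Coh.IsQCoh F) {V : S.Opens} {hV : IsAffineOpen V}
    {P : ChainComplex (ModuleCat.{u} Γ(S, V)) ℤ} (hP : IsModel f F hV P) (p : ℕ) {s : S} (hs : s ∈ V)
    (h : letI : Algebra Γ(S, V) Γ(Spec (S.residueField s), ⊤) :=
        ((S.fromSpecResidueField s).appLE V ⊤ (top_le_preimage_residue hs)).hom.toAlgebra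
      Function.Surjective (tM (CohIII.TFun P (-(p : ℤ))) (ModuleCat.of Γ(S, V) Γ(Spec (S.residueField s), ⊤)))) :
    ExchAt f F p s :=
  letI := (isField_Γ_residue s).toField
  letI : Algebra Γ(S, V) Γ(Spec (S.residueField s), ⊤) :=
    ((S.fromSpecResidueField s).appLE V ⊤ (top_le_preimage_residue hs)).hom.toAlgebra
  exchAt_of_surjective_field hF hP p hs (ker_appLE_residue hV hs) h

variable [HasInjectiveResolutions X.Modules] {Δ : RDer.DerivedLES (Scheme.Modules.pushforward f)}
  {E : CohCmp.SectCmp f Δ}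

section Square

variable {X' S' : Scheme.{u}} {g : S' ⟶ S} {f' : X' ⟶ S'} {g' : X' ⟶ X}
  [HasInjectiveResolutions X'.Modules] {Δ' : RDer.DerivedLES (Scheme.Modules.pushforward f')}
  {E' : CohCmp.SectCmp f' Δ'}

omit [LocallyOfFinitePresentation f] in
/-- Base change over the locus of exchange. -/
theorem isIso_bc_of_exchAt (h : IsPullback g' f' f g) (B : CohCmp.GenBC f g f' g' h.w E E')
    (hF : Coh.IsQCoh F) (p : ℕ) (hg : ∀ z : S', ExchAt f F p (g z)) : IsIso (B.bc p F) := by
  haveI : QuasiCompact f' := MorphismProperty.of_isPullback h inferInstance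
  haveI : QuasiSeparated f' := MorphismProperty.of_isPullback h inferInstance
  choose V hV P hz hP hepi using hg
  have hW := fun z : S' => exists_isAffineOpen_mem_and_subset (x := z) (U := g ⁻¹ᵁ V z) (hz z)
  choose W hWaff hzW hle using hW
  refine isIso_of_bijective_cover (isQCoh_pullback g (isQCoh_Rpush f hF p))
    (isQCoh_Rpush f' (isQCoh_pullback g' hF) p) (B.bc p F) W hWaff (fun z => ⟨z, hzW z⟩) fun z => ?_
  letI : (f ⁻¹ᵁ V z).toScheme.Over (Spec (CommRingCat.of Γ(S, V z))) := ⟨secπ f (hV z) le_rfl⟩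
  obtain ⟨e⟩ := (hP z).2.2.2.2 p
  obtain ⟨a, b, hab⟩ := exists_bc_app_comparison h B p hF (hV z) (hWaff z) (hle z) _ e
  letI : Algebra Γ(S, V z) Γ(S', W z) := (g.appLE (V z) (W z) (hle z)).hom.toAlgebra
  rw [show ⇑((B.bc p F).app (W z)) = b ∘ tM _ _ ∘ a from funext hab]
  exact b.bijective.comp ((bijective_tM_of_preservesEpi (hP z).flat (hepi z) _).comp a.bijective)

end Square

variable {s : S} [HasInjectiveResolutions (f.fiber s).Modules]
  {Δs : RDer.DerivedLES (Scheme.Modules.pushforward (f.fiberToSpecResidueField s))}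
  {Es : CohCmp.SectCmp (f.fiberToSpecResidueField s) Δs}

theorem exchAt_of_epi_fibre (hF : Coh.IsQCoh F) (hfp : CohB1.IsFP F) (hfl : FlatMod.IsFlatOver f F)
    (Bs : CohCmp.GenBC f (S.fromSpecResidueField s) (f.fiberToSpecResidueField s) (f.fiberι s) (f.fiber_fac s) E Es)
    (p : ℕ) (h : Epi (Bs.bc p F)) : ExchAt f F p s := by
  obtain ⟨V, hV, P, hs, -, hP⟩ := exists_isModel_nhd (f := f) hF hfp hfl (show s ∈ (⊤ : S.Opens) from trivial)
  have hsq : IsPullback (f.fiberι s) (f.fiberToSpecResidueField s) f (S.fromSpecResidueField s) :=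
    IsPullback.of_hasPullback _ _
  haveI : QuasiCompact (f.fiberToSpecResidueField s) := MorphismProperty.of_isPullback hsq inferInstance
  haveI : QuasiSeparated (f.fiberToSpecResidueField s) := MorphismProperty.of_isPullback hsq inferInstance
  letI : (f ⁻¹ᵁ V).toScheme.Over (Spec (CommRingCat.of Γ(S, V))) := ⟨secπ f hV le_rfl⟩
  obtain ⟨e⟩ := hP.2.2.2.2 p
  obtain ⟨a, b, hab⟩ := exists_bc_app_comparison hsq Bs p hF hV (isAffineOpen_top _) (top_le_preimage_residue hs) _ e
  refine exists_exchAt_of_surjective hF hP p hs fun y => ?_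
  haveI := h
  obtain ⟨z, hz⟩ := app_surjective_of_epi (isQCoh_pullback _ (isQCoh_Rpush f hF p))
    (isQCoh_Rpush _ (isQCoh_pullback _ hF) p) (Bs.bc p F) (isAffineOpen_top _) (b y)
  exact ⟨a z, b.injective ((hab z).symm.trans hz)⟩

theorem epi_fibre_of_exchAt (hF : Coh.IsQCoh F)
    (Bs : CohCmp.GenBC f (S.fromSpecResidueField s) (f.fiberToSpecResidueField s) (f.fiberι s) (f.fiber_fac s) E Es)
    (p : ℕ) (h : ExchAt f F p s) : Epi (Bs.bc p F) := by
  have hsq : IsPullback (f.fiberι s) (f.fiberToSpecResidueField s) f (S.fromSpecResidueField s) :=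
    IsPullback.of_hasPullback _ _
  have := isIso_bc_of_exchAt hsq Bs hF p fun z => by
    rwa [Scheme.fromSpecResidueField_apply]
  infer_instance

theorem epi_fibre_iff_exchAt (hF : Coh.IsQCoh F) (hfp : CohB1.IsFP F) (hfl : FlatMod.IsFlatOver f F)
    (Bs : CohCmp.GenBC f (S.fromSpecResidueField s) (f.fiberToSpecResidueField s) (f.fiberι s) (f.fiber_fac s) E Es)
    (p : ℕ) : Epi (Bs.bc p F) ↔ ExchAt f F p s :=
  ⟨exchAt_of_epi_fibre hF hfp hfl Bs p, epi_fibre_of_exchAt hF Bs p⟩

end Family

end Groth.Agent.CohPullLib
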