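import Groth.Agent.CohPullLib.LocalBij

/-!
# The comparison maps are bijective on affine opens
-/

set_option backward.isDefEq.respectTransparency false
set_option backward.isDefEq.respectTransparency.types false
set_option linter.style.haveILetI false
set_option maxRecDepth 4000

universe u

open CategoryTheory CategoryTheory.Limits CategoryTheory.Abelian AlgebraicGeometry TopologicalSpace Opposite

namespace Groth.Agent.CohPullLib

variable {X Y : Scheme.{u}}

theorem mapH_sectH0 {F G : X.Modules} (φ : F ⟶ G) (U : X.Opens) (s : Γ(F, U)) :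
    CohPull.mapH ((Scheme.Modules.restrictFunctor U.ι).map φ) 0 (CohPull.sectH0 F U s) =
      CohPull.sectH0 G U (φ.app U s) := by
  rw [sectH0_eq, sectH0_eq]
  refine (Sheaf.H.equiv₀_symm_naturality (isTerminalTop : IsTerminal (⊤ : U.toScheme.Opens)) _ _).trans ?_
  refine congrArg _ ?_
  exact QCoh.map_app_comm φ (homOfLE U.ι_image_top.le) s

theorem extδ_injective_of_flasque {S : ShortComplex X.Modules} (h₂ : QCoh.IsFlasqueMod S.X₂) {U : X.Opens}
    (hA : (S.map (CohCmp.toAbOn X U)).ShortExact) (p : ℕ) :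
    Function.Injective (CohCmp.extδ hA (p + 1)) := by
  refine (injective_iff_map_eq_zero _).2 fun x hx => ?_
  obtain ⟨z, hz⟩ := Ext.covariant_sequence_exact₃
    (CohTop.const U.toScheme.toPresheafedSpace.carrier (ULift.{u} ℤ)) hA x rfl hx
  exact hz.symm.trans ((congrArg (fun t => Ext.comp t _ (add_zero (p + 1)))
    ((subsingleton_HHon_of_isFlasqueMod S.X₂ h₂ U p).elim z 0)).trans (Ext.zero_comp _ _ _ _ _))

theorem extδ_surjective_of_flasque {S : ShortComplex X.Modules} (h₂ : QCoh.IsFlasqueMod S.X₂) {U : X.Opens}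
    (hA : (S.map (CohCmp.toAbOn X U)).ShortExact) (p : ℕ) :
    Function.Surjective (CohCmp.extδ hA p) := fun x => by
  obtain ⟨y, hy⟩ := Ext.covariant_sequence_exact₁ _ hA x
    ((subsingleton_HHon_of_isFlasqueMod S.X₂ h₂ U p).elim _ _) rfl
  exact ⟨y, hy⟩

variable {f : X ⟶ Y} [HasInjectiveResolutions X.Modules]
  {Δ : RDer.DerivedLES (Scheme.Modules.pushforward f)} (E : CohCmp.SectCmp f Δ)

include E

theorem bijective_succ_of_flasque {S : ShortComplex X.Modules} (hS : S.ShortExact)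
    (h₂ : QCoh.IsFlasqueMod S.X₂) (V : Y.Opens) (p : ℕ) (h : Function.Bijective (E.ε V S.X₃ (p + 1))) :
    Function.Bijective (E.ε V S.X₁ (p + 1 + 1)) := by
  have hA := toAbOn_shortExact hS (f ⁻¹ᵁ V)
  haveI : Epi (Δ.δ S hS (p + 1) (p + 1 + 1) rfl) :=
    (Δ.exact₁ S hS (p + 1) (p + 1 + 1) rfl).epi_f ((QCoh.isZero_Rpush_of_flasque f _ h₂ (p + 1)).eq_of_tgt _ _)
  haveI : Mono (Δ.δ S hS (p + 1) (p + 1 + 1) rfl) :=
    (Δ.exact₃ S hS (p + 1) (p + 1 + 1) rfl).mono_g ((QCoh.isZero_Rpush_of_flasque f _ h₂ p).eq_of_src _ _)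
  haveI := isIso_of_mono_of_epi (Δ.δ S hS (p + 1) (p + 1 + 1) rfl)
  have hb : Function.Bijective ((Δ.δ S hS (p + 1) (p + 1 + 1) rfl).app V) :=
    ConcreteCategory.bijective_of_isIso _
  have hd : Function.Bijective (CohCmp.extδ hA (p + 1)) :=
    ⟨extδ_injective_of_flasque h₂ hA p, extδ_surjective_of_flasque h₂ hA (p + 1)⟩
  have e : (fun x => E.ε V S.X₁ (p + 1 + 1) (CohCmp.extδ hA (p + 1) x)) =
      fun x => (Δ.δ S hS (p + 1) (p + 1 + 1) rfl).app V (E.ε V S.X₃ (p + 1) x) :=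
    funext (E.delta V S hS hA (p + 1))
  have h' : Function.Bijective fun x => E.ε V S.X₁ (p + 1 + 1) (CohCmp.extδ hA (p + 1) x) :=
    e.symm ▸ hb.comp h
  exact (Function.Bijective.of_comp_iff _ hd).1 h'

theorem bijective_one_of_locRange {S : ShortComplex X.Modules} (hS : S.ShortExact)
    (h₂ : QCoh.IsFlasqueMod S.X₂) (hL : QCoh.LocRange ((Scheme.Modules.pushforward f).map S.g))
    {V : Y.Opens} (hV : IsAffineOpen V) : Function.Bijective (E.ε V S.X₁ 1) := by
  haveI := SpObjSS.enoughInjectives_of_hasInjectiveResolutions (C := X.Modules)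
  haveI := QCoh.preservesFiniteLimits_push f
  let η := (Scheme.Modules.pushforward f).toRightDerivedZero
  haveI : IsIso η := inferInstance
  let α := (Scheme.Modules.pushforward f).map S.g
  let d := η.app S.X₃ ≫ Δ.δ S hS 0 1 rfl
  haveI : Epi (Δ.δ S hS 0 1 rfl) :=
    (Δ.exact₁ S hS 0 1 rfl).epi_f ((QCoh.isZero_Rpush_of_flasque f _ h₂ 0).eq_of_tgt _ _)
  have hw : α ≫ d = 0 := by
    rw [← Category.assoc, η.naturality S.g, Category.assoc, Δ.comp_δ, comp_zero]
  have hex : (ShortComplex.mk α d hw).Exact := by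
    refine (ShortComplex.exact_iff_of_iso ?_).2 (Δ.exact₃ S hS 0 1 rfl)
    exact ShortComplex.isoMk (asIso (η.app S.X₂)) (asIso (η.app S.X₃)) (Iso.refl _)
      (η.naturality S.g).symm (Category.comp_id _).symm
  haveI : Epi d := inferInstance
  obtain ⟨c, hc⟩ : ∃ c : cokernel α ≅ (Coh.Rpush f 1).obj S.X₁, cokernel.π α ≫ c.hom = d :=
    ⟨(cokernelIsCokernel α).coconePointUniqueUpToIso hex.gIsCokernel,
      (cokernelIsCokernel α).comp_coconePointUniqueUpToIso_hom hex.gIsCokernel WalkingParallelPair.one⟩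
  have hd : ∀ v : Γ(S.X₃, f ⁻¹ᵁ V), d.app V v = c.hom.app V ((cokernel.π α).app V v) := fun v =>
    congrArg (fun ψ => Scheme.Modules.Hom.app ψ V v) hc.symm
  have hA := toAbOn_shortExact hS (f ⁻¹ᵁ V)
  have hε : ∀ v : Γ(S.X₃, f ⁻¹ᵁ V),
      E.ε V S.X₁ 1 (CohCmp.extδ hA 0 (CohPull.sectH0 S.X₃ (f ⁻¹ᵁ V) v)) = d.app V v := fun v => by
    rw [E.delta V S hS hA 0, E.zero]
    rfl
  have hcb : Function.Bijective (c.hom.app V) := ConcreteCategory.bijective_of_isIso _
  refine ⟨(injective_iff_map_eq_zero _).2 fun x hx => ?_, fun t => ?_⟩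
  · obtain ⟨y, rfl⟩ := extδ_surjective_of_flasque h₂ hA 0 x
    obtain ⟨v, rfl⟩ := (CohPull.sectH0 S.X₃ (f ⁻¹ᵁ V)).surjective y
    rw [hε, hd, ← map_zero (c.hom.app V).hom] at hx
    obtain ⟨b, hb⟩ := hL.mem_range hV v (hcb.1 hx)
    obtain rfl : S.g.app (f ⁻¹ᵁ V) b = v := hb
    rw [← mapH_sectH0 S.g]
    exact extδ_mapH hA 0 _
  · obtain ⟨u, rfl⟩ := hcb.2 t
    obtain ⟨v, rfl⟩ := hL.surjective hV u
    exact ⟨_, (hε v).trans (hd v)⟩

theorem eps_bijective_of_isAffineOpen [QuasiCompact f] [QuasiSeparated f] {F : X.Modules} (hF : Coh.IsQCoh F)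
    {V : Y.Opens} (hV : IsAffineOpen V) : ∀ p : ℕ, Function.Bijective (E.ε V F p) := by
  suffices h : ∀ (p k : ℕ), Function.Bijective (E.ε V (QCoh.godQ F k) (p + 1)) by
    intro p
    cases p with
    | zero => exact eps_zero_bijective E F V
    | succ p => exact h p 0
  intro p
  induction p with
  | zero =>
    exact fun k => bijective_one_of_locRange E (QCoh.godSES_shortExact F k) (QCoh.isFlasqueMod_God _)
      (QCoh.locRange_rpushModel f hF k) hV
  | succ p ih =>
    exact fun k => bijective_succ_of_flasque E (QCoh.godSES_shortExact F k) (QCoh.isFlasqueMod_God _) V p (ih (k + 1))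

end Groth.Agent.CohPullLib
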