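import Groth.Agent.CohPullLib.ResPab

/-!
# Composition of pullbacks of cohomology classes
-/

set_option backward.isDefEq.respectTransparency false
set_option backward.isDefEq.respectTransparency.types false
set_option maxRecDepth 4000

universe u

open CategoryTheory AlgebraicGeometry TopologicalSpace Opposite

namespace Groth.Agent.CohPullLib

open Groth.Agent.QCoh Groth.Agent.ExistEasy

variable {X Y Z : Scheme.{u}}

theorem map_le_eq {T : TopCat.{u}} {h k : T ⟶ Z.toPresheafedSpace.carrier} (e : h = k) (V : Z.Opens) :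
    (Opens.map h).obj V ≤ (Opens.map k).obj V := e ▸ le_rfl

theorem pab_comp_le {T T' : TopCat.{u}} {T'' : TopCat.{u}} (f : T'' ⟶ T') (g : T' ⟶ T) {h : T'' ⟶ T}
    (e : h = f ≫ g) {A : CohTop.Ab T} {B : CohTop.Ab T'}
    {C : CohTop.Ab T''} (ψ : A ⟶ (CohTop.push g).obj B) (χ : B ⟶ (CohTop.push f).obj C)
    (θ : A ⟶ (CohTop.push h).obj C)
    (hθ : ∀ (V : Opens T) (hV : (Opens.map h).obj V ≤ (Opens.map f).obj ((Opens.map g).obj V))
      (s : A.obj.obj (op V)), θ.hom.app (op V) s =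
      C.obj.map (homOfLE hV).op (χ.hom.app (op ((Opens.map g).obj V)) (ψ.hom.app (op V) s)))
    (p : ℕ) (x : Sheaf.H A p) : pab f χ p (pab g ψ p x) = pab h θ p x := by
  refine pab_comp' f g e ψ χ θ (fun V s => ?_) p x
  have hV : (Opens.map h).obj V ≤ (Opens.map f).obj ((Opens.map g).obj V) := by rw [e]; exact le_rfl
  refine (hθ V hV s).trans ?_
  exact congrArg (fun i => C.obj.map i (χ.hom.app (op ((Opens.map g).obj V)) (ψ.hom.app (op V) s)))
    (Subsingleton.elim _ _)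

theorem pullSec_map (g : X ⟶ Y) (M : Y.Modules) {W W' : X.Opens} {V : Y.Opens} (hW : W' ≤ W)
    (hle : W ≤ g ⁻¹ᵁ V) (x : Γ(M, V)) :
    ((Scheme.Modules.pullback g).obj M).presheaf.map (homOfLE hW).op (pullSec g M hle x) =
      pullSec g M (hW.trans hle) x :=
  QCoh.map_map _ _ _

theorem restrict_map_pullSec (g : X ⟶ Y) (M : Y.Modules) {W : Scheme.{u}} (i : W ⟶ X) [IsOpenImmersion i]
    {O O' : W.Opens} (hO : O' ≤ O) {V : Y.Opens} (hle : i ''ᵁ O ≤ g ⁻¹ᵁ V) (hle' : i ''ᵁ O' ≤ g ⁻¹ᵁ V)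
    (x : Γ(M, V)) :
    (Coh.toAb (((Scheme.Modules.pullback g).obj M).restrict i)).obj.map (homOfLE hO).op
        (show Γ(((Scheme.Modules.pullback g).obj M).restrict i, O) from pullSec g M hle x) =
      (show Γ(((Scheme.Modules.pullback g).obj M).restrict i, O') from pullSec g M hle' x) :=
  pullSec_map g M (i.image_mono hO) hle x

set_option maxHeartbeats 400000 in
theorem mapH_pullOn_pullOn (f : X ⟶ Y) (g : Y ⟶ Z) (F : Z.Modules) (U : Z.Opens) (U' : Y.Opens) (U'' : X.Opens)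
    (h : U' ≤ g ⁻¹ᵁ U) (h' : U'' ≤ f ⁻¹ᵁ U') (h'' : U'' ≤ (f ≫ g) ⁻¹ᵁ U) (p : ℕ) (x : Coh.HHon Z F U p) :
    CohPull.mapH ((Scheme.Modules.restrictFunctor U''.ι).map ((Scheme.Modules.pullbackComp f g).hom.app F)) p
        (CohPull.pullOn f U' U'' h' ((Scheme.Modules.pullback g).obj F) p (CohPull.pullOn g U U' h F p x)) =
      CohPull.pullOn (f ≫ g) U U'' h'' F p x := by
  have e : ((f ≫ g).resLE U U'' h'') = f.resLE U' U'' h' ≫ g.resLE U U' h := by
    rw [Scheme.Hom.resLE_comp_resLE]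
  rw [pullOn_eq_pab, pullOn_eq_pab, pullOn_eq_pab]
  refine (pab_congr_map _ _ _ p _).trans ?_
  refine pab_comp_le _ _ (congrArg (fun t : U''.toScheme ⟶ U.toScheme => t.base) e) _ _ _ (fun V hV s => ?_) p x
  let j := f.resLE U' U'' h'
  let W := g.resLE U U' h ⁻¹ᵁ V
  let N := ((Scheme.Modules.pullback g).obj F)
  let φ := (Scheme.Modules.restrictFunctor U''.ι).map ((Scheme.Modules.pullbackComp f g).hom.app F)
  let t₀ : Γ(N.restrict U'.ι, W) := pullSec g F (resLE_image_le g U U' h V) (show Γ(F, U.ι ''ᵁ V) from s)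
  let u : Γ(((Scheme.Modules.pullback f).obj N).restrict U''.ι, j ⁻¹ᵁ W) :=
    pullSec f N (resLE_image_le f U' U'' h' W) (show Γ(N, U'.ι ''ᵁ W) from t₀)
  have hB := compPush_app j (pullOnMap f U' U'' h' N) φ W t₀
  have hC : (pullOnMap f U' U'' h' N).hom.app (op W) t₀ = u := pullOnMap_app f U' U'' h' N W t₀
  have hD : φ.app (j ⁻¹ᵁ W) u =
      (show Γ(((Scheme.Modules.pullback (f ≫ g)).obj F).restrict U''.ι, j ⁻¹ᵁ W) from
        pullSec (f ≫ g) F (V := U.ι ''ᵁ V) (fun y hy => resLE_image_le g U U' h V (resLE_image_le f U' U'' h' W hy)) (show Γ(F, U.ι ''ᵁ V) from s)) :=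
    pullSec_comp f g F (resLE_image_le g U U' h V) (resLE_image_le f U' U'' h' W) _
  have hBCD := hB.trans ((congrArg (φ.app (j ⁻¹ᵁ W)) hC).trans hD)
  have hA := pullOnMap_app g U U' h F V s
  refine Eq.trans ?_ (congrArg _ (congrArg ((pullOnMap f U' U'' h' N ≫ (CohTop.push j.base).map ((SheafOfModules.toSheaf U''.toScheme.ringCatSheaf).map φ)).hom.app (op W)) hA)).symm
  refine Eq.trans ?_ (congrArg _ hBCD).symm
  refine (pullOnMap_app (f ≫ g) U U'' h'' F V s).trans ?_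
  exact (restrict_map_pullSec (f ≫ g) F U''.ι hV _ _ _).symm

set_option maxHeartbeats 400000 in
theorem resLE_pullOn (g : X ⟶ Y) (F : Y.Modules) (U : Y.Opens) {U' U'' : X.Opens} (h : U' ≤ g ⁻¹ᵁ U)
    (h' : U'' ≤ U') (p : ℕ) (x : Coh.HHon Y F U p) :
    CohPull.resLE ((Scheme.Modules.pullback g).obj F) h' p (CohPull.pullOn g U U' h F p x) =
      CohPull.pullOn g U U'' (h'.trans h) F p x := by
  have e : (g.resLE U U'' (h'.trans h)) =
      (𝟙 X : X ⟶ X).resLE U' U'' (by rwa [Scheme.Hom.id_preimage]) ≫ g.resLE U U' h := by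
    rw [Scheme.Hom.resLE_comp_resLE]
    simp
  rw [pullOn_eq_pab, resLE_eq_pab, pullOn_eq_pab]
  refine pab_comp_le _ _ (congrArg (fun t : U''.toScheme ⟶ U.toScheme => t.base) e) _ _ _ (fun V hV s => ?_) p x
  let N := ((Scheme.Modules.pullback g).obj F)
  let W := g.resLE U U' h ⁻¹ᵁ V
  let j := (𝟙 X : X ⟶ X).resLE U' U'' (by rwa [Scheme.Hom.id_preimage])
  let t₀ : Γ(N.restrict U'.ι, W) := pullSec g F (resLE_image_le g U U' h V) (show Γ(F, U.ι ''ᵁ V) from s)
  have hle : U''.ι ''ᵁ (j ⁻¹ᵁ W) ≤ U'.ι ''ᵁ W := resLE_image_le (𝟙 X) U' U'' _ W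
  have hA := pullOnMap_app g U U' h F V s
  have hB := resMap_app N h' W t₀
  have hC : (show Γ(N.restrict U''.ι, j ⁻¹ᵁ W) from N.presheaf.map (homOfLE hle).op (show Γ(N, U'.ι ''ᵁ W) from t₀)) =
      (show Γ(N.restrict U''.ι, j ⁻¹ᵁ W) from pullSec g F (hle.trans (resLE_image_le g U U' h V))
        (show Γ(F, U.ι ''ᵁ V) from s)) :=
    pullSec_map g F hle _ _
  refine Eq.trans ?_ (congrArg _ (congrArg ((resMap N h').hom.app (op W)) hA)).symm
  refine Eq.trans ?_ (congrArg _ (hB.trans hC)).symm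
  refine (pullOnMap_app g U U'' (h'.trans h) F V s).trans ?_
  exact (restrict_map_pullSec g F U''.ι hV _ _ _).symm

end Groth.Agent.CohPullLib
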