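import Groth.Agent.CohPullLib.ResTrans
import Groth.Agent.QCoh.DevissageSum

/-!
# The comparison maps are locally bijective
-/

set_option backward.isDefEq.respectTransparency false
set_option backward.isDefEq.respectTransparency.types false
set_option linter.style.haveILetI false

universe u

open CategoryTheory CategoryTheory.Limits CategoryTheory.Abelian AlgebraicGeometry TopologicalSpace Opposite

namespace Groth.Agent.CohPullLib

variable {X Y : Scheme.{u}}

theorem exists_local_preimage {M N : X.Modules} (φ : M ⟶ N) [Epi φ] {U : X.Opens} (s : Γ(N, U)) {x : X}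
    (hx : x ∈ U) : ∃ (V : X.Opens) (hV : V ≤ U), x ∈ V ∧ ∃ t, φ.app V t = N.presheaf.map (homOfLE hV).op s := by
  haveI : Epi ((QCoh.toAbFunctor X).map φ) := (QCoh.toAbFunctor X).map_epi φ
  obtain ⟨V, hV, ⟨t, ht⟩, hxV⟩ := (TopCat.Presheaf.isLocallySurjective_iff _).1
    ((TopCat.Sheaf.isLocallySurjective_iff_epi (X := X.toPresheafedSpace.carrier)
      ((QCoh.toAbFunctor X).map φ)).2 inferInstance) U s x hx
  exact ⟨V, hV, hxV, t, ht⟩

theorem exists_local_preimage_of_exact {A B C : X.Modules} (a : A ⟶ B) (b : B ⟶ C) (w : a ≫ b = 0)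
    (h : (ShortComplex.mk a b w).Exact) {U : X.Opens} (s : Γ(B, U)) (hs : b.app U s = 0) {x : X} (hx : x ∈ U) :
    ∃ (V : X.Opens) (hV : V ≤ U), x ∈ V ∧ ∃ t, a.app V t = B.presheaf.map (homOfLE hV).op s := by
  obtain ⟨k, rfl⟩ := QCoh.exists_kernel_lift b U s hs
  haveI := (ShortComplex.exact_iff_epi_kernel_lift _).1 h
  obtain ⟨V, hV, hxV, t, ht⟩ := exists_local_preimage (kernel.lift b a w) k hx
  refine ⟨V, hV, hxV, t, ?_⟩
  have e : a.app V t = (kernel.ι b).app V ((kernel.lift b a w).app V t) :=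
    congrArg (fun ψ : A ⟶ B => ψ.app V t) (kernel.lift_ι b a w).symm
  rw [e, ht]
  exact QCoh.map_app_comm (kernel.ι b) (homOfLE hV) k

theorem extδ_mapH {S : ShortComplex X.Modules} {U : X.Opens}
    (hA : (S.map (CohCmp.toAbOn X U)).ShortExact) (p : ℕ) (z : Coh.HHon X S.X₂ U p) :
    CohCmp.extδ hA p (CohPull.mapH ((Scheme.Modules.restrictFunctor U.ι).map S.g) p z) = 0 := by
  show ((show Ext (CohTop.const U.toScheme.toPresheafedSpace.carrier (ULift.{u} ℤ))
      (S.map (CohCmp.toAbOn X U)).X₂ p from z).comp (Ext.mk₀ (S.map (CohCmp.toAbOn X U)).g) (add_zero p)).comp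
    hA.extClass rfl = 0
  rw [Ext.comp_assoc_of_second_deg_zero, hA.comp_extClass, Ext.comp_zero]

variable {f : X ⟶ Y} [HasInjectiveResolutions X.Modules]
  {Δ : RDer.DerivedLES (Scheme.Modules.pushforward f)} (E : CohCmp.SectCmp f Δ)

include E

theorem eps_zero_bijective (F : X.Modules) (V : Y.Opens) : Function.Bijective (E.ε V F 0) := by
  haveI := SpObjSS.enoughInjectives_of_hasInjectiveResolutions (C := X.Modules)
  haveI := QCoh.preservesFiniteLimits_push f
  haveI : IsIso ((Scheme.Modules.pushforward f).toRightDerivedZero.app F) := inferInstance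
  have hb : Function.Bijective (((Scheme.Modules.pushforward f).toRightDerivedZero.app F).app V) :=
    ConcreteCategory.bijective_of_isIso _
  have e : (fun s => E.ε V F 0 (CohPull.sectH0 F (f ⁻¹ᵁ V) s)) =
      fun s => ((Scheme.Modules.pushforward f).toRightDerivedZero.app F).app V s := funext (E.zero V F)
  replace hb : Function.Bijective (fun s => E.ε V F 0 (CohPull.sectH0 F (f ⁻¹ᵁ V) s)) := e.symm ▸ hb
  exact (Function.Bijective.of_comp_iff _ (CohPull.sectH0 F (f ⁻¹ᵁ V)).bijective).1 hb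

theorem locally_surjective (p : ℕ) : ∀ (F : X.Modules) (V : Y.Opens) (t : Γ((Coh.Rpush f p).obj F, V))
    (y : Y), y ∈ V → ∃ (W : Y.Opens) (hWV : W ≤ V), y ∈ W ∧
      ∃ x : Coh.HHon X F (f ⁻¹ᵁ W) p,
        E.ε W F p x = ((Coh.Rpush f p).obj F).presheaf.map (homOfLE hWV).op t := by
  induction p with
  | zero =>
    intro F V t y hy
    obtain ⟨x, hx⟩ := (eps_zero_bijective E F V).2 t
    exact ⟨V, le_rfl, hy, x, hx.trans (QCoh.map_id' _ _).symm⟩
  | succ p ih =>
    intro F V t y hy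
    obtain ⟨Q, C, a, b, w, hQ, hS⟩ := exists_injSES F
    let S := ShortComplex.mk a b w
    haveI : Injective S.X₂ := hQ
    have hz : IsZero ((Coh.Rpush f (p + 1)).obj S.X₂) :=
      (Scheme.Modules.pushforward f).isZero_rightDerived_obj_injective_succ p S.X₂
    haveI : Epi (Δ.δ S hS p (p + 1) rfl) := (Δ.exact₁ S hS p (p + 1) rfl).epi_f (hz.eq_of_tgt _ _)
    obtain ⟨W₁, hW₁, hy₁, u, hu⟩ := exists_local_preimage (Δ.δ S hS p (p + 1) rfl) t hy
    obtain ⟨W, hW, hyW, x, hx⟩ := ih C W₁ u y hy₁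
    have hA := toAbOn_shortExact hS (f ⁻¹ᵁ W)
    refine ⟨W, hW.trans hW₁, hyW, CohCmp.extδ hA p x, ?_⟩
    rw [E.delta W S hS hA, hx]
    refine (QCoh.map_app_comm (Δ.δ S hS p (p + 1) rfl) (homOfLE hW) u).trans ?_
    rw [hu]
    exact QCoh.map_map _ _ _

set_option maxHeartbeats 1200000 in
theorem locally_zero (p : ℕ) : ∀ (F : X.Modules) (V : Y.Opens) (x : Coh.HHon X F (f ⁻¹ᵁ V) p),
    E.ε V F p x = 0 → ∀ y ∈ V, ∃ (W : Y.Opens) (hWV : W ≤ V), y ∈ W ∧
      CohPull.resLE F (f.preimage_mono hWV) p x = 0 := by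
  induction p with
  | zero =>
    intro F V x hx y hy
    rw [← map_zero (E.ε V F 0)] at hx
    obtain rfl := (eps_zero_bijective E F V).1 hx
    exact ⟨V, le_rfl, hy, map_zero _⟩
  | succ p ih =>
    intro F V x hx y hy
    obtain ⟨Q, C, a, b, w, hQ, hS⟩ := exists_injSES F
    let S := ShortComplex.mk a b w
    haveI : Injective S.X₂ := hQ
    have hA := toAbOn_shortExact hS (f ⁻¹ᵁ V)
    obtain ⟨c, rfl⟩ := extδ_surjective hA p x
    rw [E.delta V S hS hA] at hx
    obtain ⟨W₁, hW₁, hy₁, u, hu⟩ := exists_local_preimage_of_exact _ _ _ (Δ.exact₃ S hS p (p + 1) rfl) _ hx hy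
    obtain ⟨W₂, hW₂, hy₂, z, hz⟩ := locally_surjective E p Q W₁ u y hy₁
    let g := (Scheme.Modules.restrictFunctor (f ⁻¹ᵁ W₂).ι).map b
    let d : Coh.HHon X C (f ⁻¹ᵁ W₂) p :=
      CohPull.resLE C (f.preimage_mono (hW₂.trans hW₁)) p c - CohPull.mapH g p z
    have hd : E.ε W₂ C p d = 0 := by
      have h1 : E.ε W₂ C p (CohPull.mapH g p z) = ((Coh.Rpush f p).map b).app W₂ (E.ε W₂ Q p z) :=
        E.natural W₂ b p z
      rw [map_sub, h1, hz, eps_resLE E, sub_eq_zero]
      refine Eq.trans ?_ (QCoh.map_app_comm ((Coh.Rpush f p).map b) (homOfLE hW₂) u).symm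
      refine Eq.trans ?_ (congrArg (((Coh.Rpush f p).obj C).presheaf.map (homOfLE hW₂).op) hu.symm)
      exact (QCoh.map_map _ _ _).symm
    obtain ⟨W, hW, hyW, hW0⟩ := ih C W₂ d hd y hy₂
    refine ⟨W, hW.trans (hW₂.trans hW₁), hyW, ?_⟩
    have h3 := toAbOn_shortExact hS (f ⁻¹ᵁ W)
    rw [map_sub, sub_eq_zero, resLE_resLE, resLE_natural b] at hW0
    show CohPull.resLE S.X₁ _ (p + 1) (CohCmp.extδ hA p c) = 0
    rw [resLE_delta S (f.preimage_mono (hW.trans (hW₂.trans hW₁))) hA h3]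
    exact (congrArg (CohCmp.extδ h3 p) hW0).trans (extδ_mapH h3 p _)

end Groth.Agent.CohPullLib
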