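import Groth.Prelude.Def_CohCmp
import Groth.Agent.CohPullLib.Compose
import Groth.Agent.CohPullLib.LocalBij

/-!
# Base change maps on sections
-/

set_option backward.isDefEq.respectTransparency false
set_option backward.isDefEq.respectTransparency.types false
set_option maxRecDepth 4000

universe u

open CategoryTheory AlgebraicGeometry TopologicalSpace Opposite

namespace Groth.Agent.CohPullLib

open Groth.Agent.QCoh Groth.Agent.ExistEasy

theorem pullback_hom_ext {X Y : Scheme.{u}} (φ : X ⟶ Y) {M : Y.Modules} {N : X.Modules}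
    (u v : (Scheme.Modules.pullback φ).obj M ⟶ N)
    (h : ∀ (V : Y.Opens) (x : Γ(M, V)),
      u.app (φ ⁻¹ᵁ V) (pullSec φ M le_rfl x) = v.app (φ ⁻¹ᵁ V) (pullSec φ M le_rfl x)) : u = v := by
  apply ((Scheme.Modules.pullbackPushforwardAdjunction φ).homEquiv _ _).injective
  ext V x
  rw [Adjunction.homEquiv_unit, Adjunction.homEquiv_unit]
  have e : pullSec φ M (le_refl (φ ⁻¹ᵁ V)) x =
      ((Scheme.Modules.pullbackPushforwardAdjunction φ).unit.app M).app V x :=
    QCoh.map_id' _ _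
  exact (congrArg (u.app (φ ⁻¹ᵁ V)) e.symm).trans ((h V x).trans (congrArg (v.app (φ ⁻¹ᵁ V)) e))

theorem pullback₂_hom_ext {X Y Z : Scheme.{u}} (φ : X ⟶ Y) (ψ : Y ⟶ Z) {M : Z.Modules} {N : X.Modules}
    (u v : (Scheme.Modules.pullback φ).obj ((Scheme.Modules.pullback ψ).obj M) ⟶ N)
    (h : ∀ (V : Z.Opens) (x : Γ(M, V)),
      u.app (φ ⁻¹ᵁ (ψ ⁻¹ᵁ V)) (pullSec φ _ le_rfl (pullSec ψ M le_rfl x)) =
        v.app (φ ⁻¹ᵁ (ψ ⁻¹ᵁ V)) (pullSec φ _ le_rfl (pullSec ψ M le_rfl x))) : u = v := by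
  apply ((Scheme.Modules.pullbackPushforwardAdjunction φ).homEquiv _ _).injective
  refine pullback_hom_ext ψ _ _ fun V x => ?_
  rw [Adjunction.homEquiv_unit, Adjunction.homEquiv_unit]
  let z := pullSec ψ M (le_refl (ψ ⁻¹ᵁ V)) x
  have e : pullSec φ ((Scheme.Modules.pullback ψ).obj M) (le_refl (φ ⁻¹ᵁ (ψ ⁻¹ᵁ V))) z =
      ((Scheme.Modules.pullbackPushforwardAdjunction φ).unit.app _).app (ψ ⁻¹ᵁ V) z :=
    QCoh.map_id' _ _
  exact (congrArg (u.app _) e.symm).trans ((h V x).trans (congrArg (v.app _) e))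

variable {X S S' X' : Scheme.{u}} {f : X ⟶ S} {g : S' ⟶ S} {f' : X' ⟶ S'} {g' : X' ⟶ X}
  {w : g' ≫ f = f' ≫ g} [HasInjectiveResolutions X.Modules] [HasInjectiveResolutions X'.Modules]
  {Δ : RDer.DerivedLES (Scheme.Modules.pushforward f)} {Δ' : RDer.DerivedLES (Scheme.Modules.pushforward f')}
  {E : CohCmp.SectCmp f Δ} {E' : CohCmp.SectCmp f' Δ'}

theorem bc_app_pullSec (B : CohCmp.GenBC f g f' g' w E E') (p : ℕ) (F : X.Modules) (V : S.Opens)
    (t : Γ((Coh.Rpush f p).obj F, V)) :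
    (B.bc p F).app (g ⁻¹ᵁ V) (pullSec g _ le_rfl t) = (B.φ p F).app V t := by
  have h : (Scheme.Modules.pullbackPushforwardAdjunction g).unit.app _ ≫
      (Scheme.Modules.pushforward g).map (B.bc p F) = B.φ p F :=
    ((Scheme.Modules.pullbackPushforwardAdjunction g).homEquiv_unit _ _ _).symm.trans
      (Equiv.apply_symm_apply _ _)
  have e : pullSec g _ (le_refl (g ⁻¹ᵁ V)) t =
      ((Scheme.Modules.pullbackPushforwardAdjunction g).unit.app _).app V t :=
    QCoh.map_id' _ _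
  exact (congrArg ((B.bc p F).app (g ⁻¹ᵁ V)) e).trans
    (congrArg (fun ψ : _ ⟶ (Scheme.Modules.pushforward g).obj _ => Scheme.Modules.Hom.app ψ V t) h)

/-- Two maps out of a higher direct image agreeing on the classes agree. -/
theorem Rpush_hom_ext (E : CohCmp.SectCmp f Δ) {p : ℕ} {F : X.Modules} {N : S.Modules}
    (u v : (Coh.Rpush f p).obj F ⟶ N)
    (h : ∀ (W : S.Opens) (x : Coh.HHon X F (f ⁻¹ᵁ W) p), u.app W (E.ε W F p x) = v.app W (E.ε W F p x)) :
    u = v := by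
  ext V t
  choose W hW hy x hx using fun y : V => locally_surjective E p F V t y y.2
  refine TopCat.Sheaf.eq_of_locally_eq' (⟨N.presheaf, N.isSheaf⟩ : TopCat.Sheaf Ab.{u} _) W V
    (fun y => homOfLE (hW y)) (fun y hy' => Opens.mem_iSup.2 ⟨⟨y, hy'⟩, hy _⟩) _ _ fun y => ?_
  refine (QCoh.map_app_comm u (homOfLE (hW y)) t).symm.trans ?_
  refine Eq.trans ?_ (QCoh.map_app_comm v (homOfLE (hW y)) t)
  rw [← hx y]
  exact h (W y) (x y)

end Groth.Agent.CohPullLib
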