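import Groth.Agent.CohPullLib.BCAffine

/-!
# The base change map on sections against the exchange map
-/

set_option backward.isDefEq.respectTransparency false
set_option backward.isDefEq.respectTransparency.types false
set_option linter.style.haveILetI false
set_option maxRecDepth 4000
set_option maxHeartbeats 1000000

universe u

open CategoryTheory CategoryTheory.Limits AlgebraicGeometry TopologicalSpace Opposite
open scoped TensorProduct

namespace Groth.Agent.CohPullLib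

open Groth.Agent.QCoh

section Pull

variable {A B : Type u} [CommRing A] [CommRing B] [Algebra A B]
  {X X' : Scheme.{u}} [X.Over (Spec (CommRingCat.of A))]
  {πB : X' ⟶ Spec (CommRingCat.of B)} {k : X' ⟶ X}

/-- The exchange map is the pullback of classes, whether or not it is bijective. -/
theorem exists_pullMod_comparison
    (hk : IsPullback k πB (X ↘ Spec (CommRingCat.of A)) (Spec.map (CommRingCat.ofHom (algebraMap A B))))
    {F : X.Modules} (hF : Coh.IsQCoh F) (p : ℕ) (T : ModuleCat.{u} A ⥤ ModuleCat.{u} A) [T.Additive] [T.Linear A]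
    (e : T ⋙ forget₂ (ModuleCat.{u} A) AddCommGrpCat.{u} ≅ CohIII.tensorAFunctor A F ⋙ CohIII.HAb X p) :
    letI := modHH (Coh.toGlobal (X ↘ Spec (CommRingCat.of A))) F p
    letI := modHH (Coh.toGlobal πB) ((Scheme.Modules.pullback k).obj F) p
    ∃ (L : Coh.HH X F p ≃ₗ[A] T.obj (ModuleCat.of A A))
      (E : T.obj (ModuleCat.of A B) ≃+ Coh.HH X' ((Scheme.Modules.pullback k).obj F) p),
      ∀ (x : Coh.HH X F p) (b : B), E (FlatCxLib.tM T (ModuleCat.of A B)
        (L x ⊗ₜ[A] (show ModuleCat.of A B from b))) = b • CohPull.pullMod k F p x := by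
  haveI : IsAffineHom k := MorphismProperty.of_isPullback hk.flip inferInstance
  let F' := (Scheme.Modules.pullback k).obj F
  haveI : Coh.IsQCoh F' := isQCoh_pullback k hF
  let ρ := Coh.toGlobal (X ↘ Spec (CommRingCat.of A))
  letI := modHH ρ F p
  letI := modHH (Coh.toGlobal πB) F' p
  let H := Coh.HH X F p
  let MA := ModuleCat.of A A
  let MB := ModuleCat.of A B
  let eA := (e.app MA).addCommGroupIsoToAddEquiv
  let eB := (e.app MB).addCommGroupIsoToAddEquiv
  haveI := isIso_jB_one (A := A) F hF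
  let J : H →+ (CohIII.tensorAFunctor A F ⋙ CohIII.HAb X p).obj MA := Sheaf.H.map (jB F MA (1 : A)) p
  have hJ : Function.Bijective J := map_bijective_of_isIso (jB F MA (1 : A)) p
  let L₀ : H ≃+ T.obj MA := (AddEquiv.ofBijective J hJ).trans eA.symm
  have hnat : ∀ {M : ModuleCat.{u} A} (g : MA ⟶ M) (x : H),
      (e.app M).addCommGroupIsoToAddEquiv ((T.map g).hom (L₀ x)) =
        Sheaf.H.map (jB F M (g.hom (1 : A))) p x := by
    intro M g x
    refine (ConcreteCategory.congr_hom (e.hom.naturality g) (L₀ x)).trans ?_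
    refine (congrArg ((CohIII.tensorAFunctor A F ⋙ CohIII.HAb X p).map g) (eA.apply_symm_apply (J x))).trans ?_
    show Sheaf.H.map _ p (Sheaf.H.map (jB F MA (1 : A)) p x) = _
    exact (Sheaf.H.map_comp_apply _ _ _).symm.trans (congrArg (fun t => Sheaf.H.map t p x) (jB_map F g (1 : A)))
  have hsmul : ∀ (a : A) (x : H), L₀ (a • x) = a • L₀ x := by
    intro a x
    apply eA.injective
    have h1 : a • L₀ x = (T.map (a • 𝟙 MA)).hom (L₀ x) := by
      rw [Functor.map_smul, T.map_id]; rfl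
    rw [h1]
    refine (eA.apply_symm_apply _).trans (Eq.trans ?_ (hnat (a • 𝟙 MA) x).symm)
    show Sheaf.H.map (jB F MA (1 : A)) p (Sheaf.H.map (Coh.smulAb F (ρ a)) p x) = _
    rw [← Sheaf.H.map_comp_apply, smulAb_jB]
    rfl
  let L : H ≃ₗ[A] T.obj MA := L₀.toLinearEquiv hsmul
  obtain ⟨θ, hθi, hθ⟩ := exists_theta F hk hF
  haveI := hθi
  let P := AddEquiv.ofBijective (pab k.base θ p) (pab_bijective_of_isIso k θ p)
  have key : ∀ (x : H) (b : B),
      P (eB (FlatCxLib.tM T MB (L x ⊗ₜ[A] (show MB from b)))) = b • CohPull.pullMod k F p x := by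
    intro x b
    rw [FlatCxLib.tM_tmul]
    refine (congrArg P (hnat (ModuleCat.ofHom ((LinearMap.ringLmapEquivSelf A A MB).symm b)) x)).trans ?_
    show pab k.base θ p (Sheaf.H.map _ p x) = Sheaf.H.map (Coh.smulAb F' (Coh.toGlobal πB b)) p _
    rw [pab_map, pullMod_eq_pab, pab_congr_map]
    refine congrArg (fun t => pab k.base t p x) ?_
    have h1 : ((ModuleCat.ofHom ((LinearMap.ringLmapEquivSelf A A MB).symm b) : MA ⟶ MB)).hom (1 : A) =
        (show MB from b) := one_smul A (show MB from b)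
    rw [h1]
    exact hθ b
  exact ⟨L, eB.trans P, key⟩

end Pull

section BC

variable {X S S' X' : Scheme.{u}} {f : X ⟶ S} {g : S' ⟶ S} {f' : X' ⟶ S'} {g' : X' ⟶ X}
  [HasInjectiveResolutions X.Modules] [HasInjectiveResolutions X'.Modules]
  {Δ : RDer.DerivedLES (Scheme.Modules.pushforward f)} {Δ' : RDer.DerivedLES (Scheme.Modules.pushforward f')}
  {E : CohCmp.SectCmp f Δ} {E' : CohCmp.SectCmp f' Δ'}

/-- On affine opens the base change map is the exchange map up to isomorphism. -/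
theorem exists_bc_app_comparison [QuasiCompact f] [QuasiSeparated f] [QuasiCompact f'] [QuasiSeparated f']
    (h : IsPullback g' f' f g) (B : CohCmp.GenBC f g f' g' h.w E E') (p : ℕ) {F : X.Modules} (hF : Coh.IsQCoh F)
    {V : S.Opens} (hV : IsAffineOpen V) {W : S'.Opens} (hW : IsAffineOpen W) (hle : W ≤ g ⁻¹ᵁ V)
    (T : ModuleCat.{u} Γ(S, V) ⥤ ModuleCat.{u} Γ(S, V)) [T.Additive] [T.Linear Γ(S, V)]
    (e : letI : (f ⁻¹ᵁ V).toScheme.Over (Spec (CommRingCat.of Γ(S, V))) := ⟨secπ f hV le_rfl⟩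
      T ⋙ forget₂ _ AddCommGrpCat.{u} ≅
        CohIII.tensorAFunctor Γ(S, V) (F.restrict (f ⁻¹ᵁ V).ι) ⋙ CohIII.HAb _ p) :
    letI : Algebra Γ(S, V) Γ(S', W) := (g.appLE V W hle).hom.toAlgebra
    ∃ (a : Γ((Scheme.Modules.pullback g).obj ((Coh.Rpush f p).obj F), W) ≃+
        T.obj (ModuleCat.of _ Γ(S, V)) ⊗[Γ(S, V)] (ModuleCat.of Γ(S, V) Γ(S', W) : Type u))
      (b : T.obj (ModuleCat.of Γ(S, V) Γ(S', W)) ≃+
        Γ((Coh.Rpush f' p).obj ((Scheme.Modules.pullback g').obj F), W)),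
      ∀ z, (B.bc p F).app W z = b (FlatCxLib.tM T (ModuleCat.of Γ(S, V) Γ(S', W)) (a z)) := by
  letI : Algebra Γ(S, V) Γ(S', W) := (g.appLE V W hle).hom.toAlgebra
  let A := Γ(S, V)
  let C := Γ(S', W)
  let k := g'.resLE (f ⁻¹ᵁ V) (f' ⁻¹ᵁ W) (sectLE h.w hle)
  let F₀ := F.restrict (f ⁻¹ᵁ V).ι
  let F₁ := (Scheme.Modules.pullback k).obj F₀
  let F' := (Scheme.Modules.pullback g').obj F
  let M := (Coh.Rpush f p).obj F
  let M' := (Coh.Rpush f' p).obj F'
  letI : (f ⁻¹ᵁ V).toScheme.Over (Spec (CommRingCat.of Γ(S, V))) := ⟨secπ f hV le_rfl⟩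
  letI := modHH (Coh.toGlobal (secπ f hV (le_refl (f ⁻¹ᵁ V)))) F₀ p
  letI := modHH (Coh.toGlobal (secπ f' hW (le_refl (f' ⁻¹ᵁ W)))) F₁ p
  have hk : IsPullback k (secπ f' hW le_rfl)
      ((f ⁻¹ᵁ V).toScheme ↘ Spec (CommRingCat.of Γ(S, V)))
      (Spec.map (CommRingCat.ofHom (algebraMap Γ(S, V) Γ(S', W)))) :=
    isPullback_sect h hV hW hle
  obtain ⟨L, R, hR⟩ := exists_pullMod_comparison hk (isQCoh_restrict _ hF) p T e
  letI : Module A Γ((Scheme.Modules.pullback g).obj M, W) := Module.compHom _ (g.appLE V W hle).hom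
  haveI : IsScalarTower A C Γ((Scheme.Modules.pullback g).obj M, W) :=
    ⟨fun a b c => mul_smul ((g.appLE V W hle).hom a) b c⟩
  obtain ⟨l₀, hl₀, hb₀⟩ := ExistEasy.exists_pullSec_baseChange g (isQCoh_Rpush f hF p) hW hV hle
  let eV : Coh.HH (f ⁻¹ᵁ V).toScheme F₀ p ≃ₗ[A] Γ(M, V) :=
    (AddEquiv.ofBijective (E.ε V F p) (eps_bijective_of_isAffineOpen E hF hV p)).toLinearEquiv fun a x => by
      show E.ε V F p (Sheaf.H.map (Coh.smulAb F₀ (Coh.toGlobal (secπ f hV (le_refl (f ⁻¹ᵁ V))) a)) p x) = a • E.ε V F p x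
      rw [toGlobal_secπ, ← Scheme.Hom.app_eq_appLE]
      exact eps_smul E V a p F x
  let φ := (CohPull.pullOnIso g' (f ⁻¹ᵁ V) (f' ⁻¹ᵁ W) (sectLE h.w hle) F).hom
  let Φ := (SheafOfModules.toSheaf (f' ⁻¹ᵁ W).toScheme.ringCatSheaf).map φ
  haveI : IsIso Φ := inferInstance
  have hF' : Coh.IsQCoh F' := isQCoh_pullback g' hF
  let eW₀ : Coh.HH (f' ⁻¹ᵁ W).toScheme F₁ p ≃+ Γ(M', W) :=
    (AddEquiv.ofBijective (Sheaf.H.map Φ p) (map_bijective_of_isIso Φ p)).trans
      (AddEquiv.ofBijective (E'.ε W F' p) (eps_bijective_of_isAffineOpen E' hF' hW p))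
  have hsm : ∀ (c : C) (y), eW₀ (c • y) = c • eW₀ y := fun c y => by
    show E'.ε W F' p (Sheaf.H.map Φ p (Sheaf.H.map (Coh.smulAb F₁ (Coh.toGlobal (secπ f' hW (le_refl (f' ⁻¹ᵁ W))) c)) p y)) =
      c • E'.ε W F' p (Sheaf.H.map Φ p y)
    rw [← Sheaf.H.map_comp_apply, toGlobal_secπ, ← Scheme.Hom.app_eq_appLE]
    refine Eq.trans ?_ (eps_smul E' W c p F' (Sheaf.H.map Φ p y))
    refine congrArg (E'.ε W F' p) ?_
    refine Eq.trans ?_ (Sheaf.H.map_comp_apply _ _ _)
    refine congrArg (fun t => Sheaf.H.map t p y) ?_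
    ext O s
    exact (Scheme.Modules.Hom.app_smul φ (Coh.resTop (f' ⁻¹ᵁ W).toScheme O _) s).symm.symm
  let MC := ModuleCat.of A C
  let c₀ : C ⊗[A] Γ(M, V) ≃+ T.obj (ModuleCat.of A A) ⊗[A] (MC : Type u) :=
    (TensorProduct.comm A C Γ(M, V)).toAddEquiv.trans
      (TensorProduct.congr (eV.symm.trans L) (LinearEquiv.refl A MC)).toAddEquiv
  refine ⟨hb₀.equiv.symm.toAddEquiv.trans c₀, R.trans eW₀, fun z => ?_⟩
  obtain ⟨w, rfl⟩ := hb₀.equiv.surjective z
  show _ = eW₀ (R (FlatCxLib.tM T MC (c₀ (hb₀.equiv.symm (hb₀.equiv w)))))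
  rw [LinearEquiv.symm_apply_apply]
  induction w using TensorProduct.induction_on with
  | zero => simp
  | add a b ha hb => simp only [map_add, ha, hb]
  | tmul c m =>
    obtain ⟨x, rfl⟩ := eV.surjective m
    rw [IsBaseChange.equiv_tmul, hl₀]
    refine (Scheme.Modules.Hom.app_smul (B.bc p F) c _).trans ?_
    refine (congrArg (c • ·) (bc_app_pullSec_eps B p F hle x)).trans ?_
    show c • eW₀ (CohPull.pullMod k F₀ p x) = eW₀ (R (FlatCxLib.tM T MC (L (eV.symm (eV x)) ⊗ₜ[A] c)))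
    rw [LinearEquiv.symm_apply_apply, hR, hsm]

end BC

end Groth.Agent.CohPullLib
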