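import Groth.Agent.CohPullLib.BC0
import Groth.Agent.MorLib.FlatBC
import Groth.Agent.FlatCxLib.BaseChange
import Groth.Agent.FlatCxLib.Field

/-!
# Models, exchange and fibre ranks after base change
-/

set_option backward.isDefEq.respectTransparency false
set_option backward.isDefEq.respectTransparency.types false
set_option linter.style.haveILetI false
set_option linter.unusedSectionVars false
set_option maxRecDepth 4000
set_option maxHeartbeats 1000000

universe u

open CategoryTheory CategoryTheory.Limits AlgebraicGeometry TopologicalSpace Opposite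
open scoped TensorProduct

namespace Groth.Agent.CohPullLib

open Groth.Agent.QCoh Groth.Agent.FlatCxLib Groth.Agent.ExistEasy

variable {X S S' X' : Scheme.{u}} {f : X ⟶ S} {g : S' ⟶ S} {f' : X' ⟶ S'} {g' : X' ⟶ X} {F : X.Modules}

theorem isFP_pullback_of_isQCoh (g' : X' ⟶ X) (hF : Coh.IsQCoh F) (hfp : CohB1.IsFP F) :
    CohB1.IsFP ((Scheme.Modules.pullback g').obj F) := by
  have hU := fun x : X' => exists_isAffineOpen_mem_and_subset (x := g' x) (U := ⊤) trivial
  choose U hU hxU _ using hU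
  have hW := fun x : X' => exists_isAffineOpen_mem_and_subset (x := x) (U := g' ⁻¹ᵁ U x) (hxU x)
  choose W hW hxW hle using hW
  refine QCoh.isFP_of_finitePresentation (isQCoh_pullback g' hF) W
    (IsOpenCover.mk (eq_top_iff.2 fun x _ => Opens.mem_iSup.2 ⟨x, hxW x⟩)) hW fun x => ?_
  letI : Algebra Γ(X, U x) Γ(X', W x) := (g'.appLE (U x) (W x) (hle x)).hom.toAlgebra
  letI : Module Γ(X, U x) Γ((Scheme.Modules.pullback g').obj F, W x) :=
    Module.compHom _ (g'.appLE (U x) (W x) (hle x)).hom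
  haveI : IsScalarTower Γ(X, U x) Γ(X', W x) Γ((Scheme.Modules.pullback g').obj F, W x) :=
    ⟨fun a b c => mul_smul ((g'.appLE (U x) (W x) (hle x)).hom a) b c⟩
  obtain ⟨l, -, hb⟩ := exists_pullSec_baseChange g' hF (hW x) (hU x) (hle x)
  haveI := QCoh.finitePresentation_of_isFP hfp (hU x)
  exact Module.FinitePresentation.of_equiv hb.equiv

theorem isFlatOver_baseChange (h : IsPullback g' f' f g) (hfl : FlatMod.IsFlatOver f F) :
    FlatMod.IsFlatOver f' ((Scheme.Modules.pullback g').obj F) := fun x =>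
  MorLib.FlatBC.isFlatOverAt_baseChange f f' g' g h F x (hfl _)

variable [IsProper f]

/-- The base change of a model is a model. -/
theorem IsModel.baseChange (h : IsPullback g' f' f g) (hF : Coh.IsQCoh F) {V : S.Opens} {hV : IsAffineOpen V}
    {P : ChainComplex (ModuleCat.{u} Γ(S, V)) ℤ} (hP : IsModel f F hV P) {W : S'.Opens} (hW : IsAffineOpen W)
    (hle : W ≤ g ⁻¹ᵁ V) :
    IsModel f' ((Scheme.Modules.pullback g').obj F) hW (CohIII.bcCx (g.appLE V W hle).hom P) := by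
  letI : (f ⁻¹ᵁ V).toScheme.Over (Spec (CommRingCat.of Γ(S, V))) := ⟨secπ f hV le_rfl⟩
  letI : (f' ⁻¹ᵁ W).toScheme.Over (Spec (CommRingCat.of Γ(S', W))) := ⟨secπ f' hW le_rfl⟩
  obtain ⟨h1, h2, ⟨c, h3⟩, h4, h5⟩ := hP
  let φ := (g.appLE V W hle).hom
  refine ⟨fun i => finite_bcCx_X_aux P φ h1 i, fun i => ?_, ⟨c, fun i hi => ?_⟩,
    fun q hq N => ?_, fun p => ?_⟩
  · letI := φ.toAlgebra
    haveI := h2 i
    exact inferInstanceAs (Module.Free Γ(S', W) (Γ(S', W) ⊗[Γ(S, V)] P.X i))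
  · exact Functor.map_isZero (ModuleCat.extendScalars φ) (h3 i hi)
  · obtain ⟨e⟩ := nonempty_bcT_iso P φ q
    haveI : Subsingleton (CohIII.T (CohIII.bcCx φ P) q N) :=
      AddCommGrpCat.subsingleton_of_isZero ((Functor.map_isZero (forget₂ (ModuleCat.{u} Γ(S, V)) AddCommGrpCat.{u})
        (h4 q hq ((ModuleCat.restrictScalars φ).obj N))).of_iso (e.app N))
    exact ModuleCat.isZero_of_subsingleton _
  · obtain ⟨e⟩ := h5 p
    haveI : CompactSpace (f ⁻¹ᵁ V).toScheme :=
      isCompact_iff_compactSpace.1 (f.isCompact_preimage hV.isCompact)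
    haveI : (f ⁻¹ᵁ V).toScheme.IsSeparated := ⟨by
      haveI : IsAffine V.toScheme := hV
      rw [← Limits.terminal.comp_from (f.resLE V (f ⁻¹ᵁ V) le_rfl)]
      infer_instance⟩
    exact exists_tfun_bc φ (g'.resLE (f ⁻¹ᵁ V) (f' ⁻¹ᵁ W) (sectLE h.w hle)) (isPullback_sect h hV hW hle)
      (isQCoh_restrict _ hF) (CohPull.pullOnIso g' (f ⁻¹ᵁ V) (f' ⁻¹ᵁ W) (sectLE h.w hle) F) P _ p e

variable [LocallyOfFinitePresentation f]

theorem comap_appLE_primeIdealOf (g : S' ⟶ S) {V : S.Opens} (hV : IsAffineOpen V) {W : S'.Opens}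
    (hW : IsAffineOpen W) (hle : W ≤ g ⁻¹ᵁ V) {t : S'} (ht : t ∈ W) :
    PrimeSpectrum.comap (g.appLE V W hle).hom (hW.primeIdealOf ⟨t, ht⟩) = hV.primeIdealOf ⟨g t, hle ht⟩ := by
  apply hV.fromSpec.injective
  rw [hV.fromSpec_primeIdealOf]
  have := congr($(IsAffineOpen.SpecMap_appLE_fromSpec g hV hW hle) (hW.primeIdealOf ⟨t, ht⟩))
  rw [Scheme.Hom.comp_apply, Scheme.Hom.comp_apply, hW.fromSpec_primeIdealOf] at this
  exact this

theorem fiberRank_baseChange (h : IsPullback g' f' f g) (hF : Coh.IsQCoh F) (hfp : CohB1.IsFP F)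
    (hfl : FlatMod.IsFlatOver f F) (p : ℕ) (t : S') :
    CohIII.fiberRank f' ((Scheme.Modules.pullback g').obj F) p t = CohIII.fiberRank f F p (g t) := by
  haveI : IsProper f' := MorphismProperty.of_isPullback h inferInstance
  obtain ⟨V, hV, P, hv, -, hP⟩ := exists_isModel_nhd (f := f) hF hfp hfl (show g t ∈ (⊤ : S.Opens) from trivial)
  obtain ⟨W, hW, ht, hle⟩ := exists_isAffineOpen_mem_and_subset (x := t) (U := g ⁻¹ᵁ V) hv
  rw [(hP.baseChange h hF hW hle).fiberRank_eq (isQCoh_pullback g' hF) p ht, hP.fiberRank_eq hF p hv]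
  let φ := (g.appLE V W hle).hom
  let ψ := evalV t ht
  have hker : RingHom.ker (ψ.comp φ) = (hV.primeIdealOf ⟨g t, hv⟩).asIdeal := by
    rw [← RingHom.comap_ker, ker_evalV hW ht]
    exact congrArg PrimeSpectrum.asIdeal (comap_appLE_primeIdealOf g hV hW hle ht)
  rw [← finrank_bc_eq_dRank ψ (CohIII.bcCx φ P) _ (ker_evalV hW ht) _,
    ← finrank_bc_eq_dRank (ψ.comp φ) P _ hker _]
  exact finrank_homology_bcCx_comp (RingHom.id _) P φ ψ (ψ.comp φ) (RingHom.id_comp _).symm _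

/-- Exchange after base change, in terms of any model of the original family. -/
theorem exchAt_baseChange_iff (h : IsPullback g' f' f g) (hF : Coh.IsQCoh F) {p : ℕ} {V : S.Opens}
    {hV : IsAffineOpen V} {P : ChainComplex (ModuleCat.{u} Γ(S, V)) ℤ} (hP : IsModel f F hV P) {t : S'}
    (ht : g t ∈ V) :
    ExchAt f' ((Scheme.Modules.pullback g').obj F) p t ↔ ∃ (W : S'.Opens) (_ : IsAffineOpen W) (hle : W ≤ g ⁻¹ᵁ V),
      t ∈ W ∧ (CohIII.TFun (CohIII.bcCx (g.appLE V W hle).hom P) (-(p : ℤ))).PreservesEpimorphisms := by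
  haveI : IsProper f' := MorphismProperty.of_isPullback h inferInstance
  constructor
  · rintro ⟨V₀, hV₀, P₀, ht₀, hP₀, hepi⟩
    obtain ⟨W, hW, htW, hle⟩ :=
      exists_isAffineOpen_mem_and_subset (x := t) (U := V₀ ⊓ g ⁻¹ᵁ V) ⟨ht₀, ht⟩
    have h1 : W ≤ V₀ := le_trans hle inf_le_left
    have h2 : W ≤ g ⁻¹ᵁ V := le_trans hle inf_le_right
    exact ⟨W, hW, h2, htW, hP₀.preservesEpi_of_le (isQCoh_pullback g' hF) p hepi h1 (hP.baseChange h hF hW h2)⟩
  · rintro ⟨W, hW, hle, htW, hepi⟩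
    exact ⟨W, hW, _, htW, hP.baseChange h hF hW hle, hepi⟩

end Groth.Agent.CohPullLib
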