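import Groth.Agent.CohPullLib.ResLEZero
import Groth.Agent.QCoh.Ab.Restrict
import Groth.Agent.QCoh.RpushGod

/-!
# The comparison maps commute with restriction
-/

set_option backward.isDefEq.respectTransparency false
set_option backward.isDefEq.respectTransparency.types false

universe u

open CategoryTheory CategoryTheory.Limits CategoryTheory.Abelian AlgebraicGeometry TopologicalSpace Opposite

namespace Groth.Agent.CohPullLib

variable {X Y : Scheme.{u}}

theorem toAbOn_shortExact {S : ShortComplex X.Modules} (hS : S.ShortExact) (U : X.Opens) :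
    (S.map (CohCmp.toAbOn X U)).ShortExact :=
  QCoh.Ab.restr_shortExact U.ι.isOpenEmbedding (QCoh.toAb_shortExact hS)

theorem subsingleton_HHon_of_isFlasqueMod (Q : X.Modules) (hQ : QCoh.IsFlasqueMod Q) (U : X.Opens) (p : ℕ) :
    Subsingleton (Coh.HHon X Q U (p + 1)) :=
  haveI := hQ
  haveI := QCoh.Ab.isFlasque_restr U.ι.isOpenEmbedding (QCoh.abSheaf Q)
  SiteBase.subsingleton_H_of_isFlasque
    ((QCoh.Ab.restr U.ι.isOpenEmbedding).obj (QCoh.abSheaf Q)) p

theorem subsingleton_HHon_of_injective (Q : X.Modules) [Injective Q] (U : X.Opens) (p : ℕ) :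
    Subsingleton (Coh.HHon X Q U (p + 1)) :=
  subsingleton_HHon_of_isFlasqueMod Q (QCoh.isFlasqueMod_of_injective Q) U p

theorem exists_injSES [HasInjectiveResolutions X.Modules] (F : X.Modules) :
    ∃ (Q C : X.Modules) (f : F ⟶ Q) (g : Q ⟶ C) (w : f ≫ g = 0),
      Injective Q ∧ (ShortComplex.mk f g w).ShortExact := by
  haveI := SpObjSS.enoughInjectives_of_hasInjectiveResolutions (C := X.Modules)
  exact ⟨_, _, Injective.ι F, cokernel.π _, cokernel.condition _, inferInstance,
    { exact := ShortComplex.exact_of_g_is_cokernel _ (cokernelIsCokernel (Injective.ι F)) }⟩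

theorem extδ_surjective {S : ShortComplex X.Modules} [Injective S.X₂] {U : X.Opens}
    (hA : (S.map (CohCmp.toAbOn X U)).ShortExact) (p : ℕ) :
    Function.Surjective (CohCmp.extδ hA p) := fun x => by
  obtain ⟨y, hy⟩ := Ext.covariant_sequence_exact₁ _ hA x
    ((subsingleton_HHon_of_injective S.X₂ U p).elim _ _) rfl
  exact ⟨y, hy⟩

variable {f : X ⟶ Y} [HasInjectiveResolutions X.Modules]
  {Δ : RDer.DerivedLES (Scheme.Modules.pushforward f)} (E : CohCmp.SectCmp f Δ)

theorem eps_resLE {V V' : Y.Opens} (h : V' ≤ V) (p : ℕ) : ∀ (F : X.Modules) (x : Coh.HHon X F (f ⁻¹ᵁ V) p),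
    E.ε V' F p (CohPull.resLE F (f.preimage_mono h) p x) =
      ((Coh.Rpush f p).obj F).presheaf.map (homOfLE h).op (E.ε V F p x) := by
  induction p with
  | zero =>
    intro F x
    obtain ⟨s, rfl⟩ := (CohPull.sectH0 F (f ⁻¹ᵁ V)).surjective x
    rw [resLE_sectH0, E.zero, E.zero]
    exact QCoh.map_app_comm ((Scheme.Modules.pushforward f).toRightDerivedZero.app F) (homOfLE h) s
  | succ p ih =>
    intro F x
    obtain ⟨Q, C, a, b, w, hQ, hS⟩ := exists_injSES F
    let S := ShortComplex.mk a b w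
    haveI : Injective S.X₂ := hQ
    have h₁ := toAbOn_shortExact hS (f ⁻¹ᵁ V)
    have h₂ := toAbOn_shortExact hS (f ⁻¹ᵁ V')
    obtain ⟨y, rfl⟩ := extδ_surjective h₁ p x
    rw [resLE_delta S (f.preimage_mono h) h₁ h₂ p y, E.delta V' S hS h₂, E.delta V S hS h₁, ih C y]
    exact QCoh.map_app_comm (Δ.δ S hS p (p + 1) rfl) (homOfLE h) _

end Groth.Agent.CohPullLib
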