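import Groth.Agent.CohPullLib.NbhdExchange
import Groth.Agent.FibVanish.Basic
import Groth.Agent.QCoh.RpushStalk

/-!
# Vanishing above the dimension of the fibres
-/

set_option backward.isDefEq.respectTransparency false
set_option backward.isDefEq.respectTransparency.types false
set_option linter.style.haveILetI false
set_option maxRecDepth 4000
set_option maxHeartbeats 1000000

universe u

open CategoryTheory CategoryTheory.Limits AlgebraicGeometry TopologicalSpace Opposite

namespace Groth.Agent.CohPullLib

theorem subsingleton_fiberH_of_dim {X S : Scheme.{u}} (f : X ⟶ S) [IsProper f] {F : X.Modules}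
    (hF : Coh.IsQCoh F) (hfp : CohB1.IsFP F) (s : S) {d p : ℕ}
    (hd : topologicalKrullDim (f.fiber s) ≤ d) (hp : d < p) : Subsingleton (CohIII.fiberH f F s p) := by
  letI : (f.fiber s).Over (Spec (CommRingCat.of (S.residueField s))) := ⟨f.fiberToSpecResidueField s⟩
  haveI : IsProper ((f.fiber s) ↘ Spec (CommRingCat.of (S.residueField s))) := by
    show IsProper (f.fiberToSpecResidueField s)
    exact MorphismProperty.of_isPullback (IsPullback.of_hasPullback f (S.fromSpecResidueField s)) inferInstance
  refine FibVanish.subsingleton_HH_of_closedFibre (S.residueField s) (d := d) (fun y _ => ?_)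
    (⟨QCoh.isQCoh_pullback _ hF, QCoh.isFT_pullback _ hF (QCoh.isFT_of_isFP hfp)⟩ : Coh.IsCoh (CohIII.fiberMod f F s)) hp
  exact (Topology.IsInducing.subtypeVal.topologicalKrullDim_le).trans hd

end Groth.Agent.CohPullLib
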