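import Groth.Agent.CohPullLib.Model
import Groth.Agent.CohPullLib.BCTm
import Groth.Agent.CohPullLib.PtExchange
import Groth.Agent.QCoh.RpushExchange2

/-!
# Exchange for proper flat families over arbitrary bases, through finite free models
-/

set_option backward.isDefEq.respectTransparency false
set_option backward.isDefEq.respectTransparency.types false
set_option linter.style.haveILetI false
set_option maxRecDepth 4000
set_option maxHeartbeats 1000000

universe u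

open CategoryTheory CategoryTheory.Limits AlgebraicGeometry TopologicalSpace Opposite
open scoped TensorProduct

namespace Groth.Agent.CohPullLib

open Groth.Agent.QCoh Groth.Agent.FlatCxLib

theorem nonempty_linearEquiv_HH {A : Type u} [CommRing A] {X : Scheme.{u}} [X.Over (Spec (CommRingCat.of A))]
    {F : X.Modules} (hF : Coh.IsQCoh F) (p : ℕ) (T : ModuleCat.{u} A ⥤ ModuleCat.{u} A) [T.Additive] [T.Linear A]
    (e : T ⋙ forget₂ (ModuleCat.{u} A) AddCommGrpCat.{u} ≅ CohIII.tensorAFunctor A F ⋙ CohIII.HAb X p) :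
    letI := modHH (Coh.toGlobal (X ↘ Spec (CommRingCat.of A))) F p
    Nonempty (Coh.HH X F p ≃ₗ[A] T.obj (ModuleCat.of A A)) := by
  obtain ⟨L, -, -⟩ := exists_pullMod_comparison (B := A) (πB := X ↘ Spec (CommRingCat.of A)) (k := 𝟙 X)
    (by
      rw [show CommRingCat.ofHom (algebraMap A A) = 𝟙 _ from rfl, Spec.map_id]
      exact IsPullback.of_horiz_isIso ⟨by simp⟩) hF p T e
  exact ⟨L⟩

section Model

variable {X S : Scheme.{u}} {f : X ⟶ S} {F : X.Modules} {V : S.Opens} {hV : IsAffineOpen V}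
  {P : ChainComplex (ModuleCat.{u} Γ(S, V)) ℤ}

/-- Over any smaller affine open the base change of a model is a model. -/
theorem IsModel.of_le [QuasiCompact f] [IsSeparated f] (hF : Coh.IsQCoh F) (hP : IsModel f F hV P)
    {V' : S.Opens} (hV' : IsAffineOpen V') (hle : V' ≤ V) :
    IsModel f F hV' (CohIII.bcCx (S.presheaf.map (homOfLE hle).op).hom P) := by
  letI : (f ⁻¹ᵁ V).toScheme.Over (Spec (CommRingCat.of Γ(S, V))) := ⟨secπ f hV le_rfl⟩
  letI : (f ⁻¹ᵁ V').toScheme.Over (Spec (CommRingCat.of Γ(S, V'))) := ⟨secπ f hV' le_rfl⟩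
  obtain ⟨h1, h2, ⟨c, h3⟩, h4, h5⟩ := hP
  let φ := (S.presheaf.map (homOfLE hle).op).hom
  refine ⟨fun i => finite_bcCx_X_aux P φ h1 i, fun i => ?_, ⟨c, fun i hi => ?_⟩,
    fun q hq N => ?_, fun p => ?_⟩
  · letI := φ.toAlgebra
    haveI := h2 i
    exact inferInstanceAs (Module.Free Γ(S, V') (Γ(S, V') ⊗[Γ(S, V)] P.X i))
  · exact Functor.map_isZero (ModuleCat.extendScalars φ) (h3 i hi)
  · obtain ⟨e⟩ := nonempty_bcT_iso P φ q
    haveI : Subsingleton (CohIII.T (CohIII.bcCx φ P) q N) :=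
      AddCommGrpCat.subsingleton_of_isZero ((Functor.map_isZero (forget₂ (ModuleCat.{u} Γ(S, V)) AddCommGrpCat.{u})
        (h4 q hq ((ModuleCat.restrictScalars φ).obj N))).of_iso (e.app N))
    exact ModuleCat.isZero_of_subsingleton _
  · obtain ⟨e⟩ := h5 p
    haveI : CompactSpace (f ⁻¹ᵁ V).toScheme :=
      isCompact_iff_compactSpace.1 (f.isCompact_preimage hV.isCompact)
    haveI : (f ⁻¹ᵁ V).toScheme.IsSeparated := ⟨by
      haveI : IsAffine V.toScheme := hV
      rw [← Limits.terminal.comp_from (f.resLE V (f ⁻¹ᵁ V) le_rfl)]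
      infer_instance⟩
    let k := X.homOfLE (f.preimage_mono hle)
    have hk : k ≫ (f ⁻¹ᵁ V).ι = (f ⁻¹ᵁ V').ι := X.homOfLE_ι _
    have hsp : Spec.map (CommRingCat.ofHom φ) ≫ hV.fromSpec = hV'.fromSpec := hV.map_fromSpec hV' (homOfLE hle).op
    have hbig : IsPullback (k ≫ (f ⁻¹ᵁ V).ι) (secπ f hV' le_rfl) f (Spec.map (CommRingCat.ofHom φ) ≫ hV.fromSpec) := by
      rw [hk, hsp]; exact isPullback_secπ f hV'
    have hsq : IsPullback k (secπ f hV' le_rfl) (secπ f hV le_rfl) (Spec.map (CommRingCat.ofHom φ)) := by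
      refine IsPullback.of_right hbig ?_ (isPullback_secπ f hV)
      rw [← cancel_mono hV.fromSpec, Category.assoc, Category.assoc, hsp, ← (isPullback_secπ f hV).w,
        ← Category.assoc, hk]
      exact (isPullback_secπ f hV').w
    exact exists_tfun_bc φ k hsq (isQCoh_restrict _ hF)
      ((Scheme.Modules.pullback k).mapIso ((Scheme.Modules.restrictFunctorIsoPullback _).app F) ≪≫
        (Scheme.Modules.pullbackComp k (f ⁻¹ᵁ V).ι).app F ≪≫ (Scheme.Modules.pullbackCongr hk).app F ≪≫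
        ((Scheme.Modules.restrictFunctorIsoPullback _).app F).symm) P _ p e

/-- The exchange property does not depend on the model. -/
theorem preservesEpi_of_iso {A : Type u} [CommRing A] {T T' : ModuleCat.{u} A ⥤ ModuleCat.{u} A}
    (e : T ⋙ forget₂ (ModuleCat.{u} A) AddCommGrpCat.{u} ≅ T' ⋙ forget₂ (ModuleCat.{u} A) AddCommGrpCat.{u})
    (h : T.PreservesEpimorphisms) : T'.PreservesEpimorphisms := by
  refine ⟨fun {M N} g _ => (ModuleCat.epi_iff_surjective _).2 fun y => ?_⟩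
  obtain ⟨z, hz⟩ := (ModuleCat.epi_iff_surjective (T.map g)).1
    (@Functor.PreservesEpimorphisms.preserves _ _ _ _ _ h _ _ g ‹_›) ((e.app N).addCommGroupIsoToAddEquiv.symm y)
  refine ⟨(e.app M).addCommGroupIsoToAddEquiv z,
    (ConcreteCategory.congr_hom (e.hom.naturality g) z).symm.trans ?_⟩
  exact (congrArg (e.app N).addCommGroupIsoToAddEquiv hz).trans ((e.app N).addCommGroupIsoToAddEquiv.apply_symm_apply y)

theorem IsModel.preservesEpi_of_isModel {P' : ChainComplex (ModuleCat.{u} Γ(S, V)) ℤ} (hP : IsModel f F hV P)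
    (hP' : IsModel f F hV P') (p : ℕ) (h : (CohIII.TFun P (-(p : ℤ))).PreservesEpimorphisms) :
    (CohIII.TFun P' (-(p : ℤ))).PreservesEpimorphisms := by
  obtain ⟨e⟩ := hP.2.2.2.2 p
  obtain ⟨e'⟩ := hP'.2.2.2.2 p
  exact preservesEpi_of_iso (e ≪≫ e'.symm) h

variable (f F) in
/-- Near `s` the functor of degree `p` is right exact. -/
def ExchAt (p : ℕ) (s : S) : Prop :=
  ∃ (V : S.Opens) (hV : IsAffineOpen V) (P : ChainComplex (ModuleCat.{u} Γ(S, V)) ℤ),
    s ∈ V ∧ IsModel f F hV P ∧ (CohIII.TFun P (-(p : ℤ))).PreservesEpimorphisms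

variable (f F) in
/-- Near `s` the functor of degree `p` vanishes. -/
def VanAt (p : ℕ) (s : S) : Prop :=
  ∃ (V : S.Opens) (hV : IsAffineOpen V) (P : ChainComplex (ModuleCat.{u} Γ(S, V)) ℤ),
    s ∈ V ∧ IsModel f F hV P ∧ ∀ M, IsZero ((CohIII.TFun P (-(p : ℤ))).obj M)

theorem isOpen_exchAt (p : ℕ) : IsOpen {s : S | ExchAt f F p s} :=
  isOpen_iff_forall_mem_open.2 fun _ ⟨V, hV, P, hs, hP, h⟩ =>
    ⟨V, fun t ht => ⟨V, hV, P, ht, hP, h⟩, V.2, hs⟩

theorem isOpen_vanAt (p : ℕ) : IsOpen {s : S | VanAt f F p s} :=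
  isOpen_iff_forall_mem_open.2 fun _ ⟨V, hV, P, hs, hP, h⟩ =>
    ⟨V, fun t ht => ⟨V, hV, P, ht, hP, h⟩, V.2, hs⟩

theorem preservesEpi_bc {A B : Type u} [CommRing A] [CommRing B] (φ : A →+* B)
    (P : ChainComplex (ModuleCat.{u} A) ℤ) (q : ℤ) (h : (CohIII.TFun P q).PreservesEpimorphisms) :
    (CohIII.TFun (CohIII.bcCx φ P) q).PreservesEpimorphisms := by
  obtain ⟨e⟩ := nonempty_bcT_iso P φ q
  refine ⟨fun {M N} g _ => (ModuleCat.epi_iff_surjective _).2 fun y => ?_⟩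
  haveI : Epi ((ModuleCat.restrictScalars φ).map g) := inferInstance
  obtain ⟨z, hz⟩ := (ModuleCat.epi_iff_surjective _).1
    (@Functor.PreservesEpimorphisms.preserves _ _ _ _ _ h _ _ ((ModuleCat.restrictScalars φ).map g) ‹_›)
    ((e.app N).addCommGroupIsoToAddEquiv y)
  refine ⟨(e.app M).addCommGroupIsoToAddEquiv.symm z, (e.app N).addCommGroupIsoToAddEquiv.injective ?_⟩
  refine (ConcreteCategory.congr_hom (e.hom.naturality g) _).trans (Eq.trans ?_ hz)
  exact congrArg ((CohIII.TFun P q).map ((ModuleCat.restrictScalars φ).map g)).hom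
    ((e.app M).addCommGroupIsoToAddEquiv.apply_symm_apply z)

theorem isZero_bc {A B : Type u} [CommRing A] [CommRing B] (φ : A →+* B)
    (P : ChainComplex (ModuleCat.{u} A) ℤ) (q : ℤ) (h : ∀ M, IsZero ((CohIII.TFun P q).obj M))
    (N : ModuleCat.{u} B) : IsZero ((CohIII.TFun (CohIII.bcCx φ P) q).obj N) := by
  obtain ⟨e⟩ := nonempty_bcT_iso P φ q
  haveI : Subsingleton ((CohIII.TFun (CohIII.bcCx φ P) q).obj N) :=
    AddCommGrpCat.subsingleton_of_isZero ((Functor.map_isZero (forget₂ (ModuleCat.{u} A) AddCommGrpCat.{u})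
      (h ((ModuleCat.restrictScalars φ).obj N))).of_iso (e.app N))
  exact ModuleCat.isZero_of_subsingleton _

/-- On an affine open where everything is right exact, every model is. -/
theorem IsModel.preservesEpi_of_le [QuasiCompact f] [IsSeparated f] (hF : Coh.IsQCoh F) (hP : IsModel f F hV P)
    (p : ℕ) (h : (CohIII.TFun P (-(p : ℤ))).PreservesEpimorphisms) {V' : S.Opens} {hV' : IsAffineOpen V'}
    (hle : V' ≤ V) {P' : ChainComplex (ModuleCat.{u} Γ(S, V')) ℤ} (hP' : IsModel f F hV' P') :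
    (CohIII.TFun P' (-(p : ℤ))).PreservesEpimorphisms :=
  (hP.of_le hF hV' hle).preservesEpi_of_isModel hP' p (preservesEpi_bc _ P _ h)

theorem IsModel.isZero_of_le [QuasiCompact f] [IsSeparated f] (hF : Coh.IsQCoh F) (hP : IsModel f F hV P)
    (p : ℕ) (h : ∀ M, IsZero ((CohIII.TFun P (-(p : ℤ))).obj M)) {V' : S.Opens} {hV' : IsAffineOpen V'}
    (hle : V' ≤ V) {P' : ChainComplex (ModuleCat.{u} Γ(S, V')) ℤ} (hP' : IsModel f F hV' P')
    (M : ModuleCat.{u} Γ(S, V')) : IsZero ((CohIII.TFun P' (-(p : ℤ))).obj M) := by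
  obtain ⟨e⟩ := (hP.of_le hF hV' hle).2.2.2.2 p
  obtain ⟨e'⟩ := hP'.2.2.2.2 p
  haveI : Subsingleton ((CohIII.TFun P' (-(p : ℤ))).obj M) :=
    AddCommGrpCat.subsingleton_of_isZero ((Functor.map_isZero (forget₂ _ AddCommGrpCat.{u})
      (isZero_bc _ P _ h M)).of_iso ((e' ≪≫ e.symm).app M))
  exact ModuleCat.isZero_of_subsingleton _

theorem VanAt.exchAt {p : ℕ} {s : S} (h : VanAt f F p s) : ExchAt f F p s := by
  obtain ⟨V, hV, P, hs, hP, h⟩ := h
  exact ⟨V, hV, P, hs, hP, (isExactT_of_isZero h).2⟩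

theorem VanAt.exchAt_pred {p : ℕ} {s : S} (h : VanAt f F (p + 1) s) : ExchAt f F p s := by
  obtain ⟨V, hV, P, hs, hP, h⟩ := h
  exact ⟨V, hV, P, hs, hP, (preservesEpi_iff_preservesMono hP.flat
    (show -((p + 1 : ℕ) : ℤ) + 1 = -(p : ℤ) by lia)).2 (isExactT_of_isZero h).1⟩

/-- A model, centred at `s`, inside a given open set. -/
theorem exists_isModel_nhd [IsProper f] [LocallyOfFinitePresentation f] (hF : Coh.IsQCoh F) (hfp : CohB1.IsFP F)
    (hfl : FlatMod.IsFlatOver f F) {s : S} {U : S.Opens} (hs : s ∈ U) :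
    ∃ (V : S.Opens) (hV : IsAffineOpen V) (P : ChainComplex (ModuleCat.{u} Γ(S, V)) ℤ),
      s ∈ V ∧ V ≤ U ∧ IsModel f F hV P := by
  obtain ⟨_, ⟨V, hV, rfl⟩, hsV, hVU⟩ := S.isBasis_affineOpens.exists_subset_of_mem_open hs U.2
  obtain ⟨P, hP⟩ := exists_isModel (f := f) hF hfp hfl hV
  exact ⟨V, hV, P, hsV, hVU, hP⟩

/-- Exchange in all needed degrees may be realised by one small affine open. -/
theorem exists_common_nhd [IsProper f] [LocallyOfFinitePresentation f] (hF : Coh.IsQCoh F) (hfp : CohB1.IsFP F)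
    (hfl : FlatMod.IsFlatOver f F) {s : S} {U : S.Opens} (hs : s ∈ U) {p q : ℕ} (h₁ : ExchAt f F p s)
    (h₂ : ExchAt f F q s) :
    ∃ (V : S.Opens) (hV : IsAffineOpen V) (P : ChainComplex (ModuleCat.{u} Γ(S, V)) ℤ),
      s ∈ V ∧ V ≤ U ∧ IsModel f F hV P ∧ (CohIII.TFun P (-(p : ℤ))).PreservesEpimorphisms ∧
        (CohIII.TFun P (-(q : ℤ))).PreservesEpimorphisms := by
  obtain ⟨V₁, hV₁, P₁, hs₁, hP₁, h₁⟩ := h₁
  obtain ⟨V₂, hV₂, P₂, hs₂, hP₂, h₂⟩ := h₂
  obtain ⟨V, hV, P, hsV, hle, hP⟩ := exists_isModel_nhd (f := f) hF hfp hfl (s := s) (U := U ⊓ V₁ ⊓ V₂)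
    ⟨⟨hs, hs₁⟩, hs₂⟩
  exact ⟨V, hV, P, hsV, hle.trans (inf_le_left.trans inf_le_left), hP,
    hP₁.preservesEpi_of_le hF p h₁ (hle.trans (inf_le_left.trans inf_le_right)) hP,
    hP₂.preservesEpi_of_le hF q h₂ (hle.trans inf_le_right) hP⟩

end Model

end Groth.Agent.CohPullLib
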