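import Groth.Agent.CohPullLib.Edge

/-!
# Pullback of cohomology classes along maps `A ⟶ f_* B` of abelian sheaves
-/

set_option backward.isDefEq.respectTransparency false
set_option backward.isDefEq.respectTransparency.types false
set_option linter.style.haveILetI false

universe u

open CategoryTheory CategoryTheory.Limits CategoryTheory.Abelian TopologicalSpace Opposite

namespace Groth.Agent.CohPullLib

variable {X Y Z : TopCat.{u}} (f : X ⟶ Y)

/-- The pullback of classes along `ψ : A ⟶ f_* B`. -/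
noncomputable def pab {A : CohTop.Ab Y} {B : CohTop.Ab X} (ψ : A ⟶ (CohTop.push f).obj B) (p : ℕ) :
    Sheaf.H A p →+ Sheaf.H B p :=
  (Sheaf.H.map (((CohPull.invPushAdj f).homEquiv A B).symm ψ) p).comp (CohPull.pullAb f A p)

theorem pab_apply {A : CohTop.Ab Y} {B : CohTop.Ab X} (ψ : A ⟶ (CohTop.push f).obj B) (p : ℕ)
    (x : Sheaf.H A p) :
    pab f ψ p x = ((Ext.mk₀ (CohPull.oneTo f)).comp (x.mapExactFunctor (CohPull.inv f)) (zero_add p)).comp
      (Ext.mk₀ (((CohPull.invPushAdj f).homEquiv A B).symm ψ)) (add_zero p) :=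
  rfl

theorem equiv₀_pab {A : CohTop.Ab Y} {B : CohTop.Ab X} (ψ : A ⟶ (CohTop.push f).obj B) (x : Sheaf.H A 0) :
    Sheaf.H.equiv₀ B (isTerminalTop : IsTerminal (⊤ : Opens X)) (pab f ψ 0 x) =
      ψ.hom.app (op ⊤) (Sheaf.H.equiv₀ A (isTerminalTop : IsTerminal (⊤ : Opens Y)) x) := by
  refine (Sheaf.H.equiv₀_naturality (isTerminalTop : IsTerminal (⊤ : Opens X)) _ _).symm.trans ?_
  rw [CohPull.equiv₀_pullAb]
  obtain ⟨φ, rfl⟩ := ((CohPull.invPushAdj f).homEquiv A B).surjective ψ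
  rw [Equiv.symm_apply_apply, Adjunction.homEquiv_unit]
  rfl

theorem pab_congr_map {A : CohTop.Ab Y} {B B' : CohTop.Ab X} (ψ : A ⟶ (CohTop.push f).obj B) (φ : B ⟶ B')
    (p : ℕ) (x : Sheaf.H A p) :
    Sheaf.H.map φ p (pab f ψ p x) = pab f (ψ ≫ (CohTop.push f).map φ) p x := by
  rw [pab_apply, pab_apply, Adjunction.homEquiv_naturality_right_symm, Sheaf.H.map_apply,
    Ext.comp_assoc_of_third_deg_zero, Ext.mk₀_comp_mk₀]

theorem pab_map {A A' : CohTop.Ab Y} {B : CohTop.Ab X} (φ : A ⟶ A') (ψ : A' ⟶ (CohTop.push f).obj B)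
    (p : ℕ) (x : Sheaf.H A p) :
    pab f ψ p (Sheaf.H.map φ p x) = pab f (φ ≫ ψ) p x := by
  rw [pab_apply, pab_apply, Adjunction.homEquiv_naturality_left_symm, Sheaf.H.map_apply,
    Ext.mapExactFunctor_comp, Ext.mapExactFunctor_mk₀]
  simp only [Ext.comp_assoc_of_third_deg_zero, Ext.mk₀_comp_mk₀]

theorem pab_delta {S : ShortComplex (CohTop.Ab Y)} {S' : ShortComplex (CohTop.Ab X)} (hS : S.ShortExact)
    (hS' : S'.ShortExact) (φ : S ⟶ S'.map (CohTop.push f)) (p : ℕ) (x : Sheaf.H S.X₃ p) :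
    pab f φ.τ₁ (p + 1) (x.comp hS.extClass rfl) = (pab f φ.τ₃ p x).comp hS'.extClass rfl := by
  have hn : (Ext.mapExactFunctor (CohPull.inv f) hS.extClass).comp
      (Ext.mk₀ (((CohPull.invPushAdj f).homEquiv _ _).symm φ.τ₁)) (add_zero 1) =
      (Ext.mk₀ (((CohPull.invPushAdj f).homEquiv _ _).symm φ.τ₃)).comp hS'.extClass (zero_add 1) :=
    (congrArg (fun t => Ext.comp t (Ext.mk₀ (((CohPull.invPushAdj f).homEquiv _ _).symm φ.τ₁)) (add_zero 1))
      (Ext.mapExactFunctor_extClass (CohPull.inv f) hS)).trans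
      (ShortComplex.ShortExact.extClass_naturality (hS.map_of_exact (CohPull.inv f)) hS'
        ({ τ₁ := ((CohPull.invPushAdj f).homEquiv _ _).symm φ.τ₁, τ₂ := ((CohPull.invPushAdj f).homEquiv _ _).symm φ.τ₂,
           τ₃ := ((CohPull.invPushAdj f).homEquiv _ _).symm φ.τ₃,
           comm₁₂ := by
            refine ((CohPull.invPushAdj f).homEquiv_naturality_right_symm _ _).symm.trans (Eq.trans ?_
              ((CohPull.invPushAdj f).homEquiv_naturality_left_symm _ _))
            exact congrArg _ φ.comm₁₂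
           comm₂₃ := by
            refine ((CohPull.invPushAdj f).homEquiv_naturality_right_symm _ _).symm.trans (Eq.trans ?_
              ((CohPull.invPushAdj f).homEquiv_naturality_left_symm _ _))
            exact congrArg _ φ.comm₂₃ } : S.map (CohPull.inv f) ⟶ S'))
  rw [pab_apply, pab_apply]
  simp only [Ext.mapExactFunctor_comp, Ext.comp_assoc_of_third_deg_zero, hn]
  rw [← Ext.comp_assoc_of_second_deg_zero (x.mapExactFunctor (CohPull.inv f))]
  exact (Ext.comp_assoc _ _ _ (zero_add p) rfl (by omega)).symm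

theorem exists_ses_lift {B : CohTop.Ab X} {S : ShortComplex (CohTop.Ab Y)} (hS : S.ShortExact)
    (ψ : S.X₁ ⟶ (CohTop.push f).obj B) :
    ∃ (Q C : CohTop.Ab X) (i : B ⟶ Q) (π : Q ⟶ C) (w : i ≫ π = 0) (_ : (ShortComplex.mk i π w).ShortExact)
      (φ : S ⟶ (ShortComplex.mk i π w).map (CohTop.push f)), φ.τ₁ = ψ := by
  haveI := hS.mono_f
  haveI := hS.epi_g
  haveI : Injective ((CohTop.push f).obj (Injective.under B)) :=
    Injective.injective_of_adjoint (CohPull.invPushAdj f) _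
  let π := cokernel.π (Injective.ι B)
  let b := Injective.factorThru (ψ ≫ (CohTop.push f).map (Injective.ι B)) S.f
  have hb : S.f ≫ b = ψ ≫ (CohTop.push f).map (Injective.ι B) := Injective.comp_factorThru _ _
  have h0 : S.f ≫ b ≫ (CohTop.push f).map π = 0 := by
    rw [← Category.assoc, hb, Category.assoc, ← Functor.map_comp, cokernel.condition, Functor.map_zero,
      comp_zero]
  exact ⟨_, _, Injective.ι B, π, cokernel.condition _,
    { exact := ShortComplex.exact_of_g_is_cokernel _ (cokernelIsCokernel (Injective.ι B)) },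
    { τ₁ := ψ
      τ₂ := b
      τ₃ := hS.exact.desc (b ≫ (CohTop.push f).map π) h0
      comm₁₂ := hb.symm
      comm₂₃ := (hS.exact.g_desc _ _).symm }, rfl⟩

/-- The pullback along a composite map. -/
theorem pab_comp (g : Y ⟶ Z) (p : ℕ) : ∀ (A : CohTop.Ab Z) (B : CohTop.Ab Y) (C : CohTop.Ab X)
    (ψ : A ⟶ (CohTop.push g).obj B) (χ : B ⟶ (CohTop.push f).obj C) (x : Sheaf.H A p),
    pab f χ p (pab g ψ p x) = pab (f ≫ g) (ψ ≫ (CohTop.push g).map χ) p x := by
  induction p with
  | zero =>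
    intro A B C ψ χ x
    apply (Sheaf.H.equiv₀ C (isTerminalTop : IsTerminal (⊤ : Opens X))).injective
    refine (equiv₀_pab f χ _).trans ((congrArg _ (equiv₀_pab g ψ x)).trans ?_)
    exact (equiv₀_pab (f ≫ g) (ψ ≫ (CohTop.push g).map χ) x).symm
  | succ p ih =>
    intro A B C ψ χ x
    let S := ShortComplex.mk (Injective.ι A) (cokernel.π (Injective.ι A)) (cokernel.condition _)
    have hS : S.ShortExact :=
      { exact := ShortComplex.exact_of_g_is_cokernel _ (cokernelIsCokernel (Injective.ι A)) }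
    obtain ⟨y, hy⟩ := Ext.covariant_sequence_exact₁ _ hS x
      (haveI : Injective S.X₂ := inferInstanceAs (Injective (Injective.under A))
       Ext.eq_zero_of_injective _) (rfl : p + 1 = p + 1)
    subst hy
    obtain ⟨Q, R, i, π, w, hS', φ, rfl⟩ := exists_ses_lift g hS ψ
    obtain ⟨Q', R', i', π', w', hS'', φ', rfl⟩ := exists_ses_lift f hS' χ
    let S' := ShortComplex.mk i π w
    let S'' := ShortComplex.mk i' π' w'
    let φ'' : S ⟶ S''.map (CohTop.push (f ≫ g)) :=
      { τ₁ := φ.τ₁ ≫ (CohTop.push g).map φ'.τ₁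
        τ₂ := φ.τ₂ ≫ (CohTop.push g).map φ'.τ₂
        τ₃ := φ.τ₃ ≫ (CohTop.push g).map φ'.τ₃
        comm₁₂ := by
          refine Eq.trans ?_ ((congrArg (· ≫ (CohTop.push g).map φ'.τ₂) φ.comm₁₂).trans (Category.assoc _ _ _))
          refine (Category.assoc _ _ _).trans (Eq.trans ?_ (Category.assoc _ _ _).symm)
          refine congrArg (φ.τ₁ ≫ ·) ?_
          exact (((CohTop.push g).map_comp _ _).symm.trans (congrArg _ φ'.comm₁₂)).trans
            ((CohTop.push g).map_comp _ _)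
        comm₂₃ := by
          refine Eq.trans ?_ ((congrArg (· ≫ (CohTop.push g).map φ'.τ₃) φ.comm₂₃).trans (Category.assoc _ _ _))
          refine (Category.assoc _ _ _).trans (Eq.trans ?_ (Category.assoc _ _ _).symm)
          refine congrArg (φ.τ₂ ≫ ·) ?_
          exact (((CohTop.push g).map_comp _ _).symm.trans (congrArg _ φ'.comm₂₃)).trans
            ((CohTop.push g).map_comp _ _) }
    rw [pab_delta g hS hS' φ, pab_delta f hS' hS'' φ', ih]
    exact (pab_delta (f ≫ g) hS hS'' φ'' p y).symm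

theorem pab_comp' (g : Y ⟶ Z) {h : X ⟶ Z} (e : h = f ≫ g) {A : CohTop.Ab Z} {B : CohTop.Ab Y}
    {C : CohTop.Ab X} (ψ : A ⟶ (CohTop.push g).obj B) (χ : B ⟶ (CohTop.push f).obj C)
    (θ : A ⟶ (CohTop.push h).obj C)
    (hθ : ∀ (V : Opens Z) (s : A.obj.obj (op V)), θ.hom.app (op V) s =
      C.obj.map (eqToHom (congrArg (fun t : X ⟶ Z => (Opens.map t).obj V) e)).op
        (χ.hom.app (op ((Opens.map g).obj V)) (ψ.hom.app (op V) s)))
    (p : ℕ) (x : Sheaf.H A p) : pab f χ p (pab g ψ p x) = pab h θ p x := by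
  subst e
  rw [pab_comp]
  refine congrArg (fun t => pab (f ≫ g) t p x) ?_
  ext V s
  refine Eq.trans ?_ (hθ (unop V) s).symm
  exact (ConcreteCategory.congr_hom (C.obj.map_id _) _).symm

end Groth.Agent.CohPullLib
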