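import Groth.Agent.CohPullLib.PullOnPab
import Groth.Agent.QCoh.TensorA
import Groth.Agent.QCoh.FlatBC
import Groth.Agent.FlatCxLib.TFunctor

/-!
# Pullback of classes along a base change is the exchange map
-/

set_option backward.isDefEq.respectTransparency false
set_option backward.isDefEq.respectTransparency.types false
set_option linter.style.haveILetI false
set_option maxRecDepth 4000
set_option maxHeartbeats 1000000

universe u

open CategoryTheory CategoryTheory.Limits AlgebraicGeometry TopologicalSpace Opposite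
open scoped TensorProduct

namespace Groth.Agent.CohPullLib

open Groth.Agent.QCoh

variable {A B : Type u} [CommRing A] [CommRing B] [Algebra A B]
  {X X' : Scheme.{u}} [X.Over (Spec (CommRingCat.of A))]
  {πB : X' ⟶ Spec (CommRingCat.of B)} {k : X' ⟶ X}

variable (F : X.Modules)

/-- `s ↦ s ⊗ m` as a map of abelian sheaves. -/
noncomputable def jB (M : ModuleCat.{u} A) (m : M) : Coh.toAb F ⟶ Coh.toAb (tA F M) :=
  ⟨{ app := fun V => AddCommGrpCat.ofHom (AddMonoidHom.mk'
      (fun s : Γ(F, V.unop) => (show Γ(tA F M, V.unop) from tmS _ F (uSec M V.unop m) s))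
      fun s s' => tmS_add_right _ F _ s s')
     naturality := fun V W i => AddCommGrpCat.ext fun s =>
      (map_tauA F M i.unop s m).symm }⟩

theorem jB_app (M : ModuleCat.{u} A) (m : M) (V : X.Opens) (s : Γ(F, V)) :
    (jB F M m).hom.app (op V) s = tmS _ F (uSec M V m) s :=
  rfl

theorem jB_map {M N : ModuleCat.{u} A} (g : M ⟶ N) (m : M) :
    jB F M m ≫ (SheafOfModules.toSheaf X.ringCatSheaf).map ((CohIII.tensorAFunctor A F).map g) =
      jB F N (g.hom m) := by
  ext V s
  exact tauA_naturality F g V.unop s m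

theorem smulAb_jB (M : ModuleCat.{u} A) (m : M) (a : A) :
    Coh.smulAb F (Coh.toGlobal (X ↘ Spec (CommRingCat.of A)) a) ≫ jB F M m = jB F M (a • m) := by
  ext V s
  show tmS _ F (uSec M V.unop m) ((show Γ(X, V.unop) from Coh.resTop X V (Coh.toGlobal (X ↘ Spec (CommRingCat.of A)) a)) • (show Γ(F, V.unop) from s)) =
    tmS _ F (uSec M V.unop (a • m)) s
  rw [uSec_smul, tmS_smul_right]
  exact (tmS_smul_left _ F _ _ _).symm

theorem isBasis_affine (Y : Scheme.{u}) : Opens.IsBasis (Set.range fun U : Y.affineOpens => U.1) := by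
  rw [Subtype.range_coe]
  exact Y.isBasis_affineOpens

theorem bijective_jB_one (hF : Coh.IsQCoh F) {V : X.Opens} (hV : IsAffineOpen V) :
    Function.Bijective ((jB F (ModuleCat.of A A) 1).hom.app (op V)) := by
  letI := secModule (Coh.toGlobal (X ↘ Spec (CommRingCat.of A))) F V
  exact (bijective_tauA F hF (ModuleCat.of A A) hV).comp (TensorProduct.rid A Γ(F, V)).symm.bijective

theorem isIso_jB_one (hF : Coh.IsQCoh F) : IsIso (jB F (ModuleCat.of A A) (1 : A)) := by
  refine TopCat.Sheaf.isIso_iff_isIso_basis (isBasis_affine X) fun U => ?_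
  exact (ConcreteCategory.isIso_iff_bijective _).2 (bijective_jB_one F hF U.2)

variable (A) in
/-- The scalars of `B` on the pullback. -/
noncomputable abbrev smulPull (F' : X'.Modules) (b : B) : Coh.toAb F' ⟶ Coh.toAb F' :=
  Coh.smulAb F' (Coh.toGlobal πB b)

variable (hk : IsPullback k πB (X ↘ Spec (CommRingCat.of A)) (Spec.map (CommRingCat.ofHom (algebraMap A B))))

/-- The unit as a map of abelian sheaves. -/
noncomputable abbrev unitAb : Coh.toAb F ⟶
    (CohTop.push k.base).obj (Coh.toAb ((Scheme.Modules.pullback k).obj F)) :=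
  (SheafOfModules.toSheaf X.ringCatSheaf).map ((Scheme.Modules.pullbackPushforwardAdjunction k).unit.app F)

theorem unitAb_app (V : X.Opens) (s : Γ(F, V)) :
    (unitAb (k := k) F).hom.app (op V) s = pullSec k F le_rfl s :=
  (map_id' (homOfLE (le_refl (k ⁻¹ᵁ V))) _).symm

include hk in
theorem exists_theta (hF : Coh.IsQCoh F) :
    ∃ θ : Coh.toAb (tA F (ModuleCat.of A B)) ⟶
      (CohTop.push k.base).obj (Coh.toAb ((Scheme.Modules.pullback k).obj F)), IsIso θ ∧
      ∀ b : B, jB F (ModuleCat.of A B) b ≫ θ = unitAb F ≫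
        (CohTop.push k.base).map (Coh.smulAb ((Scheme.Modules.pullback k).obj F) (Coh.toGlobal πB b)) := by
  let F' := (Scheme.Modules.pullback k).obj F
  let MB := ModuleCat.of A B
  let ρ := Coh.toGlobal (X ↘ Spec (CommRingCat.of A))
  let ρ' := Coh.toGlobal πB
  have hρ := toGlobal_comm (X ↘ Spec (CommRingCat.of A)) πB k hk.w
  let G := (CohTop.push k.base).obj (Coh.toAb F')
  have key : ∀ U : X.affineOpens, ∃ t : Γ(tA F MB, U.1) →+ Γ(F', k ⁻¹ᵁ U.1), Function.Bijective t ∧
      ∀ (s : Γ(F, U.1)) (b : B), t (tmS _ F (uSec MB U.1 b) s) =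
        (show Γ(X', k ⁻¹ᵁ U.1) from Coh.resTop X' (op (k ⁻¹ᵁ U.1)) (ρ' b)) • pullSec k F le_rfl s := by
    intro U
    letI := secModule ρ F U.1
    letI := secModule ρ' F' (k ⁻¹ᵁ U.1)
    letI := secModule (ρ'.comp (algebraMap A B)) F' (k ⁻¹ᵁ U.1)
    haveI : IsScalarTower A B Γ(F', k ⁻¹ᵁ U.1) := .of_algebraMap_smul fun _ _ => rfl
    let η : F ⟶ (Scheme.Modules.pushforward k).obj F' :=
      (Scheme.Modules.pullbackPushforwardAdjunction k).unit.app F
    have h : IsBaseChange B (secLin ρ ρ' k η hρ U.1 (k ⁻¹ᵁ U.1) le_rfl) :=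
      isAffineBC_of_isPullback hk hF U.1 U.2
    let τ := AddEquiv.ofBijective (tauA F MB U.1).toAddMonoidHom (bijective_tauA F hF MB U.2)
    let e := ((TensorProduct.comm A Γ(F, U.1) B).toAddEquiv.trans h.equiv.toAddEquiv)
    refine ⟨(τ.symm.trans e).toAddMonoidHom, (τ.symm.trans e).bijective, fun s b => ?_⟩
    have h1 : τ.symm (tmS _ F (uSec MB U.1 b) s) = (s ⊗ₜ[A] (show MB from b)) := by
      rw [AddEquiv.symm_apply_eq]
      rfl
    show e (τ.symm _) = _
    rw [h1]
    show h.equiv (TensorProduct.comm A Γ(F, U.1) B (s ⊗ₜ[A] b)) = _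
    rw [TensorProduct.comm_tmul, IsBaseChange.equiv_tmul]
    rfl
  choose t ht hts using key
  have nat : ∀ (U V : X.affineOpens) (i : U.1 ⟶ V.1) (z : Γ(tA F MB, V.1)),
      t U ((tA F MB).presheaf.map i.op z) =
        F'.presheaf.map ((Opens.map k.base).map i).op (t V z) := by
    intro U V i z
    letI := secModule ρ F V.1
    obtain ⟨w, rfl⟩ := (bijective_tauA F hF MB V.2).2 z
    induction w using TensorProduct.induction_on with
    | zero => simp
    | add x y hx hy => simp only [map_add, hx, hy]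
    | tmul s b =>
      refine (congrArg (t U) (map_tauA F MB i s b)).trans ((hts U _ b).trans ?_)
      refine Eq.trans ?_ (congrArg _ (hts V s b)).symm
      refine Eq.trans ?_ (Scheme.Modules.map_smul F' _ _ _).symm
      refine congrArg₂ (· • ·) ?_ ?_
      · exact (congr($((X'.presheaf.map_comp _ _).symm.trans (congrArg X'.presheaf.map (Subsingleton.elim _ _))) (ρ' b))).symm
      · exact (ExistEasy.pullSec_res k F i.le (k.preimage_mono i.le) le_rfl le_rfl s).symm
  let α : (inducedFunctor (fun U : X.affineOpens => U.1)).op ⋙ (Coh.toAb (tA F MB)).obj ⟶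
      (inducedFunctor (fun U : X.affineOpens => U.1)).op ⋙ G.obj :=
    { app := fun U => AddCommGrpCat.ofHom (t U.unop)
      naturality := fun V U i => AddCommGrpCat.ext fun z => nat U.unop V.unop i.unop.hom z }
  let θ : Coh.toAb (tA F MB) ⟶ G := ⟨TopCat.Sheaf.restrictHomEquivHom _ G (isBasis_affine X) α⟩
  have hθ : ∀ U : X.affineOpens, θ.hom.app (op U.1) = AddCommGrpCat.ofHom (t U) := fun U =>
    TopCat.Sheaf.extend_hom_app _ G (isBasis_affine X) α U
  refine ⟨θ, TopCat.Sheaf.isIso_iff_isIso_basis (isBasis_affine X) fun U => ?_, fun b => ?_⟩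
  · rw [hθ]
    exact (ConcreteCategory.isIso_iff_bijective _).2 (ht U)
  · refine Sheaf.hom_ext (TopCat.Sheaf.hom_ext _ _ (isBasis_affine X) fun U => ?_)
    ext s
    show θ.hom.app (op U.1) ((jB F MB b).hom.app (op U.1) s) =
      (show Γ(X', k ⁻¹ᵁ U.1) from Coh.resTop X' (op (k ⁻¹ᵁ U.1)) (ρ' b)) • (show Γ(F', k ⁻¹ᵁ U.1) from (unitAb F).hom.app (op U.1) s)
    rw [hθ, jB_app, unitAb_app]
    exact hts U s b

end Groth.Agent.CohPullLib
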