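import Groth.Agent.CohPullLib.PAb
import Groth.Agent.CohPullLib.SectPull

/-!
# `pullOn` and `resLE` as pullbacks along maps to direct images
-/

set_option backward.isDefEq.respectTransparency false
set_option backward.isDefEq.respectTransparency.types false
set_option maxRecDepth 4000

universe u

open CategoryTheory AlgebraicGeometry TopologicalSpace Opposite

namespace Groth.Agent.CohPullLib

open Groth.Agent.QCoh Groth.Agent.ExistEasy

variable {X Y : Scheme.{u}}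

theorem pullMod_eq_pab (g : X ⟶ Y) (M : Y.Modules) (p : ℕ) (x : Coh.HH Y M p) :
    CohPull.pullMod g M p x = pab g.base
      ((SheafOfModules.toSheaf Y.ringCatSheaf).map
        ((Scheme.Modules.pullbackPushforwardAdjunction g).unit.app M)) p x :=
  rfl

/-- The identification of `pullOn`, on all sections. -/
theorem pullOnIso_pullSec' (g : X ⟶ Y) (U : Y.Opens) (U' : X.Opens) (h : U' ≤ g ⁻¹ᵁ U) (F : Y.Modules)
    (W : U.toScheme.Opens) (W' : U'.toScheme.Opens) (hW : W' ≤ g.resLE U U' h ⁻¹ᵁ W)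
    (s : Γ(F.restrict U.ι, W)) (hW₁ : U'.ι ''ᵁ W' ≤ g ⁻¹ᵁ (U.ι ''ᵁ W)) :
    (CohPull.pullOnIso g U U' h F).hom.app W' (pullSec (g.resLE U U' h) (F.restrict U.ι) hW s) =
      (show Γ(((Scheme.Modules.pullback g).obj F).restrict U'.ι, W') from
        pullSec g F hW₁ (show Γ(F, U.ι ''ᵁ W) from s)) := by
  let x : Γ(F, U.ι ''ᵁ W) := s
  have hU : W ≤ U.ι ⁻¹ᵁ (U.ι ''ᵁ W) := (U.ι.preimage_image_eq W).ge
  have hU' : W' ≤ U'.ι ⁻¹ᵁ (g ⁻¹ᵁ (U.ι ''ᵁ W)) := fun y hy => hW₁ ⟨y, hy, rfl⟩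
  have hs : (show Γ(F.restrict U.ι, W) from F.presheaf.map (homOfLE (le_refl (U.ι ''ᵁ W))).op x) = s :=
    QCoh.map_id' _ _
  simp only [CohPull.pullOnIso, Iso.trans_hom, Scheme.Modules.Hom.comp_app, ConcreteCategory.comp_apply,
    Iso.symm_hom, Iso.app_inv, Iso.app_hom, Functor.mapIso_hom]
  rw [pullSec_natural (g.resLE U U' h), ← hs, restrictIso_res U.ι F hU le_rfl]
  refine (congrArg (fun t => ((Scheme.Modules.restrictFunctorIsoPullback U'.ι).inv.app _).app W'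
      (((Scheme.Modules.pullbackComp U'.ι g).inv.app F).app W'
        (((Scheme.Modules.pullbackCongr (Scheme.Hom.resLE_comp_ι g h)).hom.app F).app W' t)))
    (pullSec_comp (g.resLE U U' h) U.ι F hU hW x)).trans ?_
  refine (congrArg (fun t => ((Scheme.Modules.restrictFunctorIsoPullback U'.ι).inv.app _).app W'
      (((Scheme.Modules.pullbackComp U'.ι g).inv.app F).app W' t))
    (pullSec_congr (Scheme.Hom.resLE_comp_ι g h) F _ x)).trans ?_
  refine (congrArg (fun t => ((Scheme.Modules.restrictFunctorIsoPullback U'.ι).inv.app _).app W' t)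
    (pullbackComp_inv_pullSec U'.ι g F (U := g ⁻¹ᵁ (U.ι ''ᵁ W)) le_rfl hU' x)).trans ?_
  refine (restrictIso_inv_pullSec U'.ι _ hU' hW₁ _).trans ?_
  refine (QCoh.map_map _ _ _).trans (congrArg _ ?_)
  exact congrArg (((Scheme.Modules.pullbackPushforwardAdjunction g).unit.app F).app _) hs.symm

/-- The map defining `pullOn`. -/
noncomputable def pullOnMap (g : X ⟶ Y) (U : Y.Opens) (U' : X.Opens) (h : U' ≤ g ⁻¹ᵁ U) (F : Y.Modules) :
    Coh.toAb (F.restrict U.ι) ⟶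
      (CohTop.push (g.resLE U U' h).base).obj (Coh.toAb (((Scheme.Modules.pullback g).obj F).restrict U'.ι)) :=
  (SheafOfModules.toSheaf U.toScheme.ringCatSheaf).map
      ((Scheme.Modules.pullbackPushforwardAdjunction (g.resLE U U' h)).unit.app (F.restrict U.ι)) ≫
    (CohTop.push (g.resLE U U' h).base).map
      ((SheafOfModules.toSheaf U'.toScheme.ringCatSheaf).map (CohPull.pullOnIso g U U' h F).hom)

theorem unitComp_app {Z W : Scheme.{u}} (j : Z ⟶ W) (M : W.Modules) {N : Z.Modules}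
    (φ : (Scheme.Modules.pullback j).obj M ⟶ N) (V : W.Opens) (s : Γ(M, V)) :
    ((SheafOfModules.toSheaf W.ringCatSheaf).map
        ((Scheme.Modules.pullbackPushforwardAdjunction j).unit.app M) ≫
      (CohTop.push j.base).map ((SheafOfModules.toSheaf Z.ringCatSheaf).map φ)).hom.app (op V) s =
      φ.app (j ⁻¹ᵁ V) (pullSec j M le_rfl s) :=
  congrArg (φ.app (j ⁻¹ᵁ V)) (QCoh.map_id' (homOfLE (le_refl (j ⁻¹ᵁ V))) _).symm

theorem compPush_app {Z W : Scheme.{u}} (j : Z ⟶ W) {A : CohTop.Ab W.toPresheafedSpace.carrier}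
    {M N : Z.Modules} (ψ : A ⟶ (CohTop.push j.base).obj (Coh.toAb M)) (φ : M ⟶ N) (V : W.Opens)
    (s : A.obj.obj (op V)) :
    (ψ ≫ (CohTop.push j.base).map ((SheafOfModules.toSheaf Z.ringCatSheaf).map φ)).hom.app (op V) s =
      φ.app (j ⁻¹ᵁ V) (show Γ(M, j ⁻¹ᵁ V) from ψ.hom.app (op V) s) :=
  rfl

theorem pullOn_eq_pab (g : X ⟶ Y) (U : Y.Opens) (U' : X.Opens) (h : U' ≤ g ⁻¹ᵁ U) (F : Y.Modules) (p : ℕ)
    (x : Coh.HHon Y F U p) :
    CohPull.pullOn g U U' h F p x = pab (g.resLE U U' h).base (pullOnMap g U U' h F) p x := by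
  show Sheaf.H.map _ p (CohPull.pullMod (g.resLE U U' h) (F.restrict U.ι) p x) = _
  rw [pullMod_eq_pab]
  exact pab_congr_map _ _ _ p x

theorem resLE_image_le (g : X ⟶ Y) (U : Y.Opens) (U' : X.Opens) (h : U' ≤ g ⁻¹ᵁ U) (W : U.toScheme.Opens) :
    U'.ι ''ᵁ (g.resLE U U' h ⁻¹ᵁ W) ≤ g ⁻¹ᵁ (U.ι ''ᵁ W) := by
  rintro _ ⟨y, hy, rfl⟩
  refine ⟨g.resLE U U' h y, hy, ?_⟩
  exact congrArg (fun t : U'.toScheme ⟶ Y => t y) (Scheme.Hom.resLE_comp_ι g h)

theorem pullOnMap_app (g : X ⟶ Y) (U : Y.Opens) (U' : X.Opens) (h : U' ≤ g ⁻¹ᵁ U) (F : Y.Modules)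
    (W : U.toScheme.Opens) (s : Γ(F.restrict U.ι, W)) :
    (pullOnMap g U U' h F).hom.app (op W) s =
      (show Γ(((Scheme.Modules.pullback g).obj F).restrict U'.ι, g.resLE U U' h ⁻¹ᵁ W) from
        pullSec g F (resLE_image_le g U U' h W) (show Γ(F, U.ι ''ᵁ W) from s)) := by
  refine (unitComp_app (g.resLE U U' h) (F.restrict U.ι) (CohPull.pullOnIso g U U' h F).hom W s).trans ?_
  exact pullOnIso_pullSec' g U U' h F W _ le_rfl s (resLE_image_le g U U' h W)

end Groth.Agent.CohPullLib
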