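import Groth.Agent.QCoh.FlatCoh
import Groth.Agent.QCoh.BaseChangeCx
import Groth.Agent.FlatCxLib.TFunctor
import Mathlib.Algebra.Category.ModuleCat.ChangeOfRings

/-!
# Exchange maps of a complex that is flat over a smaller ring
-/

set_option backward.isDefEq.respectTransparency false
set_option backward.isDefEq.respectTransparency.types false
set_option linter.style.haveILetI false
set_option maxHeartbeats 1000000

universe u

open CategoryTheory CategoryTheory.Limits
open scoped TensorProduct

namespace Groth.Agent.CohPullLib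

open Groth.Agent.QCoh

variable {R C : Type u} [CommRing R] [CommRing C] [Algebra R C] (P : ChainComplex (ModuleCat.{u} C) ℤ)

/-- The complex over the smaller ring. -/
noncomputable abbrev resCx : ChainComplex (ModuleCat.{u} R) ℤ :=
  ((ModuleCat.restrictScalars (algebraMap R C)).mapHomologicalComplex _).obj P

/-- `X ⊗_C (C ⊗_R N) ≅ X ⊗_R N`. -/
noncomputable def cancelEquiv (X : ModuleCat.{u} C) (N : Type u) [AddCommGroup N] [Module R N] :
    X ⊗[C] (C ⊗[R] N) ≃+ ((ModuleCat.restrictScalars (algebraMap R C)).obj X) ⊗[R] N :=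
  letI : Module R X := Module.compHom X (algebraMap R C)
  haveI : IsScalarTower R C X := .of_algebraMap_smul fun _ _ => rfl
  (TensorProduct.AlgebraTensorModule.cancelBaseChange R C C X N).toAddEquiv

theorem cancelEquiv_tmul (X : ModuleCat.{u} C) (N : Type u) [AddCommGroup N] [Module R N] (x : X) (c : C) (n : N) :
    cancelEquiv X N (x ⊗ₜ[C] (c ⊗ₜ[R] n)) =
      (show (ModuleCat.restrictScalars (algebraMap R C)).obj X from (c • x : X)) ⊗ₜ[R] n :=
  rfl

/-- The comparison of complexes. -/
noncomputable def cancelCx (N : ModuleCat.{u} R) :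
    ((forget₂ (ModuleCat.{u} C) AddCommGrpCat.{u}).mapHomologicalComplex _).obj
        (CohIII.tensorObj P ((bcFunctor R C).obj N)) ≅
      ((forget₂ (ModuleCat.{u} R) AddCommGrpCat.{u}).mapHomologicalComplex _).obj
        (CohIII.tensorObj (resCx P) N) :=
  HomologicalComplex.Hom.isoOfComponents (fun i => AddEquiv.toAddCommGrpIso (cancelEquiv (P.X i) N))
    fun i j _ => AddCommGrpCat.ext fun z => by
      let L₁ : P.X i ⊗[C] (C ⊗[R] N) →+ (resCx (R := R) P).X j ⊗[R] N :=
        (((resCx (R := R) P).d i j).hom.rTensor N).toAddMonoidHom.comp (cancelEquiv (P.X i) N).toAddMonoidHom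
      let L₂ : P.X i ⊗[C] (C ⊗[R] N) →+ (resCx (R := R) P).X j ⊗[R] N :=
        (cancelEquiv (P.X j) N).toAddMonoidHom.comp ((P.d i j).hom.rTensor (C ⊗[R] N)).toAddMonoidHom
      suffices h : L₁ = L₂ from congrArg (fun L : _ →+ _ => L z) h
      refine AddMonoidHom.ext fun w => ?_
      induction w using TensorProduct.induction_on with
      | zero => simp only [map_zero]
      | add a b ha hb => simp only [map_add, ha, hb]
      | tmul x y =>
        induction y using TensorProduct.induction_on with
        | zero => simp only [TensorProduct.tmul_zero, map_zero]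
        | add a b ha hb => simp only [TensorProduct.tmul_add, map_add, ha, hb]
        | tmul c n =>
          show (show (resCx (R := R) P).X j from (P.d i j).hom (c • x)) ⊗ₜ[R] n =
            (show (resCx (R := R) P).X j from c • (P.d i j).hom x) ⊗ₜ[R] n
          rw [map_smul]

theorem nonempty_bcFunctor_tfun_iso (q : ℤ) :
    Nonempty (bcFunctor R C ⋙ CohIII.TFun P q ⋙ forget₂ (ModuleCat.{u} C) AddCommGrpCat.{u} ≅
      CohIII.TFun (resCx (R := R) P) q ⋙ forget₂ (ModuleCat.{u} R) AddCommGrpCat.{u}) := by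
  let GC := forget₂ (ModuleCat.{u} C) AddCommGrpCat.{u}
  let GR := forget₂ (ModuleCat.{u} R) AddCommGrpCat.{u}
  refine ⟨NatIso.ofComponents (fun N =>
    (((CohIII.tensorObj P ((bcFunctor R C).obj N)).sc q).mapHomologyIso GC).symm ≪≫
      (HomologicalComplex.homologyFunctor _ _ q).mapIso (cancelCx P N) ≪≫
      ((CohIII.tensorObj (resCx (R := R) P) N).sc q).mapHomologyIso GR) fun {N N'} g => ?_⟩
  have hα : (GC.mapHomologicalComplex _).map (CohIII.tensorMap P ((bcFunctor R C).map g)) ≫ (cancelCx P N').hom =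
      (cancelCx P N).hom ≫ (GR.mapHomologicalComplex _).map (CohIII.tensorMap (resCx (R := R) P) g) := by
    ext i : 1
    refine AddCommGrpCat.ext fun z => ?_
    let L₁ : P.X i ⊗[C] (C ⊗[R] N) →+ (resCx (R := R) P).X i ⊗[R] N' :=
      (cancelEquiv (P.X i) N').toAddMonoidHom.comp ((g.hom.baseChange C).lTensor (P.X i)).toAddMonoidHom
    let L₂ : P.X i ⊗[C] (C ⊗[R] N) →+ (resCx (R := R) P).X i ⊗[R] N' :=
      (g.hom.lTensor ((resCx (R := R) P).X i)).toAddMonoidHom.comp (cancelEquiv (P.X i) N).toAddMonoidHom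
    suffices h : L₁ = L₂ from congrArg (fun L : _ →+ _ => L z) h
    refine AddMonoidHom.ext fun w => ?_
    induction w using TensorProduct.induction_on with
    | zero => simp only [map_zero]
    | add a b ha hb => simp only [map_add, ha, hb]
    | tmul x y =>
      induction y using TensorProduct.induction_on with
      | zero => simp only [TensorProduct.tmul_zero, map_zero]
      | add a b ha hb => simp only [TensorProduct.tmul_add, map_add, ha, hb]
      | tmul c n => rfl
  have h1 := ShortComplex.mapHomologyIso_inv_naturality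
    ((HomologicalComplex.shortComplexFunctor (ModuleCat.{u} C) _ q).map
      (CohIII.tensorMap P ((bcFunctor R C).map g))) GC
  have h2 := congrArg (fun f => HomologicalComplex.homologyMap f q) hα
  have h3 := ShortComplex.mapHomologyIso_hom_naturality
    ((HomologicalComplex.shortComplexFunctor (ModuleCat.{u} R) _ q).map
      (CohIII.tensorMap (resCx (R := R) P) g)) GR
  simp only [HomologicalComplex.homologyMap_comp] at h2
  refine AddCommGrpCat.ext fun x => ?_
  refine (congrArg (fun y => ((CohIII.tensorObj (resCx (R := R) P) N').sc q).mapHomologyIso GR |>.hom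
    (HomologicalComplex.homologyMap (cancelCx P N').hom q y)) (ConcreteCategory.congr_hom h1 x)).trans ?_
  refine (congrArg (((CohIII.tensorObj (resCx (R := R) P) N').sc q).mapHomologyIso GR).hom
    (ConcreteCategory.congr_hom h2 _)).trans ?_
  exact ConcreteCategory.congr_hom h3 _

section General

open FlatCxLib

variable (T : ModuleCat.{u} C ⥤ ModuleCat.{u} C) [T.Additive] [T.Linear C]
  [∀ J : Type u, PreservesColimitsOfShape (Discrete J) T]

theorem bijective_tM_bcFunctor
    (hepi : ∀ {M N : ModuleCat.{u} R} (g : M ⟶ N), Function.Surjective g.hom →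
      Function.Surjective (T.map ((bcFunctor R C).map g)).hom)
    (hex : ∀ S : ShortComplex (ModuleCat.{u} R), S.ShortExact → ∀ x : T.obj ((bcFunctor R C).obj S.X₂),
      (T.map ((bcFunctor R C).map S.g)).hom x = 0 → ∃ y, (T.map ((bcFunctor R C).map S.f)).hom y = x)
    (N : ModuleCat.{u} R) : Function.Bijective (tM T ((bcFunctor R C).obj N)) := by
  obtain ⟨S, hS, hF, ⟨e⟩⟩ := exists_free_cover N
  suffices h : Function.Bijective (tM T ((bcFunctor R C).obj S.X₃)) by
    have h' : IsIso ((tNat T).app ((bcFunctor R C).obj S.X₃)) := (ConcreteCategory.isIso_iff_bijective _).2 h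
    exact (ConcreteCategory.isIso_iff_bijective ((tNat T).app ((bcFunctor R C).obj N))).1
      ((NatTrans.isIso_app_iff_of_iso _ ((bcFunctor R C).mapIso e)).1 h')
  obtain ⟨S', hS', hF', ⟨e'⟩⟩ := exists_free_cover S.X₁
  let E := bcFunctor R C
  let p : S'.X₂ ⟶ S.X₁ := S'.g ≫ e'.hom
  have hp : Function.Surjective p.hom := e'.toLinearEquiv.surjective.comp hS'.moduleCat_surjective_g
  haveI : Module.Free C (E.obj S.X₂) := inferInstanceAs (Module.Free C (C ⊗[R] S.X₂))
  haveI : Module.Free C (E.obj S'.X₂) := inferInstanceAs (Module.Free C (C ⊗[R] S'.X₂))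
  have hn := fun {X Y : ModuleCat.{u} C} (f : X ⟶ Y) z =>
    ConcreteCategory.congr_hom ((tNat T).naturality f) z
  refine ⟨(injective_iff_map_eq_zero _).2 fun v hv => ?_, fun y => ?_⟩
  · have hsg : Function.Surjective (E.map S.g).hom :=
      LinearMap.lTensor_surjective C hS.moduleCat_surjective_g
    obtain ⟨w, rfl⟩ := LinearMap.lTensor_surjective (T.obj (ModuleCat.of C C)) hsg v
    obtain ⟨z, hz⟩ := hex S hS (tM T (E.obj S.X₂) w) ((hn (E.map S.g) w).symm.trans hv)
    obtain ⟨z₁, rfl⟩ := hepi p hp z
    obtain ⟨w₁, rfl⟩ := (bijective_tM_free T (E.obj S'.X₂)).2 z₁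
    have hw : w = (E.map S.f).hom.lTensor _ ((E.map p).hom.lTensor _ w₁) := by
      refine (bijective_tM_free T (E.obj S.X₂)).1 (hz.symm.trans ?_)
      exact ((congrArg (T.map (E.map S.f)).hom (hn (E.map p) w₁).symm)).trans (hn (E.map S.f) _).symm
    rw [hw]
    show (E.map S.g).hom.lTensor _ ((E.map S.f).hom.lTensor _ _) = 0
    rw [← LinearMap.comp_apply, ← LinearMap.lTensor_comp,
      show (E.map S.g).hom ∘ₗ (E.map S.f).hom = 0 from by
        rw [← ModuleCat.hom_comp, ← E.map_comp, S.zero, E.map_zero]; rfl,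
      LinearMap.lTensor_zero]
    rfl
  · obtain ⟨z, rfl⟩ := hepi S.g hS.moduleCat_surjective_g y
    obtain ⟨w, rfl⟩ := (bijective_tM_free T (E.obj S.X₂)).2 z
    exact ⟨_, hn (E.map S.g) w⟩

end General

/-- Flatness over the smaller ring gives the exchange property for extended modules. -/
theorem bijective_tM_of_flat_rel (hfl : ∀ i, Module.Flat R ((resCx (R := R) P).X i)) (d : ℤ)
    (hlow : ∀ q, q < d → ∀ M, IsZero ((CohIII.TFun P q).obj M))
    (hH : ∀ q, Module.Flat R ((ModuleCat.restrictScalars (algebraMap R C)).obj (P.homology q)))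
    (q : ℤ) (N : ModuleCat.{u} R) :
    Function.Bijective (FlatCxLib.tM (CohIII.TFun P q) ((bcFunctor R C).obj N)) := by
  let Q : ChainComplex (ModuleCat.{u} R) ℤ := resCx P
  have hlowQ : ∀ r, r < d → ∀ M, IsZero ((CohIII.TFun Q r).obj M) := fun r hr M => by
    obtain ⟨e⟩ := nonempty_bcFunctor_tfun_iso (R := R) P r
    haveI := ModuleCat.subsingleton_of_isZero (hlow r hr ((bcFunctor R C).obj M))
    haveI : Subsingleton ((CohIII.TFun Q r).obj M) :=
      (e.app M).addCommGroupIsoToAddEquiv.toEquiv.subsingleton_congr.1 ‹_›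
    exact ModuleCat.isZero_of_subsingleton _
  have hHQ : ∀ r, Module.Flat R (Q.homology r) := fun r => by
    haveI : Module.Flat R ((ModuleCat.restrictScalars (algebraMap R C)).obj (P.sc r).homology) := hH r
    exact Module.Flat.of_linearEquiv
      ((P.sc r).mapHomologyIso (ModuleCat.restrictScalars (algebraMap R C))).toLinearEquiv
  have hE := (isExactT_all_of_flat Q hfl d hlowQ hHQ q).2
  obtain ⟨e⟩ := nonempty_bcFunctor_tfun_iso (R := R) P q
  let η := fun M => (e.app M).addCommGroupIsoToAddEquiv
  have hη : ∀ {M M' : ModuleCat.{u} R} (g : M ⟶ M') x,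
      η M' (((CohIII.TFun P q).map ((bcFunctor R C).map g)).hom x) =
        ((CohIII.TFun Q q).map g).hom (η M x) := fun g x =>
    ConcreteCategory.congr_hom (e.hom.naturality g) x
  haveI := FlatCxLib.preservesColimitsOfShape_tfun P q
  refine bijective_tM_bcFunctor (CohIII.TFun P q) (fun {M M'} g hg y => ?_) (fun S hS x hx => ?_) N
  · haveI : Epi g := (ModuleCat.epi_iff_surjective g).2 hg
    haveI := hE
    obtain ⟨z, hz⟩ := (ModuleCat.epi_iff_surjective ((CohIII.TFun Q q).map g)).1 inferInstance (η M' y)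
    refine ⟨(η M).symm z, (η M').injective ?_⟩
    rw [hη, AddEquiv.apply_symm_apply]
    exact hz
  · obtain ⟨z, hz⟩ := (ShortComplex.moduleCat_exact_iff _).1 (FlatCxLib.halfExact_tfun hfl q S hS) (η S.X₂ x)
      ((hη S.g x).symm.trans ((congrArg (η S.X₃) hx).trans (map_zero _)))
    refine ⟨(η S.X₁).symm z, (η S.X₂).injective ?_⟩
    rw [hη, AddEquiv.apply_symm_apply]
    exact hz

end Groth.Agent.CohPullLib
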