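import Groth.Agent.CohPullLib.BCAffine
import Groth.Agent.CohPullLib.RelExact
import Groth.Agent.FComplLib.AffMod

/-!
# Base change with higher direct images flat over a smaller base
-/

set_option backward.isDefEq.respectTransparency false
set_option backward.isDefEq.respectTransparency.types false
set_option linter.style.haveILetI false
set_option maxRecDepth 4000
set_option maxHeartbeats 1000000

universe u

open CategoryTheory CategoryTheory.Limits AlgebraicGeometry TopologicalSpace Opposite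
open scoped TensorProduct

namespace Groth.Agent.CohPullLib

open Groth.Agent.QCoh

theorem isIso_of_bijective_cover {X : Scheme.{u}} {M N : X.Modules} (hM : Coh.IsQCoh M) (hN : Coh.IsQCoh N)
    (φ : M ⟶ N) {ι : Type u} (U : ι → X.Opens) (hU : ∀ i, IsAffineOpen (U i)) (hcov : ∀ x, ∃ i, x ∈ U i)
    (h : ∀ i, Function.Bijective (φ.app (U i))) : IsIso φ := by
  have hz : ∀ {P : X.Modules}, Coh.IsQCoh P → (∀ i, ∀ z : Γ(P, U i), z = 0) → IsZero P :=
    fun hP hP0 => QCoh.isZero_of_cover hP U hU hcov fun i => subsingleton_of_forall_eq 0 (hP0 i)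
  have : Mono φ := by
    refine Preadditive.mono_of_kernel_zero ?_
    refine IsZero.eq_of_src (hz (QCoh.isQCoh_kernel hM hN φ) fun i z => ?_) _ _
    refine QCoh.app_injective (kernel.ι φ) (U i) ((h i).1 ?_)
    have := congrArg (fun ψ => Scheme.Modules.Hom.app ψ (U i) z) (kernel.condition φ)
    rw [map_zero, map_zero]
    exact this
  have : Epi φ := by
    refine Preadditive.epi_of_cokernel_zero ?_
    refine IsZero.eq_of_tgt (hz (QCoh.isQCoh_cokernel hM hN φ) fun i z => ?_) _ _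
    obtain ⟨y, rfl⟩ := QCoh.app_surjective_of_epi hN (QCoh.isQCoh_cokernel hM hN φ)
      (cokernel.π φ) (hU i) z
    obtain ⟨w, rfl⟩ := (h i).2 y
    exact congrArg (fun ψ => Scheme.Modules.Hom.app ψ (U i) w) (cokernel.condition φ)
  exact isIso_of_mono_of_epi φ

section Model

variable {R C : Type u} [CommRing R] [CommRing C] [Algebra R C]

theorem flat_resCx_revCx (K : CochainComplex (ModuleCat.{u} C) ℕ)
    (hK : ∀ m, Module.Flat R ((ModuleCat.restrictScalars (algebraMap R C)).obj (K.X m))) (i : ℤ) :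
    Module.Flat R ((resCx (R := R) (revCx (FlatModel.toZ K))).X i) := by
  let G := ModuleCat.restrictScalars (algebraMap R C)
  show Module.Flat R (G.obj ((FlatModel.toZ K).X (-i)))
  by_cases hi : 0 < i
  · haveI : Subsingleton (G.obj ((FlatModel.toZ K).X (-i))) :=
      ModuleCat.subsingleton_of_isZero (G.map_isZero (FlatModel.isZero_toZ K (-i) (by lia)))
    infer_instance
  · obtain ⟨m, hm⟩ : ∃ m : ℕ, ComplexShape.embeddingUpNat.f m = -i := ⟨(-i).toNat, by simp; lia⟩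
    haveI := hK m
    exact Module.Flat.of_linearEquiv (G.mapIso (K.extendXIso ComplexShape.embeddingUpNat hm)).toLinearEquiv

variable {X : Scheme.{u}} [X.Over (Spec (CommRingCat.of C))]

theorem flat_res_cechA (F : X.Modules) {ι : Type u} [Finite ι] (U : ι → X.Opens)
    (hU : ∀ {p : ℕ} (σ : Fin (p + 1) → ι), IsAffineOpen (⨅ a, U (σ a)))
    (hF : ∀ V : X.Opens, IsAffineOpen V →
      letI := secModule ((Coh.toGlobal (X ↘ Spec (CommRingCat.of C))).comp (algebraMap R C)) F V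
      Module.Flat R Γ(F, V)) (m : ℕ) :
    Module.Flat R ((ModuleCat.restrictScalars (algebraMap R C)).obj ((cechA (A := C) F U).X m)) := by
  classical
  have := Fintype.ofFinite ι
  let ρ := Coh.toGlobal (X ↘ Spec (CommRingCat.of C))
  letI := fun σ : Fin (m + 1) → ι => secModule ρ F (⨅ a, U (σ a))
  letI := fun σ : Fin (m + 1) → ι => secModule (ρ.comp (algebraMap R C)) F (⨅ a, U (σ a))
  haveI : ∀ σ : Fin (m + 1) → ι, Module.Flat R Γ(F, ⨅ a, U (σ a)) := fun σ => hF _ (hU σ)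
  haveI := Module.Flat.of_linearEquiv (DFinsupp.linearEquivFunOnFintype (R := R)
    (M := fun σ : Fin (m + 1) → ι => Γ(F, ⨅ a, U (σ a)))).symm
  let e : ((ModuleCat.restrictScalars (algebraMap R C)).obj ((cechA (A := C) F U).X m)) ≃ₗ[R]
      (∀ σ : Fin (m + 1) → ι, Γ(F, ⨅ a, U (σ a))) :=
    { toFun := coordEquiv ρ U F m
      map_add' := map_add (coordEquiv ρ U F m)
      map_smul' := fun r x => (coordEquiv ρ U F m).map_smul (algebraMap R C r) x
      invFun := (coordEquiv ρ U F m).symm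
      left_inv := (coordEquiv ρ U F m).left_inv
      right_inv := (coordEquiv ρ U F m).right_inv }
  exact Module.Flat.of_linearEquiv e

/-- The functor computing the cohomology of `F ⊗ M`, with the exchange property for extended modules. -/
theorem exists_functor_of_flat_rel [CompactSpace X] [X.IsSeparated] {F : X.Modules} (hF : Coh.IsQCoh F)
    (hfl : ∀ V : X.Opens, IsAffineOpen V →
      letI := secModule ((Coh.toGlobal (X ↘ Spec (CommRingCat.of C))).comp (algebraMap R C)) F V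
      Module.Flat R Γ(F, V))
    (hH : ∀ p : ℕ,
      letI := modHH ((Coh.toGlobal (X ↘ Spec (CommRingCat.of C))).comp (algebraMap R C)) F p
      Module.Flat R (Coh.HH X F p)) (n : ℕ) :
    ∃ (T : ModuleCat.{u} C ⥤ ModuleCat.{u} C) (_ : T.Additive) (_ : T.Linear C),
      Nonempty (T ⋙ forget₂ _ AddCommGrpCat.{u} ≅ CohIII.tensorAFunctor C F ⋙ CohIII.HAb X n) ∧
      ∀ N : ModuleCat.{u} R, Function.Bijective (FlatCxLib.tM T ((bcFunctor R C).obj N)) := by
  obtain ⟨κ, _, U, hcov, hU⟩ := exists_affine_cover (X := X)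
  obtain ⟨d, hd⟩ := exists_HH_bound (X := X)
  let K := cechA (A := C) F U
  let P := revCx (FlatModel.toZ K)
  have hP : ∀ p : ℕ, Nonempty (CohIII.TFun P (-(p : ℤ)) ⋙ forget₂ (ModuleCat.{u} C) AddCommGrpCat.{u} ≅
      CohIII.tensorAFunctor C F ⋙ CohIII.HAb X p) := fun p => by
    obtain ⟨r⟩ := nonempty_tfun_revCx (FlatModel.toZ K) (-(p : ℤ))
    obtain ⟨z⟩ := FlatModel.nonempty_tfun_toZ K p
    obtain ⟨e⟩ := nonempty_tfun_iso (A := C) F hF hcov hU p
    exact ⟨Functor.isoWhiskerRight (r ≪≫ eqToIso (by rw [neg_neg]) ≪≫ z) _ ≪≫ e⟩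
  have hlow : ∀ q : ℤ, q < -(d : ℤ) → ∀ M, IsZero ((CohIII.TFun P q).obj M) := fun q hq M => by
    obtain ⟨p, rfl⟩ : ∃ p : ℕ, q = -(p : ℤ) := ⟨(-q).toNat, by lia⟩
    obtain ⟨e⟩ := hP p
    have h0 : Subsingleton (Coh.HH X (tA F M) p) := hd _ (isQCoh_tA F hF M) p (by lia)
    haveI : Subsingleton ((CohIII.TFun P (-(p : ℤ))).obj M) :=
      (e.app M).addCommGroupIsoToAddEquiv.toEquiv.subsingleton_congr.2 h0
    exact ModuleCat.isZero_of_subsingleton _
  have hHP : ∀ p : ℕ,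
      letI := modHH (Coh.toGlobal (X ↘ Spec (CommRingCat.of C))) F p
      Nonempty (P.homology (-(p : ℤ)) ≃ₗ[C] Coh.HH X F p) := fun p => by
    obtain ⟨r⟩ := nonempty_tfun_revCx (FlatModel.toZ K) (-(p : ℤ))
    obtain ⟨z⟩ := FlatModel.nonempty_tfun_toZ K p
    obtain ⟨e₁⟩ := cxMod_homology_equiv (Coh.toGlobal (X ↘ Spec (CommRingCat.of C))) U hcov hU hF p
    exact ⟨(FlatCxLib.tUnitIso (P := P) (-(p : ℤ))).toLinearEquiv.symm.trans
      (((r ≪≫ eqToIso (by rw [neg_neg]) ≪≫ z).app (ModuleCat.of C C)).toLinearEquiv.trans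
        (((HomologicalComplex.homologyFunctor _ _ p).mapIso (tensorSelfIso K)).toLinearEquiv.trans e₁))⟩
  have hflH : ∀ q, Module.Flat R ((ModuleCat.restrictScalars (algebraMap R C)).obj (P.homology q)) := fun q => by
    by_cases hq : 0 < q
    · haveI : Subsingleton ((ModuleCat.restrictScalars (algebraMap R C)).obj (P.homology q)) :=
        ModuleCat.subsingleton_of_isZero (Functor.map_isZero _ ((HomologicalComplex.exactAt_iff_isZero_homology P q).1
          (HomologicalComplex.ExactAt.of_isZero (FlatModel.isZero_toZ K (-q) (by lia)))))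
      infer_instance
    · obtain ⟨p, rfl⟩ : ∃ p : ℕ, q = -(p : ℤ) := ⟨(-q).toNat, by lia⟩
      obtain ⟨l⟩ := hHP p
      letI := modHH (Coh.toGlobal (X ↘ Spec (CommRingCat.of C))) F p
      letI := modHH ((Coh.toGlobal (X ↘ Spec (CommRingCat.of C))).comp (algebraMap R C)) F p
      haveI := hH p
      let l' : ((ModuleCat.restrictScalars (algebraMap R C)).obj (P.homology (-(p : ℤ)))) ≃ₗ[R] Coh.HH X F p :=
        { toFun := l
          map_add' := map_add l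
          map_smul' := fun r x => l.map_smul (algebraMap R C r) x
          invFun := l.symm
          left_inv := l.left_inv
          right_inv := l.right_inv }
      exact Module.Flat.of_linearEquiv l'
  obtain ⟨e⟩ := hP n
  exact ⟨CohIII.TFun P (-(n : ℤ)), inferInstance, inferInstance, ⟨e⟩,
    bijective_tM_of_flat_rel P (flat_resCx_revCx K (flat_res_cechA F U hU hfl)) _ hlow hflH _⟩

end Model

section Main

variable {X Y S X' Y' S' : Scheme.{u}} {a : X ⟶ S} {b : Y ⟶ S} {f : X ⟶ Y} {g : S' ⟶ S} {gY : Y' ⟶ Y}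
  {b' : Y' ⟶ S'} {gX : X' ⟶ X} {f' : X' ⟶ Y'}

theorem flat_sect_of_isFlatOver (hf : f ≫ b = a) {F : X.Modules} (hF : Coh.IsQCoh F)
    (hfl : FlatMod.IsFlatOver a F) {V₀ : S.Opens} (hV₀ : IsAffineOpen V₀) {V : Y.Opens} (hV : IsAffineOpen V)
    (hle : V ≤ b ⁻¹ᵁ V₀) :
    letI : Algebra Γ(S, V₀) Γ(Y, V) := (b.appLE V₀ V hle).hom.toAlgebra
    ∀ O : (f ⁻¹ᵁ V).toScheme.Opens, IsAffineOpen O →
      letI := secModule ((Coh.toGlobal (secπ f hV (le_refl (f ⁻¹ᵁ V)))).comp (algebraMap Γ(S, V₀) Γ(Y, V)))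
        (F.restrict (f ⁻¹ᵁ V).ι) O
      Module.Flat Γ(S, V₀) Γ(F.restrict (f ⁻¹ᵁ V).ι, O) := by
  letI : Algebra Γ(S, V₀) Γ(Y, V) := (b.appLE V₀ V hle).hom.toAlgebra
  intro O hO
  subst hf
  let U := f ⁻¹ᵁ V
  let O' := U.ι ''ᵁ O
  have hO' : IsAffineOpen O' := hO.image_of_isOpenImmersion U.ι
  have hle' : O' ≤ (f ≫ b) ⁻¹ᵁ V₀ := (U.ι_image_le O).trans (f.preimage_mono hle)
  letI : Module Γ(S, V₀) Γ(F, O') := Module.compHom _ ((f ≫ b).appLE V₀ O' hle').hom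
  haveI h : Module.Flat Γ(S, V₀) Γ(F, O') := (flat_appLE_iff (f ≫ b) hF hO' hV₀ hle').2 fun x _ => hfl x
  letI := secModule ((Coh.toGlobal (secπ f hV (le_refl (f ⁻¹ᵁ V)))).comp (algebraMap Γ(S, V₀) Γ(Y, V)))
    (F.restrict U.ι) O
  let e : Γ(F.restrict U.ι, O) ≃ₗ[Γ(S, V₀)] Γ(F, O') :=
    { toFun := fun s => s
      map_add' := fun _ _ => rfl
      map_smul' := fun r s => by
        refine congrArg (fun c : Γ(X, O') => c • (show Γ(F, O') from s)) ?_
        show (U.ι.appIso O).inv (U.toScheme.presheaf.map (homOfLE le_top).op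
            (Coh.toGlobal (secπ f hV (le_refl (f ⁻¹ᵁ V))) (b.appLE V₀ V hle r))) = (f ≫ b).appLE V₀ O' hle' r
        rw [toGlobal_secπ, Scheme.Opens.ι_appIso, ← Scheme.Hom.appLE_comp_appLE f b V₀ V O' hle
          ((U.ι_image_le O).trans le_rfl)]
        simp only [Scheme.Opens.topIso_inv, Scheme.Opens.toScheme_presheaf_map, CommRingCat.comp_apply]
        exact congr($((congrArg (CategoryStruct.comp _) ((X.presheaf.map_comp _ _).symm.trans
          (congrArg X.presheaf.map (Subsingleton.elim _ (homOfLE (U.ι_image_le O)).op)))).trans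
            (Scheme.Hom.appLE_map f (le_refl U) _)) (b.appLE V₀ V hle r))
      invFun := fun s => s
      left_inv := fun _ => rfl
      right_inv := fun _ => rfl }
  exact Module.Flat.of_linearEquiv e

variable [HasInjectiveResolutions X.Modules] {Δ : RDer.DerivedLES (Scheme.Modules.pushforward f)}

theorem flat_HH_of_flat_Rpush (E : CohCmp.SectCmp f Δ) [QuasiCompact f] [QuasiSeparated f] {F : X.Modules}
    (hF : Coh.IsQCoh F) (p : ℕ) (hR : FlatMod.IsFlatOver b ((Coh.Rpush f p).obj F))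
    {V₀ : S.Opens} (hV₀ : IsAffineOpen V₀) {V : Y.Opens} (hV : IsAffineOpen V) (hle : V ≤ b ⁻¹ᵁ V₀) :
    letI : Algebra Γ(S, V₀) Γ(Y, V) := (b.appLE V₀ V hle).hom.toAlgebra
    letI := modHH ((Coh.toGlobal (secπ f hV (le_refl (f ⁻¹ᵁ V)))).comp (algebraMap Γ(S, V₀) Γ(Y, V)))
      (F.restrict (f ⁻¹ᵁ V).ι) p
    Module.Flat Γ(S, V₀) (Coh.HH (f ⁻¹ᵁ V).toScheme (F.restrict (f ⁻¹ᵁ V).ι) p) := by
  letI : Algebra Γ(S, V₀) Γ(Y, V) := (b.appLE V₀ V hle).hom.toAlgebra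
  let F₀ := F.restrict (f ⁻¹ᵁ V).ι
  letI := modHH ((Coh.toGlobal (secπ f hV (le_refl (f ⁻¹ᵁ V)))).comp (algebraMap Γ(S, V₀) Γ(Y, V))) F₀ p
  let M := (Coh.Rpush f p).obj F
  letI : Module Γ(S, V₀) Γ(M, V) := Module.compHom _ (b.appLE V₀ V hle).hom
  haveI : Module.Flat Γ(S, V₀) Γ(M, V) :=
    (flat_appLE_iff b (isQCoh_Rpush f hF p) hV hV₀ hle).2 fun x _ => hR x
  let e : Coh.HH (f ⁻¹ᵁ V).toScheme F₀ p ≃ₗ[Γ(S, V₀)] Γ(M, V) :=
    (AddEquiv.ofBijective (E.ε V F p) (eps_bijective_of_isAffineOpen E hF hV p)).toLinearEquiv fun r x => by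
      show E.ε V F p (Sheaf.H.map (Coh.smulAb F₀
        (Coh.toGlobal (secπ f hV (le_refl (f ⁻¹ᵁ V))) (b.appLE V₀ V hle r))) p x) = b.appLE V₀ V hle r • E.ε V F p x
      rw [toGlobal_secπ, ← Scheme.Hom.app_eq_appLE]
      exact eps_smul E V _ p F x
  exact Module.Flat.of_linearEquiv e

variable [HasInjectiveResolutions X'.Modules]
  {Δ' : RDer.DerivedLES (Scheme.Modules.pushforward f')} {E : CohCmp.SectCmp f Δ} {E' : CohCmp.SectCmp f' Δ'}

theorem isIso_bc_of_flat_rel [IsSeparated f] [QuasiCompact f] (hf : f ≫ b = a) (hY : IsPullback gY b' b g)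
    (hX : IsPullback gX f' f gY) (B : CohCmp.GenBC f gY f' gX hX.w E E') {F : X.Modules} (hF : Coh.IsQCoh F)
    (hfl : FlatMod.IsFlatOver a F) (hR : ∀ n : ℕ, FlatMod.IsFlatOver b ((Coh.Rpush f n).obj F)) (n : ℕ) :
    IsIso (B.bc n F) := by
  haveI : QuasiCompact f' := MorphismProperty.of_isPullback hX ‹_›
  haveI : IsSeparated f' := MorphismProperty.of_isPullback hX ‹_›
  have hcov : ∀ y : Y', ∃ (V₀ : S.Opens) (W₀ : S'.Opens) (V : Y.Opens), IsAffineOpen V₀ ∧ IsAffineOpen W₀ ∧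
      IsAffineOpen V ∧ W₀ ≤ g ⁻¹ᵁ V₀ ∧ V ≤ b ⁻¹ᵁ V₀ ∧ y ∈ gY ⁻¹ᵁ V ⊓ b' ⁻¹ᵁ W₀ := fun y => by
    obtain ⟨V₀, hV₀, h₀, -⟩ := exists_isAffineOpen_mem_and_subset (x := g (b' y)) (U := (⊤ : S.Opens)) (by simp)
    obtain ⟨W₀, hW₀, hw, hle⟩ := exists_isAffineOpen_mem_and_subset (x := b' y) (U := g ⁻¹ᵁ V₀) h₀
    have hb : gY y ∈ b ⁻¹ᵁ V₀ := by
      show b (gY y) ∈ V₀
      rw [← Scheme.Hom.comp_apply, hY.w]
      exact h₀
    obtain ⟨V, hV, hv, hle'⟩ := exists_isAffineOpen_mem_and_subset (x := gY y) (U := b ⁻¹ᵁ V₀) hb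
    exact ⟨V₀, W₀, V, hV₀, hW₀, hV, hle, hle', hv, hw⟩
  choose V₀ W₀ V hV₀ hW₀ hV hle₀ hle hy using hcov
  have hsq := fun i => Scheme.Hom.isPullback_resLE hY (hle₀ i) (hle i) (rfl : gY ⁻¹ᵁ V i ⊓ b' ⁻¹ᵁ W₀ i = _)
  have hW : ∀ i, IsAffineOpen (gY ⁻¹ᵁ V i ⊓ b' ⁻¹ᵁ W₀ i) := fun i => by
    haveI : IsAffine (V i).toScheme := hV i
    haveI : IsAffine (W₀ i).toScheme := hW₀ i
    haveI : IsAffine (V₀ i).toScheme := hV₀ i
    exact IsAffine.of_isPullback (hsq i)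
  refine isIso_of_bijective_cover (isQCoh_pullback gY (isQCoh_Rpush f hF n))
    (isQCoh_Rpush f' (isQCoh_pullback gX hF) n) (B.bc n F) (fun i : Y' => gY ⁻¹ᵁ V i ⊓ b' ⁻¹ᵁ W₀ i)
    hW (fun y => ⟨y, hy y⟩) fun i => ?_
  let W := gY ⁻¹ᵁ V i ⊓ b' ⁻¹ᵁ W₀ i
  letI : Algebra Γ(S, V₀ i) Γ(Y, V i) := (b.appLE (V₀ i) (V i) (hle i)).hom.toAlgebra
  letI : Algebra Γ(S, V₀ i) Γ(S', W₀ i) := (g.appLE (V₀ i) (W₀ i) (hle₀ i)).hom.toAlgebra
  letI : Algebra Γ(Y, V i) Γ(Y', W) := (gY.appLE (V i) W inf_le_left).hom.toAlgebra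
  letI : Algebra Γ(S', W₀ i) Γ(Y', W) := (b'.appLE (W₀ i) W inf_le_right).hom.toAlgebra
  letI : Algebra Γ(S, V₀ i) Γ(Y', W) :=
    ((gY.appLE (V i) W inf_le_left).hom.comp (b.appLE (V₀ i) (V i) (hle i)).hom).toAlgebra
  haveI : IsScalarTower Γ(S, V₀ i) Γ(Y, V i) Γ(Y', W) := IsScalarTower.of_algebraMap_eq' rfl
  haveI : IsScalarTower Γ(S, V₀ i) Γ(S', W₀ i) Γ(Y', W) := IsScalarTower.of_algebraMap_eq fun r => by
    have h1 := congr($(Scheme.Hom.appLE_comp_appLE gY b (V₀ i) (V i) W (hle i) inf_le_left) r)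
    have h2 := congr($(Scheme.Hom.appLE_comp_appLE b' g (V₀ i) (W₀ i) W (hle₀ i) inf_le_right) r)
    show (gY.appLE (V i) W _ (b.appLE (V₀ i) (V i) _ r)) = b'.appLE (W₀ i) W _ (g.appLE (V₀ i) (W₀ i) _ r)
    simp only [CommRingCat.comp_apply] at h1 h2
    rw [h1, h2]
    simp only [hY.w]
  haveI hP : Algebra.IsPushout Γ(S, V₀ i) Γ(Y, V i) Γ(S', W₀ i) Γ(Y', W) := by
    rw [← CommRingCat.isPushout_iff_isPushout]
    haveI : IsAffine (V i).toScheme := hV i
    haveI : IsAffine (W₀ i).toScheme := hW₀ i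
    haveI : IsAffine (V₀ i).toScheme := hV₀ i
    refine (isPushout_appTop_of_isPullback (hsq i)).of_iso (V₀ i).topIso (V i).topIso (W₀ i).topIso W.topIso
      ?_ ?_ ?_ ?_ <;>
    simp [RingHom.algebraMap_toAlgebra, Scheme.Hom.appTop, W]
  letI : (f ⁻¹ᵁ V i).toScheme.Over (Spec (CommRingCat.of Γ(Y, V i))) := ⟨secπ f (hV i) le_rfl⟩
  haveI : CompactSpace (f ⁻¹ᵁ V i).toScheme :=
    isCompact_iff_compactSpace.1 (f.isCompact_preimage (hV i).isCompact)
  haveI : (f ⁻¹ᵁ V i).toScheme.IsSeparated := ⟨by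
    haveI : IsAffine (V i).toScheme := hV i
    rw [← Limits.terminal.comp_from (f.resLE (V i) (f ⁻¹ᵁ V i) le_rfl)]
    infer_instance⟩
  obtain ⟨T, hT, hT', ⟨e⟩, ht⟩ := exists_functor_of_flat_rel (R := Γ(S, V₀ i)) (C := Γ(Y, V i))
    (isQCoh_restrict (f ⁻¹ᵁ V i).ι hF) (flat_sect_of_isFlatOver hf hF hfl (hV₀ i) (hV i) (hle i))
    (fun p => flat_HH_of_flat_Rpush E hF p (hR p) (hV₀ i) (hV i) (hle i)) n
  have hb : IsBaseChange Γ(Y, V i) (IsScalarTower.toAlgHom Γ(S, V₀ i) Γ(S', W₀ i) Γ(Y', W)).toLinearMap :=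
    hP.out
  let eC : (bcFunctor Γ(S, V₀ i) Γ(Y, V i)).obj (ModuleCat.of _ Γ(S', W₀ i)) ≅
      ModuleCat.of Γ(Y, V i) Γ(Y', W) :=
    hb.equiv.toModuleIso
  have htW : Function.Bijective (FlatCxLib.tM T (ModuleCat.of Γ(Y, V i) Γ(Y', W))) :=
    (ConcreteCategory.isIso_iff_bijective ((FlatCxLib.tNat T).app _)).1
      ((NatTrans.isIso_app_iff_of_iso _ eC).1 ((ConcreteCategory.isIso_iff_bijective _).2 (ht _)))
  have hk : IsPullback (gX.resLE (f ⁻¹ᵁ V i) (f' ⁻¹ᵁ W) (sectLE hX.w inf_le_left)) (secπ f' (hW i) le_rfl)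
      ((f ⁻¹ᵁ V i).toScheme ↘ Spec (CommRingCat.of Γ(Y, V i)))
      (Spec.map (CommRingCat.ofHom (algebraMap Γ(Y, V i) Γ(Y', W)))) :=
    isPullback_sect hX (hV i) (hW i) inf_le_left
  exact bijective_bc_app B n hF (hV i) (hW i) inf_le_left
    (isBaseChange_pullMod hk (isQCoh_restrict _ hF) n T e htW)

end Main

end Groth.Agent.CohPullLib
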