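import Groth.Agent.CohPullLib.SectPull
import Groth.Prelude.Def_CohCmp

/-!
# Restriction of cohomology classes between opens: naturality, connecting maps, degree zero
-/

set_option backward.isDefEq.respectTransparency false
set_option backward.isDefEq.respectTransparency.types false
set_option maxRecDepth 4000

universe u w v v' v'' u₁ u₂ u₃

open CategoryTheory CategoryTheory.Limits CategoryTheory.Abelian AlgebraicGeometry TopologicalSpace Opposite

namespace Groth.Agent.CohPullLib

section abstract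

variable {M : Type u₁} [Category.{v} M] [Abelian M] {A : Type u₂} [Category.{v'} A] [Abelian A] [HasExt.{w} A]
  {B : Type u₃} [Category.{v''} B] [Abelian B] [HasExt.{w} B]
  {P : M ⥤ A} {Q : M ⥤ B} {L : A ⥤ B} [L.Additive] [PreservesFiniteLimits L] [PreservesFiniteColimits L]
  (T : P ⋙ L ⟶ Q) {a : A} {b : B} (i : b ⟶ L.obj a)

/-- Pull back a class along an exact functor, then apply a natural map. -/
noncomputable def pullCls (F : M) (p : ℕ) (x : Ext.{w} a (P.obj F) p) : Ext.{w} b (Q.obj F) p :=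
  ((Ext.mk₀ i).comp (x.mapExactFunctor L) (zero_add p)).comp (Ext.mk₀ (T.app F)) (add_zero p)

theorem pullCls_natural {F G : M} (φ : F ⟶ G) (p : ℕ) (x : Ext.{w} a (P.obj F) p) :
    pullCls T i G p (x.comp (Ext.mk₀ (P.map φ)) (add_zero p)) =
      (pullCls T i F p x).comp (Ext.mk₀ (Q.map φ)) (add_zero p) := by
  simp only [pullCls, Ext.mapExactFunctor_comp, Ext.mapExactFunctor_mk₀, Ext.comp_assoc_of_third_deg_zero,
    Ext.mk₀_comp_mk₀]
  congr 3
  exact T.naturality φ

theorem pullCls_delta [P.PreservesZeroMorphisms] [Q.PreservesZeroMorphisms] (S : ShortComplex M)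
    (h₁ : (S.map P).ShortExact) (h₂ : (S.map Q).ShortExact) (p : ℕ) (x : Ext.{w} a (P.obj S.X₃) p) :
    pullCls T i S.X₁ (p + 1) (x.comp (show Ext.{w} (P.obj S.X₃) (P.obj S.X₁) 1 from h₁.extClass) rfl) =
      (pullCls T i S.X₃ p x).comp (show Ext.{w} (Q.obj S.X₃) (Q.obj S.X₁) 1 from h₂.extClass) rfl := by
  have hn : (Ext.mapExactFunctor L (show Ext.{w} (P.obj S.X₃) (P.obj S.X₁) 1 from h₁.extClass)).comp
      (Ext.mk₀ (T.app S.X₁)) (add_zero 1) =
      (Ext.mk₀ (T.app S.X₃)).comp (show Ext.{w} (Q.obj S.X₃) (Q.obj S.X₁) 1 from h₂.extClass) (zero_add 1) :=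
    (congrArg (fun t => Ext.comp t (Ext.mk₀ (T.app S.X₁)) (add_zero 1)) (Ext.mapExactFunctor_extClass L h₁)).trans
      (ShortComplex.ShortExact.extClass_naturality (h₁.map_of_exact L) h₂
        ({ τ₁ := T.app S.X₁, τ₂ := T.app S.X₂, τ₃ := T.app S.X₃
           comm₁₂ := (T.naturality S.f).symm, comm₂₃ := (T.naturality S.g).symm } :
          (S.map P).map L ⟶ S.map Q))
  simp only [pullCls, Ext.mapExactFunctor_comp, Ext.comp_assoc_of_third_deg_zero, hn]
  rw [← Ext.comp_assoc_of_second_deg_zero (x.mapExactFunctor L)]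
  exact (Ext.comp_assoc _ _ _ (zero_add p) rfl (by omega)).symm

end abstract

variable {X Y : Scheme.{u}}

theorem invPushAdj_naturality (g : X ⟶ Y) {M N : Y.Modules} (φ : M ⟶ N) :
    (CohPull.inv g.base).map ((SheafOfModules.toSheaf Y.ringCatSheaf).map φ) ≫ CohPull.theta g N =
      CohPull.theta g M ≫
        (SheafOfModules.toSheaf X.ringCatSheaf).map ((Scheme.Modules.pullback g).map φ) := by
  apply ((CohPull.invPushAdj g.base).homEquiv _ _).injective
  rw [Adjunction.homEquiv_naturality_left, Adjunction.homEquiv_naturality_right, CohPull.theta,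
    CohPull.theta, Equiv.apply_symm_apply, Equiv.apply_symm_apply]
  exact (((SheafOfModules.toSheaf Y.ringCatSheaf).map_comp _ _).symm.trans
    (congrArg _ ((Scheme.Modules.pullbackPushforwardAdjunction g).unit.naturality φ))).trans
      ((SheafOfModules.toSheaf Y.ringCatSheaf).map_comp _ _)

/-- The isomorphisms of `CohPull.pullOnIso`, as a natural isomorphism. -/
noncomputable def pullOnNat (g : X ⟶ Y) (U : Y.Opens) (U' : X.Opens) (h : U' ≤ g ⁻¹ᵁ U) :
    Scheme.Modules.restrictFunctor U.ι ⋙ Scheme.Modules.pullback (g.resLE U U' h) ≅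
      Scheme.Modules.pullback g ⋙ Scheme.Modules.restrictFunctor U'.ι :=
  Functor.isoWhiskerRight (Scheme.Modules.restrictFunctorIsoPullback U.ι) _ ≪≫
    Scheme.Modules.pullbackComp (g.resLE U U' h) U.ι ≪≫
    Scheme.Modules.pullbackCongr (Scheme.Hom.resLE_comp_ι g h) ≪≫
    (Scheme.Modules.pullbackComp U'.ι g).symm ≪≫
    Functor.isoWhiskerLeft _ (Scheme.Modules.restrictFunctorIsoPullback U'.ι).symm

theorem pullOnNat_hom_app (g : X ⟶ Y) (U : Y.Opens) (U' : X.Opens) (h : U' ≤ g ⁻¹ᵁ U) (F : Y.Modules) :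
    (pullOnNat g U U' h).hom.app F = (CohPull.pullOnIso g U U' h F).hom := rfl

theorem restrict_id_le {U U' : X.Opens} (h : U' ≤ U) : U' ≤ (𝟙 X : X ⟶ X) ⁻¹ᵁ U := by
  rwa [Scheme.Hom.id_preimage]

/-- The natural map underlying `CohPull.resLE`. -/
noncomputable def resNat {U U' : X.Opens} (h : U' ≤ U) :
    CohCmp.toAbOn X U ⋙ CohPull.inv ((𝟙 X : X ⟶ X).resLE U U' (restrict_id_le h)).base ⟶
      CohCmp.toAbOn X U' where
  app F := CohPull.theta _ (F.restrict U.ι) ≫
    (SheafOfModules.toSheaf U'.toScheme.ringCatSheaf).map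
      ((pullOnNat (𝟙 X) U U' (restrict_id_le h)).hom.app F ≫
        (Scheme.Modules.restrictFunctor U'.ι).map ((Scheme.Modules.pullbackId X).hom.app F))
  naturality F G φ := by
    let j := (𝟙 X : X ⟶ X).resLE U U' (restrict_id_le h)
    show (CohPull.inv j.base).map
        ((SheafOfModules.toSheaf _).map ((Scheme.Modules.restrictFunctor U.ι).map φ)) ≫ _ ≫ _ =
      (_ ≫ _) ≫ (SheafOfModules.toSheaf U'.toScheme.ringCatSheaf).map
        ((Scheme.Modules.restrictFunctor U'.ι).map φ)
    rw [← Category.assoc, invPushAdj_naturality j, Category.assoc, Category.assoc]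
    congr 1
    refine ((SheafOfModules.toSheaf U'.toScheme.ringCatSheaf).map_comp _ _).symm.trans
      (Eq.trans (congrArg _ ?_) ((SheafOfModules.toSheaf U'.toScheme.ringCatSheaf).map_comp _ _))
    have h1 := (pullOnNat (𝟙 X) U U' (restrict_id_le h)).hom.naturality φ
    have h2 : (Scheme.Modules.pullback (𝟙 X)).map φ ≫ (Scheme.Modules.pullbackId X).hom.app G =
        (Scheme.Modules.pullbackId X).hom.app F ≫ φ := (Scheme.Modules.pullbackId X).hom.naturality φ
    simp only [Functor.comp_map] at h1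
    rw [reassoc_of% h1, Category.assoc, ← Functor.map_comp, h2, Functor.map_comp]

theorem resLE_apply (F : X.Modules) {U U' : X.Opens} (h : U' ≤ U) (p : ℕ) (x : Coh.HHon X F U p) :
    CohPull.resLE F h p x = pullCls (resNat h)
      (CohPull.oneTo ((𝟙 X : X ⟶ X).resLE U U' (restrict_id_le h)).base) F p x := by
  let j := (𝟙 X : X ⟶ X).resLE U U' (restrict_id_le h)
  show ((((Ext.mk₀ (CohPull.oneTo j.base)).comp (x.mapExactFunctor (CohPull.inv j.base)) (zero_add p)).comp
      (Ext.mk₀ (CohPull.theta j (F.restrict U.ι))) (add_zero p)).comp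
      (Ext.mk₀ ((SheafOfModules.toSheaf U'.toScheme.ringCatSheaf).map
        (CohPull.pullOnIso (𝟙 X) U U' (restrict_id_le h) F).hom)) (add_zero p)).comp
      (Ext.mk₀ ((SheafOfModules.toSheaf U'.toScheme.ringCatSheaf).map
        ((Scheme.Modules.restrictFunctor U'.ι).map ((Scheme.Modules.pullbackId X).hom.app F))))
      (add_zero p) = _
  simp only [Ext.comp_assoc_of_third_deg_zero, Ext.mk₀_comp_mk₀, pullCls]
  congr 3

theorem resLE_natural {F G : X.Modules} (φ : F ⟶ G) {U U' : X.Opens} (h : U' ≤ U) (p : ℕ)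
    (x : Coh.HHon X F U p) :
    CohPull.resLE G h p (CohPull.mapH ((Scheme.Modules.restrictFunctor U.ι).map φ) p x) =
      CohPull.mapH ((Scheme.Modules.restrictFunctor U'.ι).map φ) p (CohPull.resLE F h p x) := by
  rw [resLE_apply, resLE_apply]
  exact pullCls_natural (resNat h) _ φ p x

theorem resLE_delta (S : ShortComplex X.Modules) {U U' : X.Opens} (h : U' ≤ U)
    (h₁ : (S.map (CohCmp.toAbOn X U)).ShortExact) (h₂ : (S.map (CohCmp.toAbOn X U')).ShortExact) (p : ℕ)
    (x : Coh.HHon X S.X₃ U p) :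
    CohPull.resLE S.X₁ h (p + 1) (CohCmp.extδ h₁ p x) =
      CohCmp.extδ h₂ p (CohPull.resLE S.X₃ h p x) := by
  rw [resLE_apply, resLE_apply]
  exact pullCls_delta (resNat h) _ S h₁ h₂ p x

end Groth.Agent.CohPullLib
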