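import Groth.Agent.CohPullLib.PullOnPab

/-!
# `pullOn` and `resLE` as pullbacks along maps to direct images
-/

set_option backward.isDefEq.respectTransparency false
set_option backward.isDefEq.respectTransparency.types false
set_option maxRecDepth 4000

universe u

open CategoryTheory AlgebraicGeometry TopologicalSpace Opposite

namespace Groth.Agent.CohPullLib

open Groth.Agent.QCoh Groth.Agent.ExistEasy

variable {X Y : Scheme.{u}}

theorem restrict_pullbackId_pullSec {Z : Scheme.{u}} (i : Z ⟶ X) [IsOpenImmersion i] (F : X.Modules)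
    (O : Z.Opens) {V : X.Opens} (hle : i ''ᵁ O ≤ (𝟙 X : X ⟶ X) ⁻¹ᵁ V) (x : Γ(F, V)) :
    ((Scheme.Modules.restrictFunctor i).map ((Scheme.Modules.pullbackId X).hom.app F)).app O
        (show Γ(((Scheme.Modules.pullback (𝟙 X)).obj F).restrict i, O) from pullSec (𝟙 X) F hle x) =
      (show Γ(F.restrict i, O) from F.presheaf.map (homOfLE (show i ''ᵁ O ≤ V from hle)).op x) :=
  pullbackId_pullSec F hle x

/-- The map defining `resLE`. -/
noncomputable def resMap (F : X.Modules) {U U' : X.Opens} (h : U' ≤ U) :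
    Coh.toAb (F.restrict U.ι) ⟶
      (CohTop.push ((𝟙 X : X ⟶ X).resLE U U' (by rwa [Scheme.Hom.id_preimage])).base).obj
        (Coh.toAb (F.restrict U'.ι)) :=
  pullOnMap (𝟙 X) U U' (by rwa [Scheme.Hom.id_preimage]) F ≫
    (CohTop.push ((𝟙 X : X ⟶ X).resLE U U' (by rwa [Scheme.Hom.id_preimage])).base).map
      ((SheafOfModules.toSheaf U'.toScheme.ringCatSheaf).map
        ((Scheme.Modules.restrictFunctor U'.ι).map ((Scheme.Modules.pullbackId X).hom.app F)))

theorem resLE_eq_pab (F : X.Modules) {U U' : X.Opens} (h : U' ≤ U) (p : ℕ) (x : Coh.HHon X F U p) :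
    CohPull.resLE F h p x = pab _ (resMap F h) p x := by
  show Sheaf.H.map _ p (CohPull.pullOn (𝟙 X) U U' (by rwa [Scheme.Hom.id_preimage]) F p x) = _
  rw [pullOn_eq_pab]
  exact pab_congr_map _ _ _ p x

set_option maxHeartbeats 800000 in
theorem resMap_app (F : X.Modules) {U U' : X.Opens} (h : U' ≤ U) (W : U.toScheme.Opens)
    (s : Γ(F.restrict U.ι, W)) :
    (resMap F h).hom.app (op W) s =
      (show Γ(F.restrict U'.ι, (𝟙 X : X ⟶ X).resLE U U' (by rwa [Scheme.Hom.id_preimage]) ⁻¹ᵁ W) from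
        F.presheaf.map (homOfLE (resLE_image_le (𝟙 X) U U' (by rwa [Scheme.Hom.id_preimage]) W)).op
          (show Γ(F, U.ι ''ᵁ W) from s)) := by
  refine (compPush_app ((𝟙 X : X ⟶ X).resLE U U' (by rwa [Scheme.Hom.id_preimage]))
    (pullOnMap (𝟙 X) U U' (by rwa [Scheme.Hom.id_preimage]) F)
    ((Scheme.Modules.restrictFunctor U'.ι).map ((Scheme.Modules.pullbackId X).hom.app F)) W s).trans ?_
  refine (congrArg (((Scheme.Modules.restrictFunctor U'.ι).map ((Scheme.Modules.pullbackId X).hom.app F)).app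
      ((𝟙 X : X ⟶ X).resLE U U' (by rwa [Scheme.Hom.id_preimage]) ⁻¹ᵁ W))
    (pullOnMap_app (𝟙 X) U U' (by rwa [Scheme.Hom.id_preimage]) F W s)).trans ?_
  exact restrict_pullbackId_pullSec U'.ι F _ (resLE_image_le (𝟙 X) U U' (by rwa [Scheme.Hom.id_preimage]) W) _

end Groth.Agent.CohPullLib
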